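import Cfsg.Agent.Lib.Char.PowerMap
import Cfsg.Agent.Lib.Char.Orth
import Mathlib.Analysis.SpecialFunctions.Log.Basic
import Mathlib.RingTheory.Polynomial.Basic

/-!
# Arithmetic means of nonzero cyclotomic integers over their conjugates
-/

set_option autoImplicit false

open Polynomial

namespace CfsgLib.KGV

/-- The product of the conjugates is an integer. -/
theorem exists_int_prod_aeval {n : ℕ} (hn : 0 < n) (Q : ℤ[X]) :
    ∃ z : ℤ, ∏ w ∈ primitiveRoots n ℂ, aeval w Q = (z : ℂ) := by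
  classical
  let ζ := Complex.exp (2 * Real.pi * Complex.I / n)
  have hζ : IsPrimitiveRoot ζ n := Complex.isPrimitiveRoot_exp n hn.ne'
  have : NeZero n := ⟨hn.ne'⟩
  let M := (Finset.range n).filter (fun m => m.Coprime n)
  let P : ℤ[X] := ∏ m ∈ M, Q.comp (X ^ m)
  have hP : ∀ η : ℂ, IsPrimitiveRoot η n → aeval η P = ∏ w ∈ primitiveRoots n ℂ, aeval w Q := by
    intro η hη
    simp only [P, map_prod, aeval_comp, map_pow, aeval_X]
    refine Finset.prod_bij (fun m _ => η ^ m) ?_ ?_ ?_ ?_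
    · intro m hm
      exact (mem_primitiveRoots hn).mpr (hη.pow_of_coprime m (Finset.mem_filter.mp hm).2)
    · intro a ha b hb h
      exact hη.pow_inj (Finset.mem_range.mp (Finset.mem_filter.mp ha).1)
        (Finset.mem_range.mp (Finset.mem_filter.mp hb).1) h
    · intro w hw
      have hw' := (mem_primitiveRoots hn).mp hw
      obtain ⟨i, hi, rfl⟩ := hη.eq_pow_of_pow_eq_one hw'.pow_eq_one
      exact ⟨i, Finset.mem_filter.mpr ⟨Finset.mem_range.mpr hi, (hη.pow_iff_coprime hn i).mp hw'⟩, rfl⟩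
    · intro m _; rfl
  obtain ⟨q, hq⟩ := CfsgLib.CharPower.exists_rat_of_aeval_const hn hζ P
    (fun η hη => (hP η hη).trans (hP ζ hζ).symm)
  have hint : IsIntegral ℤ (aeval ζ P) := by
    have hm : ζ ∈ integralClosure ℤ ℂ := hζ.isIntegral hn
    have := (aeval (⟨ζ, hm⟩ : integralClosure ℤ ℂ) P).2
    rwa [Polynomial.aeval_subalgebra_coe] at this
  rw [hq] at hint
  obtain ⟨z, hz⟩ := CfsgLib.Char.exists_int_of_isIntegral_ratCast hint
  refine ⟨z, ?_⟩
  rw [← hP ζ hζ, hq, ← hz, Rat.cast_intCast]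

theorem card_le_sum_of_one_le_prod {ι : Type*} (s : Finset ι) (a : ι → ℝ)
    (h0 : ∀ i ∈ s, 0 < a i) (h1 : 1 ≤ ∏ i ∈ s, a i) : (s.card : ℝ) ≤ ∑ i ∈ s, a i := by
  have h : 0 ≤ ∑ i ∈ s, Real.log (a i) := by
    rw [← Real.log_prod (fun i hi => (h0 i hi).ne')]
    exact Real.log_nonneg h1
  have h2 : ∑ i ∈ s, Real.log (a i) ≤ ∑ i ∈ s, (a i - 1) :=
    Finset.sum_le_sum fun i hi => Real.log_le_sub_one_of_pos (h0 i hi)
  rw [Finset.sum_sub_distrib, Finset.sum_const, nsmul_one] at h2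
  linarith

/-- A cyclotomic integer vanishing at one primitive root vanishes at all. -/
theorem aeval_ne_zero_of_ne_zero {n : ℕ} (hn : 0 < n) {ζ η : ℂ} (hζ : IsPrimitiveRoot ζ n)
    (hη : IsPrimitiveRoot η n) {Q : ℤ[X]} (h : aeval ζ Q ≠ 0) : aeval η Q ≠ 0 := fun he => by
  refine h ?_
  simpa using CfsgLib.CharPower.aeval_eq_of_rat hn hη hζ Q 0 (by simpa using he)

/-- The mean absolute value of the conjugates of a nonzero cyclotomic integer is at least one. -/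
theorem card_le_sum_norm_aeval {n : ℕ} (hn : 0 < n) (Q : ℤ[X]) {ζ : ℂ} (hζ : IsPrimitiveRoot ζ n)
    (h : aeval ζ Q ≠ 0) :
    ((primitiveRoots n ℂ).card : ℝ) ≤ ∑ w ∈ primitiveRoots n ℂ, ‖aeval w Q‖ := by
  have hne : ∀ w ∈ primitiveRoots n ℂ, aeval w Q ≠ 0 := fun w hw =>
    aeval_ne_zero_of_ne_zero hn hζ ((mem_primitiveRoots hn).mp hw) h
  refine card_le_sum_of_one_le_prod _ _ (fun w hw => norm_pos_iff.mpr (hne w hw)) ?_
  obtain ⟨z, hz⟩ := exists_int_prod_aeval hn Q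
  rw [← norm_prod, hz, Complex.norm_intCast]
  have hz0 : z ≠ 0 := by
    rintro rfl
    rw [Int.cast_zero, Finset.prod_eq_zero_iff] at hz
    obtain ⟨w, hw, h0⟩ := hz
    exact hne w hw h0
  exact_mod_cast Int.one_le_abs hz0

/-- Squared version. -/
theorem card_le_sum_sq_norm_aeval {n : ℕ} (hn : 0 < n) (Q : ℤ[X]) {ζ : ℂ}
    (hζ : IsPrimitiveRoot ζ n) (h : aeval ζ Q ≠ 0) :
    ((primitiveRoots n ℂ).card : ℝ) ≤ ∑ w ∈ primitiveRoots n ℂ, ‖aeval w Q‖ ^ 2 := by
  have := card_le_sum_norm_aeval hn (Q * Q) hζ (by rw [map_mul]; exact mul_ne_zero h h)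
  simpa [sq] using this

variable {G : Type*} [Group G] [Finite G]

/-- A character vanishing at `g` vanishes at the coprime powers of `g`. -/
theorem apply_pow_ne_zero {χ : G → ℂ} (hχ : Cfsg.IsCharacter G χ) {g : G} (h : χ g ≠ 0) {m : ℕ}
    (hm : m.Coprime (Nat.card G)) : χ (g ^ m) ≠ 0 := by
  have hn : 0 < Nat.card G := Nat.card_pos
  let ζ := Complex.exp (2 * Real.pi * Complex.I / (Nat.card G))
  have hζ : IsPrimitiveRoot ζ (Nat.card G) := Complex.isPrimitiveRoot_exp _ hn.ne'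
  obtain ⟨P, hP⟩ := CfsgLib.CharPower.exists_poly_of_isCharacter hχ g hn pow_card_eq_one' hζ
  rw [hP]
  refine aeval_ne_zero_of_ne_zero hn hζ (hζ.pow_of_coprime m hm) ?_
  have h1 := hP 1
  rw [pow_one, pow_one] at h1
  rwa [← h1]

/-- Averaging a sum of absolute values of nonzero character values over coprime powers: if the
weighted sum does not change under coprime powers, it is at least the number of terms. -/
theorem card_le_sum_norm {ι : Type*} (s : Finset ι) (χ : ι → G → ℂ) (x : ι → G) (e : ℕ)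
    (he : e = 1 ∨ e = 2) (hχ : ∀ i ∈ s, Cfsg.IsCharacter G (χ i)) (hne : ∀ i ∈ s, χ i (x i) ≠ 0)
    (hinv : ∀ m : ℕ, m.Coprime (Nat.card G) →
      ∑ i ∈ s, ‖χ i (x i ^ m)‖ ^ e = ∑ i ∈ s, ‖χ i (x i)‖ ^ e) :
    (s.card : ℝ) ≤ ∑ i ∈ s, ‖χ i (x i)‖ ^ e := by
  have hn : 0 < Nat.card G := Nat.card_pos
  let ζ := Complex.exp (2 * Real.pi * Complex.I / (Nat.card G))
  have hζ : IsPrimitiveRoot ζ (Nat.card G) := Complex.isPrimitiveRoot_exp _ hn.ne'
  have hex : ∀ i, ∃ P : ℤ[X], i ∈ s → ∀ k : ℕ, χ i (x i ^ k) = aeval (ζ ^ k) P := fun i => by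
    by_cases hi : i ∈ s
    · obtain ⟨P, hP⟩ := CfsgLib.CharPower.exists_poly_of_isCharacter (hχ i hi) (x i) hn
        pow_card_eq_one' hζ
      exact ⟨P, fun _ => hP⟩
    · exact ⟨0, fun h => absurd h hi⟩
  choose P hP using hex
  have h1 : ∀ i ∈ s, χ i (x i) = aeval ζ (P i) := fun i hi => by simpa using hP i hi 1
  have hle : ∀ i ∈ s, ((primitiveRoots (Nat.card G) ℂ).card : ℝ) ≤
      ∑ w ∈ primitiveRoots (Nat.card G) ℂ, ‖aeval w (P i)‖ ^ e := by
    intro i hi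
    rcases he with rfl | rfl
    · simpa using card_le_sum_norm_aeval hn (P i) hζ (h1 i hi ▸ hne i hi)
    · exact card_le_sum_sq_norm_aeval hn (P i) hζ (h1 i hi ▸ hne i hi)
  have hconst : ∀ w ∈ primitiveRoots (Nat.card G) ℂ,
      ∑ i ∈ s, ‖aeval w (P i)‖ ^ e = ∑ i ∈ s, ‖χ i (x i)‖ ^ e := by
    intro w hw
    have : NeZero (Nat.card G) := ⟨hn.ne'⟩
    have hw' := (mem_primitiveRoots hn).mp hw
    obtain ⟨m, -, rfl⟩ := hζ.eq_pow_of_pow_eq_one hw'.pow_eq_one
    rw [← hinv m ((hζ.pow_iff_coprime hn m).mp hw')]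
    exact Finset.sum_congr rfl fun i hi => by rw [hP i hi m]
  have hc : (0 : ℝ) < (primitiveRoots (Nat.card G) ℂ).card := by
    exact_mod_cast Finset.card_pos.mpr ⟨ζ, (mem_primitiveRoots hn).mpr hζ⟩
  refine le_of_mul_le_mul_left ?_ hc
  calc ((primitiveRoots (Nat.card G) ℂ).card : ℝ) * s.card
      = ∑ _i ∈ s, ((primitiveRoots (Nat.card G) ℂ).card : ℝ) := by
        rw [Finset.sum_const, nsmul_eq_mul, mul_comm]
    _ ≤ ∑ i ∈ s, ∑ w ∈ primitiveRoots (Nat.card G) ℂ, ‖aeval w (P i)‖ ^ e := Finset.sum_le_sum hle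
    _ = _ := by
        rw [Finset.sum_comm, Finset.sum_congr rfl hconst, Finset.sum_const, nsmul_eq_mul]

/-- On a set closed under coprime powers, the nonzero values of a character have mean norm
(or squared norm) at least one. -/
theorem card_filter_le_sum_norm (T : Finset G)
    (hT : ∀ g ∈ T, ∀ m : ℕ, m.Coprime (Nat.card G) → g ^ m ∈ T) {χ : G → ℂ}
    (hχ : Cfsg.IsCharacter G χ) (e : ℕ) (he : e = 1 ∨ e = 2) :
    ((T.filter fun g => χ g ≠ 0).card : ℝ) ≤ ∑ g ∈ T, ‖χ g‖ ^ e := by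
  classical
  set T' := T.filter fun g => χ g ≠ 0
  refine le_trans (card_le_sum_norm T' (fun _ => χ) id e he (fun _ _ => hχ)
    (fun g hg => (Finset.mem_filter.mp hg).2) fun m hm => ?_)
    (Finset.sum_le_sum_of_subset_of_nonneg (Finset.filter_subset _ _) fun g _ _ => by positivity)
  have hinj : Function.Injective (fun g : G => g ^ m) := (powCoprime hm.symm).injective
  have himg : T'.image (fun g => g ^ m) = T' := by
    refine Finset.eq_of_subset_of_card_le (Finset.image_subset_iff.mpr fun g hg => ?_)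
      (Finset.card_image_of_injective _ hinj).ge
    obtain ⟨h1, h2⟩ := Finset.mem_filter.mp hg
    exact Finset.mem_filter.mpr ⟨hT g h1 m hm, apply_pow_ne_zero hχ h2 hm⟩
  conv_rhs => rw [← himg]
  rw [Finset.sum_image fun a _ b _ h => hinj h]
  rfl

/-- `|χ|²` sums to the group order. -/
theorem sum_norm_sq [Fintype G] {χ : G → ℂ} (hχ : Cfsg.IsIrrCharacter G χ) :
    ∑ g : G, ‖χ g‖ ^ 2 = (Nat.card G : ℝ) := by
  have h := CfsgLib.Char.classInner_irr_self hχ
  rw [Cfsg.classInner] at h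
  have hG : (Nat.card G : ℂ) ≠ 0 := Nat.cast_ne_zero.mpr Nat.card_pos.ne'
  rw [inv_mul_eq_one₀ hG] at h
  have h2 : ((∑ g : G, ‖χ g‖ ^ 2 : ℝ) : ℂ) = ((Nat.card G : ℝ) : ℂ) := by
    push_cast
    rw [h]
    exact Finset.sum_congr rfl fun g _ => (Complex.mul_conj' _).symm
  exact_mod_cast h2

end CfsgLib.KGV
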