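import Cfsg.Agent.Lib.BlockReg.Regular
import Cfsg.Agent.Lib.Char.DefectZero
import Cfsg.Agent.Lib.Char.Conj
import Cfsg.Agent.Lib.Char.Virtual
import Cfsg.Agent.Lib.KGV.GaloisMean
import Mathlib.GroupTheory.Sylow

/-!
# Excluding characters of full p-part through the norm equation

For a prime `q` with a Sylow subgroup of order `q`: the squared absolute value of a character on
elements of order `q` is a rational integer with known congruence and divisibility; lower bounds for
the number of such elements come from Sylow's theorem.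
-/

set_option autoImplicit false

namespace CfsgLib.KGV

open Cfsg
open scoped ComplexConjugate

universe u

variable {G : Type u} [Group G] [Finite G] {q : ℕ} [Fact q.Prime]

/-- A character constant on the generators of a subgroup of prime order takes there an integer
value congruent to the degree. -/
theorem exists_int_of_const_on_powers {θ : G → ℂ} (hθ : Cfsg.IsCharacter G θ) {g : G}
    (hg : orderOf g = q) (hc : ∀ j : ℕ, ¬ q ∣ j → θ (g ^ j) = θ g) {d : ℕ} (hd : θ 1 = d) :
    ∃ c : ℤ, θ g = c ∧ (q : ℤ) ∣ c - d := by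
  classical
  haveI := Fintype.ofFinite G
  set P := Subgroup.zpowers g
  haveI := Fintype.ofFinite P
  have hcard : Nat.card P = q := by rw [Nat.card_zpowers, hg]
  have hq : q.Prime := Fact.out
  obtain ⟨m, hm⟩ := CfsgLib.Char.IsCharacter.exists_nat_classInner
    (CfsgLib.Char.IsCharacter.restrict hθ P) (CfsgLib.Char.isIrrCharacter_principal (G := P))
  have hval : ∀ u : P, θ u = if u = 1 then (d : ℂ) else θ g := by
    intro u
    split_ifs with hu
    · rw [hu, OneMemClass.coe_one, hd]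
    · obtain ⟨j, hj⟩ := (Subgroup.mem_zpowers_iff (g := g)).1 u.2
      obtain ⟨k, hk⟩ : ∃ k : ℕ, g ^ k = (u : G) := by
        exact mem_powers_iff_mem_zpowers.2 u.2
      have hk' : ¬ q ∣ k := by
        intro h
        obtain ⟨t, rfl⟩ := h
        rw [pow_mul, ← hg, pow_orderOf_eq_one, one_pow] at hk
        exact hu (Subtype.ext hk.symm)
      rw [← hk, hc k hk']
  have hsum : ∑ u : P, θ u = (d : ℂ) + ((q : ℂ) - 1) * θ g := by
    rw [← Finset.add_sum_erase _ _ (Finset.mem_univ (1 : P)),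
      Finset.sum_congr rfl fun u hu => (hval u).trans (if_neg (Finset.ne_of_mem_erase hu)),
      Finset.sum_const, Finset.card_erase_of_mem (Finset.mem_univ _), Finset.card_univ,
      ← Nat.card_eq_fintype_card, hcard, nsmul_eq_mul, Nat.cast_sub hq.one_le, Nat.cast_one,
      hval 1, if_pos rfl]
  rw [Cfsg.classInner] at hm
  simp only [map_one, mul_one] at hm
  rw [hsum, inv_mul_eq_iff_eq_mul₀ (by rw [hcard]; exact_mod_cast hq.ne_zero), hcard] at hm
  have hq1 : ((q : ℂ) - 1) ≠ 0 := by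
    rw [sub_ne_zero]; exact_mod_cast hq.one_lt.ne'
  have hint : IsIntegral ℤ (θ g) :=
    CfsgLib.Char.IsGeneralizedCharacter.isIntegral_apply
      (CfsgLib.Char.IsCharacter.isGeneralizedCharacter hθ) g
  have hrat : θ g = (((((q : ℚ) * m - d) / ((q : ℚ) - 1) : ℚ)) : ℂ) := by
    push_cast
    rw [eq_div_iff hq1]
    linear_combination hm
  rw [hrat] at hint
  obtain ⟨c, hcq⟩ := CfsgLib.Char.exists_int_of_isIntegral_ratCast hint
  refine ⟨c, by rw [hrat, ← hcq, Rat.cast_intCast], ⟨c - m, ?_⟩⟩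
  have h1 : ((q : ℚ) - 1) * c = (q : ℚ) * m - d := by
    rw [hcq, mul_div_cancel₀]
    rw [sub_ne_zero]; exact_mod_cast hq.one_lt.ne'
  have h2 : ((q : ℤ) - 1) * c = (q : ℤ) * m - d := by exact_mod_cast h1
  linarith

/-- A subgroup of order `q` is a Sylow subgroup when `q²` does not divide the group order. -/
theorem exists_sylow_eq_zpowers (hq2 : ¬ q ^ 2 ∣ Nat.card G) {g : G} (hg : orderOf g = q) :
    ∃ P : Sylow q G, (P : Subgroup G) = Subgroup.zpowers g := by
  have hq : q.Prime := Fact.out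
  have hf : (Nat.card G).factorization q = 1 := by
    refine le_antisymm ?_ (hq.factorization_pos_of_dvd Nat.card_pos.ne'
      (hg ▸ orderOf_dvd_natCard g))
    by_contra h
    exact hq2 ((Nat.pow_dvd_pow q (show 2 ≤ _ by omega)).trans (Nat.ordProj_dvd _ _))
  exact ⟨Sylow.ofCard (Subgroup.zpowers g) (by rw [Nat.card_zpowers, hg, hf, pow_one]), rfl⟩

/-- Elements of order `q` are conjugate to powers of a given one. -/
theorem exists_isConj_pow (hq2 : ¬ q ^ 2 ∣ Nat.card G) {g x : G} (hg : orderOf g = q)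
    (hx : orderOf x = q) : ∃ j : ℕ, ¬ q ∣ j ∧ IsConj (g ^ j) x := by
  have hq : q.Prime := Fact.out
  obtain ⟨P, hP⟩ := exists_sylow_eq_zpowers hq2 hg
  obtain ⟨Q, hQ⟩ := exists_sylow_eq_zpowers hq2 hx
  obtain ⟨c, hc⟩ := MulAction.exists_smul_eq G P Q
  have hmem : c⁻¹ * x * c ∈ (P : Subgroup G) := by
    have hxQ : x ∈ (Q : Subgroup G) := hQ ▸ Subgroup.mem_zpowers x
    rw [← hc, Sylow.coe_subgroup_smul] at hxQ
    obtain ⟨y, hy, rfl⟩ := hxQ
    simpa [MulAut.conj_apply, mul_assoc] using! hy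
  rw [hP] at hmem
  obtain ⟨j, hj⟩ : ∃ j : ℕ, g ^ j = c⁻¹ * x * c := mem_powers_iff_mem_zpowers.2 hmem
  refine ⟨j, fun h => ?_, isConj_iff.2 ⟨c, by rw [hj]; group⟩⟩
  obtain ⟨t, rfl⟩ := h
  rw [pow_mul, ← hg, pow_orderOf_eq_one, one_pow] at hj
  have : x = 1 := by
    calc x = c * (c⁻¹ * x * c) * c⁻¹ := by group
      _ = 1 := by rw [← hj]; group
  rw [this, orderOf_one] at hx
  exact hq.one_lt.ne hx

/-- The hypothesis that all generators of `⟨g⟩` are conjugate to `g` or to its inverse. -/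
def PowersSemiRational (q : ℕ) (g : G) : Prop :=
  ∀ j : ℕ, ¬ q ∣ j → IsConj g (g ^ j) ∨ IsConj g⁻¹ (g ^ j)

/-- The squared absolute value on elements of order `q` is one natural number, congruent to the
squared degree, and divisible by `4^e` when `g` centralises a subgroup of order `2^e` on which the
character vanishes off the identity. -/
theorem exists_sq_value (hq2 : ¬ q ^ 2 ∣ Nat.card G) (χ : IrrCharacter G) {g : G}
    (hg : orderOf g = q) (hsr : PowersSemiRational q g) (e : ℕ) (V : Subgroup G)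
    (hV : Nat.card V = 2 ^ e) (hVg : ∀ v ∈ V, Commute g v)
    (hvan : ∀ v ∈ V, v ≠ 1 → (χ : G → ℂ) (g * v) = 0) :
    ∃ w : ℕ, (∀ x : G, orderOf x = q → ‖(χ : G → ℂ) x‖ ^ 2 = (w : ℝ)) ∧
      (q : ℤ) ∣ (w : ℤ) - (charDegree (χ : G → ℂ) : ℤ) ^ 2 ∧ 4 ^ e ∣ w := by
  classical
  haveI := Fintype.ofFinite G
  haveI := Fintype.ofFinite V
  set θ : G → ℂ := fun x => (χ : G → ℂ) x * conj ((χ : G → ℂ) x) with hθdef
  have hθ : Cfsg.IsCharacter G θ :=
    CfsgLib.Char.IsCharacter.mul (CfsgLib.Char.IsIrrCharacter.isCharacter χ.2)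
      (CfsgLib.Char.IsCharacter.conj_apply' (CfsgLib.Char.IsIrrCharacter.isCharacter χ.2))
  have hcl : ∀ a b, IsConj a b → θ a = θ b := fun a b h => by
    simp only [hθdef, CfsgLib.BlockReg.char_conj_invariant χ a b h]
  have hc : ∀ j : ℕ, ¬ q ∣ j → θ (g ^ j) = θ g := by
    intro j hj
    rcases hsr j hj with h | h
    · exact (hcl _ _ h).symm
    · rw [← hcl _ _ h]
      simp only [hθdef, CfsgLib.BlockReg.char_inv, Complex.conj_conj, mul_comm]
  have hd : θ 1 = ((charDegree (χ : G → ℂ) ^ 2 : ℕ) : ℂ) := by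
    simp only [hθdef]
    rw [← CfsgLib.BlockReg.deg_cast χ, Complex.conj_natCast, Nat.cast_pow, sq]
  obtain ⟨c, hcg, hcd⟩ := exists_int_of_const_on_powers hθ hg hc hd
  have hnorm : ∀ x, θ x = ((‖(χ : G → ℂ) x‖ ^ 2 : ℝ) : ℂ) := fun x => by
    simp only [hθdef]
    rw [Complex.mul_conj']
    push_cast
    rfl
  have hreal : (c : ℝ) = ‖(χ : G → ℂ) g‖ ^ 2 := by
    have h1 := (hnorm g).symm.trans hcg
    rw [← Complex.ofReal_intCast] at h1
    exact (Complex.ofReal_injective h1).symm
  have hc0 : 0 ≤ c := by exact_mod_cast hreal ▸ sq_nonneg ‖(χ : G → ℂ) g‖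
  obtain ⟨w, rfl⟩ := Int.eq_ofNat_of_zero_le hc0
  refine ⟨w, fun x hx => ?_, by simpa using hcd, ?_⟩
  · obtain ⟨j, hj, hconj⟩ := exists_isConj_pow hq2 hg hx
    have h1 : θ x = θ g := by rw [← hcl _ _ hconj, hc j hj]
    rw [hnorm, hnorm] at h1
    rw [Complex.ofReal_injective h1, ← hreal]
    push_cast; rfl
  · have hsum : ∑ v : V, (χ : G → ℂ) (g * v) = (χ : G → ℂ) g := by
      rw [Finset.sum_eq_single (1 : V)]
      · simp
      · intro v _ hv
        exact hvan v v.2 (fun h => hv (Subtype.ext h))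
      · simp
    set a : ℂ := ((2 ^ e : ℕ) : ℂ)⁻¹ * (χ : G → ℂ) g with ha
    have haint : IsIntegral ℤ a := by
      have := CfsgLib.BlockReg.isIntegral_avg_trace V g hVg χ
      rwa [hV, hsum] at this
    have haint' : IsIntegral ℤ (conj a) := haint.map (starRingEnd ℂ).toIntAlgHom
    have hprod : a * conj a = (((w : ℚ) / (4 ^ e : ℕ) : ℚ) : ℂ) := by
      have hw : (χ : G → ℂ) g * conj ((χ : G → ℂ) g) = (w : ℂ) := by simpa [hθdef] using hcg
      rw [ha, map_mul, map_inv₀, Complex.conj_natCast]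
      push_cast
      rw [show (4 : ℂ) ^ e = 2 ^ e * 2 ^ e by rw [← mul_pow]; norm_num]
      field_simp
      linear_combination hw
    have hi := haint.mul haint'
    rw [hprod] at hi
    obtain ⟨z, hz⟩ := CfsgLib.Char.exists_int_of_isIntegral_ratCast hi
    have h4 : ((4 ^ e : ℕ) : ℚ) ≠ 0 := by positivity
    rw [eq_div_iff h4] at hz
    have : (w : ℤ) = z * (4 ^ e : ℕ) := by exact_mod_cast hz.symm
    exact Int.natCast_dvd_natCast.1 ⟨z, by rw [this, mul_comm]⟩

/-- Lower bound for the number of elements of order `q`. -/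
theorem card_order_lower (hq2 : ¬ q ^ 2 ∣ Nat.card G) {g : G} (hg : orderOf g = q) (L C N₀ : ℕ)
    (hL : L ∣ Nat.card (Subgroup.normalizer ((Subgroup.zpowers g : Subgroup G) : Set G)))
    (hC : Nat.card (Subgroup.centralizer ({g} : Set G)) ≤ C)
    (hN : ∀ N ≤ (q - 1) * C, L ∣ N → N ∣ Nat.card G → (Nat.card G / N) % q = 1 → N ≤ N₀)
    [Fintype G] :
    (q - 1) * (Nat.card G / N₀) ≤ (Finset.univ.filter fun x : G => orderOf x = q).card := by
  classical
  have hq : q.Prime := Fact.out
  obtain ⟨P, hP⟩ := exists_sylow_eq_zpowers hq2 hg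
  set N := Subgroup.normalizer ((Subgroup.zpowers g : Subgroup G) : Set G) with hNdef
  set n := Nat.card (Sylow q G)
  have hn1 : n = N.index := by
    rw [hNdef, ← hP]
    exact Sylow.card_eq_index_normalizer P
  have hmul : Nat.card N * n = Nat.card G := by rw [hn1]; exact N.card_mul_index
  have hNC : Nat.card N ≤ (q - 1) * C := by
    have hker := (Subgroup.normalizerMonoidHom (Subgroup.zpowers g)).ker.card_mul_index
    rw [Subgroup.index_ker, Subgroup.normalizerMonoidHom_ker] at hker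
    rw [← hker, mul_comm]
    refine Nat.mul_le_mul ?_ ?_
    · refine le_trans (Subgroup.card_le_card_group _) (le_of_eq ?_)
      rw [IsCyclic.card_mulAut, Nat.card_zpowers, hg, Nat.totient_prime hq]
    · refine le_trans (le_of_eq ?_) hC
      have hle : Subgroup.centralizer ((Subgroup.zpowers g : Subgroup G) : Set G) ≤ N :=
        Subgroup.centralizer_le_normalizer _
      rw [Nat.card_congr (Subgroup.subgroupOfEquivOfLe hle).toEquiv]
      congr! 2
      refine le_antisymm (Subgroup.centralizer_le (by simp)) fun h hh => ?_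
      rw [Subgroup.mem_centralizer_iff]
      intro u hu
      obtain ⟨k, rfl⟩ := Subgroup.mem_zpowers_iff.1 hu
      exact Commute.zpow_left (Subgroup.mem_centralizer_singleton_iff.1 hh).symm k
  have hdiv : Nat.card G / Nat.card N = n := by
    rw [← hmul, Nat.mul_div_cancel_left _ Nat.card_pos]
  have hle : Nat.card N ≤ N₀ := hN _ hNC hL (hmul ▸ dvd_mul_right _ _) (by
    rw [hdiv]
    have h1 := card_sylow_modEq_one q G
    rw [Nat.ModEq, Nat.one_mod_eq_one.2 hq.one_lt.ne'] at h1
    exact h1)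
  refine le_trans (Nat.mul_le_mul_left _ (le_trans (Nat.div_le_div_left hle Nat.card_pos) hdiv.le)) ?_
  haveI := Fintype.ofFinite (Sylow q G)
  have hgen : ∀ Q : Sylow q G, Nat.card (Q : Subgroup G) = q := fun Q => by
    rw [Nat.card_congr (Sylow.equiv Q P).toEquiv, hP, Nat.card_zpowers, hg]
  let S : Sylow q G → Finset G := fun Q =>
    (Finset.univ.filter fun x : G => x ∈ (Q : Subgroup G)).erase 1
  have hS : ∀ Q, (S Q).card = q - 1 := fun Q => by
    rw [Finset.card_erase_of_mem (by simp), ← Fintype.card_subtype, ← Nat.card_eq_fintype_card]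
    rw [hgen Q]
  have hord : ∀ Q, ∀ x ∈ S Q, orderOf x = q := by
    intro Q x hx
    obtain ⟨hx1, hxQ⟩ := Finset.mem_erase.1 hx
    have hdvd : orderOf x ∣ q :=
      hgen Q ▸ Subgroup.orderOf_dvd_natCard _ (Finset.mem_filter.1 hxQ).2
    rcases (Nat.dvd_prime hq).1 hdvd with h | h
    · exact absurd (orderOf_eq_one_iff.1 h) hx1
    · exact h
  calc (q - 1) * n = ∑ Q : Sylow q G, (S Q).card := by
        rw [Finset.sum_congr rfl fun Q _ => hS Q, Finset.sum_const, Finset.card_univ, smul_eq_mul,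
          mul_comm]
        simp [n, Nat.card_eq_fintype_card]
    _ = (Finset.univ.biUnion S).card := by
        rw [Finset.card_biUnion]
        intro Q _ R _ hQR
        rw [Function.onFun, Finset.disjoint_left]
        intro x hxQ hxR
        refine hQR (Sylow.ext ?_)
        have key : ∀ T : Sylow q G, x ∈ S T → Subgroup.zpowers x = (T : Subgroup G) := fun T hT =>
          Subgroup.eq_of_le_of_card_ge
            (Subgroup.zpowers_le.2 (Finset.mem_filter.1 (Finset.mem_erase.1 hT).2).2)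
            (by rw [Nat.card_zpowers, hord T x hT, hgen T])
        rw [← key Q hxQ, key R hxR]
    _ ≤ _ := Finset.card_le_card fun x hx => by
        obtain ⟨Q, -, hxQ⟩ := Finset.mem_biUnion.1 hx
        simp [hord Q x hxQ]

/-- The norm inequality: lower bounds on disjoint sets of elements of given orders. -/
theorem norm_bound [Fintype G] (χ : IrrCharacter G) (T : Finset ℕ) (hT : 1 ∉ T) (cnt r : ℕ → ℕ)
    (hcnt : ∀ m ∈ T, cnt m ≤ (Finset.univ.filter fun x : G => orderOf x = m).card)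
    (hr : ∀ m ∈ T, ∀ x : G, orderOf x = m → (r m : ℝ) ≤ ‖(χ : G → ℂ) x‖ ^ 2) :
    charDegree (χ : G → ℂ) ^ 2 + ∑ m ∈ T, cnt m * r m ≤ Nat.card G := by
  classical
  set f : ℕ → Finset G := fun m => Finset.univ.filter fun x : G => orderOf x = m
  have hdisj : Set.PairwiseDisjoint (↑(insert 1 T) : Set ℕ) f := by
    intro a _ b _ hab
    rw [Function.onFun, Finset.disjoint_left]
    intro x hxa hxb
    exact hab ((Finset.mem_filter.1 hxa).2.symm.trans (Finset.mem_filter.1 hxb).2)
  have h1 : (f 1) = {1} := by ext x; simp [f, orderOf_eq_one_iff]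
  have hsum : ∑ x ∈ (insert 1 T).biUnion f, ‖(χ : G → ℂ) x‖ ^ 2 ≤ (Nat.card G : ℝ) := by
    rw [← sum_norm_sq χ.2]
    exact Finset.sum_le_sum_of_subset_of_nonneg (Finset.subset_univ _) fun x _ _ => by positivity
  rw [Finset.sum_biUnion hdisj, Finset.sum_insert hT, h1, Finset.sum_singleton,
    ← CfsgLib.BlockReg.deg_cast χ, Complex.norm_natCast] at hsum
  have hlow : ∀ m ∈ T, ((cnt m * r m : ℕ) : ℝ) ≤ ∑ x ∈ f m, ‖(χ : G → ℂ) x‖ ^ 2 := by
    intro m hm
    refine le_trans ?_ (Finset.card_nsmul_le_sum _ _ (r m : ℝ)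
      fun x hx => hr m hm x (Finset.mem_filter.1 hx).2)
    rw [nsmul_eq_mul]
    push_cast
    exact mul_le_mul_of_nonneg_right (by exact_mod_cast hcnt m hm) (Nat.cast_nonneg _)
  have := add_le_add (le_refl ((charDegree (χ : G → ℂ) : ℝ) ^ 2)) (Finset.sum_le_sum hlow)
  exact_mod_cast this.trans hsum

end CfsgLib.KGV
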