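import Cfsg.Agent.Lib.KGV.GaussChar
import Cfsg.Agent.Lib.CharDeep.Extend
import Cfsg.Agent.Lib.CharDeep.Gallagher
import Mathlib.GroupTheory.SemidirectProduct
import Mathlib.LinearAlgebra.Matrix.BilinearForm

/-!
# The Weil character of a coprime group of symplectic transformations
-/

set_option autoImplicit false

open scoped ComplexConjugate

namespace CfsgLib.KGV

universe u w

variable {p : ℕ} [Fact p.Prime] {U : Type w} [AddCommGroup U] [Module (ZMod p) U]

/-- The group on `U × ZMod p` with a bilinear cocycle. -/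
@[ext]
structure Heis (b : LinearMap.BilinForm (ZMod p) U) where
  fst : U
  snd : ZMod p

variable {b : LinearMap.BilinForm (ZMod p) U}

instance instOneHeis : One (Heis b) := ⟨⟨0, 0⟩⟩

instance instMulHeis : Mul (Heis b) := ⟨fun x y => ⟨x.fst + y.fst, x.snd + y.snd + b x.fst y.fst⟩⟩

instance instInvHeis : Inv (Heis b) := ⟨fun x => ⟨-x.fst, -x.snd + b x.fst x.fst⟩⟩

@[simp] theorem heis_one_fst : (1 : Heis b).fst = 0 := rfl
@[simp] theorem heis_one_snd : (1 : Heis b).snd = 0 := rfl
@[simp] theorem heis_mul_fst (x y : Heis b) : (x * y).fst = x.fst + y.fst := rfl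
@[simp] theorem heis_mul_snd (x y : Heis b) :
    (x * y).snd = x.snd + y.snd + b x.fst y.fst := rfl
@[simp] theorem heis_inv_fst (x : Heis b) : x⁻¹.fst = -x.fst := rfl
@[simp] theorem heis_inv_snd (x : Heis b) : x⁻¹.snd = -x.snd + b x.fst x.fst := rfl

instance instGroupHeis : Group (Heis b) where
  mul_assoc x y z := by ext <;> simp <;> abel
  one_mul x := by ext <;> simp
  mul_one x := by ext <;> simp
  inv_mul_cancel x := by ext <;> simp

/-- The underlying pair. -/
def heisEquiv (b : LinearMap.BilinForm (ZMod p) U) : Heis b ≃ U × ZMod p where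
  toFun x := (x.fst, x.snd)
  invFun x := ⟨x.1, x.2⟩
  left_inv _ := rfl
  right_inv _ := rfl

instance instFiniteHeis [Finite U] : Finite (Heis b) := Finite.of_equiv _ (heisEquiv b).symm

theorem card_heis : Nat.card (Heis b) = Nat.card U * p := by
  rw [Nat.card_congr (heisEquiv b), Nat.card_prod, Nat.card_zmod]

theorem heis_central (a : ZMod p) : (⟨0, a⟩ : Heis b) ∈ Subgroup.center (Heis b) :=
  Subgroup.mem_center_iff.mpr fun g => by ext <;> simp [add_comm]

/-- The values of a character on `Heis b` with nontrivial central character. -/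
theorem heis_irr [Finite U] (hnd : ∀ u, (∀ w, b u w - b w u = 0) → u = 0) {χ : Heis b → ℂ}
    (hχ : Cfsg.IsIrrCharacter (Heis b) χ) (lam : ZMod p → ℂ) (hlam : ∀ a, lam a = 1 → a = 0)
    (hz : ∀ g a, χ (g * ⟨0, a⟩) = lam a * χ g) :
    (∀ g, g.fst ≠ 0 → χ g = 0) ∧ χ 1 * χ 1 = (Nat.card U : ℂ) := by
  classical
  let : Fintype U := Fintype.ofFinite U
  let : Fintype (Heis b) := Fintype.ofFinite _
  have hvan : ∀ g : Heis b, g.fst ≠ 0 → χ g = 0 := by
    intro g hg
    obtain ⟨w, hw⟩ : ∃ w, b w g.fst - b g.fst w ≠ 0 := by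
      by_contra h
      push Not at h
      exact hg (hnd _ fun w => by
        have := h w
        rw [sub_eq_zero] at this ⊢
        exact this.symm)
    have hconj : (⟨w, 0⟩ : Heis b) * g * (⟨w, 0⟩ : Heis b)⁻¹ =
        g * ⟨0, b w g.fst - b g.fst w⟩ := by
      ext
      · simp
      · simp only [heis_mul_snd, heis_mul_fst, heis_inv_fst, heis_inv_snd, map_add, map_neg,
          LinearMap.add_apply, map_zero]
        ring
    have h1 := CfsgLib.Char.IsIrrCharacter.isClassFunction hχ g (⟨w, 0⟩ : Heis b)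
    rw [hconj, hz] at h1
    by_contra h0
    exact hw (hlam _ ((mul_eq_right₀ h0).mp h1))
  refine ⟨hvan, ?_⟩
  have hself := CfsgLib.Char.classInner_irr_self hχ
  rw [Cfsg.classInner, inv_mul_eq_one₀ (Nat.cast_ne_zero.mpr Nat.card_pos.ne'),
    ← Finset.sum_subset (Finset.subset_univ (Finset.univ.image fun a : ZMod p => (⟨0, a⟩ : Heis b)))
      (fun g _ hg => by
        rw [hvan g (fun h => hg (Finset.mem_image.mpr ⟨g.snd, Finset.mem_univ _, by
          ext <;> simp [h]⟩)), zero_mul]),
    Finset.sum_image (fun a _ a' _ h => congrArg Heis.snd h), card_heis] at hself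
  have hlamn : ∀ a, lam a * conj (lam a) = 1 := by
    intro a
    have h1 := hz (⟨0, a⟩ : Heis b)⁻¹ a
    rw [inv_mul_cancel, CfsgLib.Char.IsIrrCharacter.apply_inv hχ] at h1
    have h2 := hz 1 a
    rw [one_mul] at h2
    rw [h2, map_mul] at h1
    obtain ⟨d, -, hd⟩ := CfsgLib.Char.IsIrrCharacter.exists_degree hχ
    rw [hd, Complex.conj_natCast, ← mul_assoc] at h1
    exact (mul_eq_right₀ (hd ▸ CfsgLib.Char.IsIrrCharacter.apply_one_ne_zero hχ)).mp h1.symm
  obtain ⟨d, -, hd⟩ := CfsgLib.Char.IsIrrCharacter.exists_degree hχ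
  rw [Finset.sum_congr rfl (g := fun _ => χ 1 * χ 1) (fun a _ => by
    have h2 := hz 1 a
    rw [one_mul] at h2
    rw [h2, map_mul, mul_mul_mul_comm, hlamn, one_mul, hd, Complex.conj_natCast]),
    Finset.sum_const, Finset.card_univ, ZMod.card, nsmul_eq_mul, Nat.cast_mul] at hself
  exact mul_left_cancel₀ (Nat.cast_ne_zero.mpr (Fact.out : p.Prime).ne_zero)
    (by rw [← hself, mul_comm])

/-- A character with nontrivial central character. -/
theorem exists_heis_irr (b : LinearMap.BilinForm (ZMod p) U) [Finite U] :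
    ∃ (χ : Heis b → ℂ) (lam : ZMod p → ℂ), Cfsg.IsIrrCharacter (Heis b) χ ∧
      (∀ a, lam a = 1 → a = 0) ∧ ∀ g a, χ (g * ⟨0, a⟩) = lam a * χ g := by
  classical
  let : Fintype (Heis b) := Fintype.ofFinite _
  obtain ⟨χ, hχ⟩ : ∃ χ : Cfsg.IrrCharacter (Heis b), (χ : Heis b → ℂ) ⟨0, 1⟩ ≠ (χ : Heis b → ℂ) 1 := by
    by_contra h
    push Not at h
    obtain ⟨c, hc⟩ := isConj_iff.mp (CfsgLib.Char.isConj_of_forall_eq fun χ hχ => h ⟨χ, hχ⟩)
    have := congrArg Heis.snd hc
    simp only [heis_mul_snd, heis_mul_fst, heis_inv_snd, heis_inv_fst, heis_one_snd] at this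
    refine one_ne_zero (α := ZMod p) ?_
    linear_combination (norm := (simp; ring)) this
  refine ⟨χ, fun a => (χ : Heis b → ℂ) ⟨0, a⟩ / (χ : Heis b → ℂ) 1, χ.2, fun a ha => ?_, fun g a => ?_⟩
  swap
  · rw [div_mul_eq_mul_div, eq_div_iff (CfsgLib.Char.IsIrrCharacter.apply_one_ne_zero χ.2),
      CfsgLib.CharOver.apply_mul_central χ.2 (heis_central a) g, mul_comm]
  · by_contra hne
    refine hχ ?_
    rw [div_eq_one_iff_eq (CfsgLib.Char.IsIrrCharacter.apply_one_ne_zero χ.2)] at ha
    have hk : ∀ k : ℕ, (χ : Heis b → ℂ) ⟨0, k • a⟩ = (χ : Heis b → ℂ) 1 := by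
      intro k
      induction k with
      | zero => rw [zero_smul]; rfl
      | succ k ih =>
        refine mul_right_cancel₀ (CfsgLib.Char.IsIrrCharacter.apply_one_ne_zero χ.2) ?_
        rw [show (⟨0, (k + 1) • a⟩ : Heis b) = ⟨0, k • a⟩ * ⟨0, a⟩ by
          ext <;> simp [add_mul], CfsgLib.CharOver.apply_mul_central χ.2 (heis_central a), ih, ha]
    have h1 := hk (a⁻¹ : ZMod p).val
    rwa [nsmul_eq_mul, ZMod.natCast_zmod_val, inv_mul_cancel₀ hne] at h1

/-- The map between the groups induced by an isometric linear map. -/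
def heisMap {F : Type*} [AddCommGroup F] [Module (ZMod p) F] (ι : F →ₗ[ZMod p] U) :
    Heis (b.compl₁₂ ι ι) →* Heis b where
  toFun x := ⟨ι x.fst, x.snd⟩
  map_one' := by ext <;> simp
  map_mul' x y := by ext <;> simp

/-- Averages of `|χ|²` on cosets of a normal subgroup on which `χ` stays irreducible. -/
theorem sum_mul_conj_coset {G : Type*} [Group G] [Fintype G] (N : Subgroup G) [N.Normal] [Fintype N]
    {χ : G → ℂ} (hχ : Cfsg.IsIrrCharacter G χ) (hN : Cfsg.IsIrrCharacter N (fun x : N => χ x))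
    (g : G) : ∑ x : N, χ ((x : G) * g) * conj (χ ((x : G) * g)) = Nat.card N := by
  classical
  let : Fintype (G ⧸ N) := Fintype.ofFinite _
  let F : G → ℂ := fun x => χ x * conj (χ x)
  have hF : Cfsg.IsClassFunction G F := fun a c => by
    simp only [F, CfsgLib.Char.IsIrrCharacter.isClassFunction hχ a c]
  have hone : Cfsg.IsIrrCharacter (G ⧸ N) (fun _ => (1 : ℂ)) := CfsgLib.Char.isIrrCharacter_principal
  obtain ⟨h1, h2, -⟩ := CfsgLib.CharDeep.Gal.quotient_bijection N hχ hN
  have heq : CfsgLib.CharDeep.Gal.cosetAvg N F = fun _ => 1 := by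
    refine sub_eq_zero.mp (CfsgLib.Char.eq_zero_of_forall_classInner_eq_zero ?_ fun β hβ => ?_)
    · intro a c
      simp [CfsgLib.CharDeep.Gal.isClassFunction_cosetAvg N hF a c]
    · have hswap : Cfsg.classInner F (β ∘ QuotientGroup.mk' N) =
          Cfsg.classInner χ ((β ∘ QuotientGroup.mk' N) * χ) := by
        simp only [Cfsg.classInner, F, Pi.mul_apply, map_mul]
        congr 1
        exact Finset.sum_congr rfl fun x _ => by ring
      rw [CfsgLib.Char.classInner_sub_left, CfsgLib.CharDeep.Gal.classInner_cosetAvg, hswap]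
      have hχ1 : ((fun _ => (1 : ℂ)) ∘ QuotientGroup.mk' N) * χ = χ := funext fun x => one_mul _
      by_cases hb : β = fun _ => 1
      · subst hb
        rw [hχ1, CfsgLib.Char.classInner_irr_self hχ, CfsgLib.Char.classInner_irr_self hone, sub_self]
      · rw [CfsgLib.Char.classInner_irr_of_ne hone hβ (fun h => hb h.symm),
          CfsgLib.Char.classInner_irr_of_ne hχ (h1 β hβ).1
            (fun h => hb (h2 β _ hβ hone (hχ1.symm ▸ h.symm))), sub_self]
  have h := congrFun heq (g : G ⧸ N)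
  rw [CfsgLib.CharDeep.Gal.cosetAvg_mk, inv_mul_eq_one₀ (Nat.cast_ne_zero.mpr Nat.card_pos.ne')] at h
  exact h.symm

variable {n : ℕ} {C : Type u} [Group C] [Fintype C] [Finite U]

/-- An invariant cocycle with given alternating commutator form. -/
theorem exists_cocycle (hpC : ¬ p ∣ Nat.card C) (ρ : Representation (ZMod p) C U)
    (α : LinearMap.BilinForm (ZMod p) U) (hinv : ∀ c u w, α (ρ c u) (ρ c w) = α u w)
    (halt : ∀ u, α u u = 0) :
    ∃ b : LinearMap.BilinForm (ZMod p) U, (∀ c u w, b (ρ c u) (ρ c w) = b u w) ∧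
      ∀ u w, b u w - b w u = α u w := by
  classical
  have : Module.Finite (ZMod p) U := Module.Finite.of_finite
  let e := Module.finBasis (ZMod p) U
  let b₀ : LinearMap.BilinForm (ZMod p) U :=
    Matrix.toBilin e (Matrix.of fun i j => if i < j then α (e i) (e j) else 0)
  have hanti : ∀ u w, α w u = -α u w := fun u w => by
    have h := halt (u + w)
    simp only [map_add, LinearMap.add_apply, halt, zero_add, add_zero] at h
    linear_combination h
  have hb₀ : ∀ i j, b₀ (e i) (e j) = if i < j then α (e i) (e j) else 0 := fun i j => by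
    have h := congrFun₂ (LinearMap.BilinForm.toMatrix_toBilin e
      (Matrix.of fun i j => if i < j then α (e i) (e j) else 0)) i j
    rwa [LinearMap.BilinForm.toMatrix_apply, Matrix.of_apply] at h
  have h₀ : ∀ u w, b₀ u w - b₀ w u = α u w := by
    have hext : b₀ - b₀.flip = α := by
      refine LinearMap.BilinForm.ext_basis e fun i j => ?_
      simp only [LinearMap.sub_apply, LinearMap.BilinForm.flip_apply, hb₀]
      rcases lt_trichotomy i j with h | h | h
      · simp [h, h.not_gt]
      · subst h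
        simp [halt]
      · simp [h, h.not_gt, hanti (e j) (e i)]
    intro u w
    exact LinearMap.congr_fun₂ hext u w
  refine ⟨(Nat.card C : ZMod p)⁻¹ • ∑ c : C, b₀.compl₁₂ (ρ c) (ρ c), fun d u w => ?_, fun u w => ?_⟩
  · simp only [LinearMap.smul_apply, LinearMap.sum_apply, LinearMap.compl₁₂_apply]
    congr 1
    exact Fintype.sum_equiv (Equiv.mulRight d) _ _ fun c => by
      simp [map_mul]
  · simp only [LinearMap.smul_apply, LinearMap.sum_apply, LinearMap.compl₁₂_apply, smul_eq_mul]
    rw [← mul_sub, ← Finset.sum_sub_distrib]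
    simp only [h₀, hinv, Finset.sum_const, Finset.card_univ, nsmul_eq_mul, ← Nat.card_eq_fintype_card]
    exact inv_mul_cancel_left₀ (fun h => hpC ((ZMod.natCast_eq_zero_iff _ _).mp h)) _

/-- The action on the group `Heis b` of the isometries of `b`. -/
def heisAction (ρ : Representation (ZMod p) C U)
    (hb : ∀ c u w, b (ρ c u) (ρ c w) = b u w) : C →* MulAut (Heis b) where
  toFun c :=
    { toFun := fun x => ⟨ρ c x.fst, x.snd⟩
      invFun := fun x => ⟨ρ c⁻¹ x.fst, x.snd⟩
      left_inv := fun x => by ext <;> simp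
      right_inv := fun x => by ext <;> simp
      map_mul' := fun x y => by ext <;> simp [hb] }
  map_one' := by ext x <;> simp
  map_mul' c d := by ext x <;> simp

omit [Fintype C] [Finite U] in
theorem heisAction_apply (ρ : Representation (ZMod p) C U)
    (hb : ∀ c u w, b (ρ c u) (ρ c w) = b u w) (c : C) (x : Heis b) :
    heisAction ρ hb c x = ⟨ρ c x.fst, x.snd⟩ := rfl

/-- The alternating case. -/
theorem goodTheta_of_alternating (hn : 0 < n) (hC : Nat.card C ∣ n) (hpn : p ∣ n)
    (hpC : ¬ p ∣ Nat.card C) (ρ : Representation (ZMod p) C U)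
    (α : LinearMap.BilinForm (ZMod p) U) (hinv : ∀ c u w, α (ρ c u) (ρ c w) = α u w)
    (halt : ∀ u, α u u = 0) (hnd : ∀ u, (∀ w, α u w = 0) → u = 0) : GoodTheta n ρ := by
  classical
  let : Fintype U := Fintype.ofFinite U
  have : Module.Finite (ZMod p) U := Module.Finite.of_finite
  have hpr : p.Prime := Fact.out
  obtain ⟨b, hb, hbα⟩ := exists_cocycle hpC ρ α hinv halt
  let φ := heisAction ρ hb
  let G := Heis b ⋊[φ] C
  have : Finite G := Finite.of_equiv _ SemidirectProduct.equivProd.symm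
  let : Fintype G := Fintype.ofFinite G
  let N : Subgroup G := (SemidirectProduct.inl : Heis b →* G).range
  have hN : N.Normal := by
    change (SemidirectProduct.inl : Heis b →* G).range.Normal
    rw [SemidirectProduct.range_inl_eq_ker_rightHom]
    infer_instance
  let : Fintype N := Fintype.ofFinite N
  let eN : Heis b ≃* N := MonoidHom.ofInjective SemidirectProduct.inl_injective
  have heN : ∀ x, ((eN x : N) : G) = SemidirectProduct.inl x := fun x => rfl
  have hidx : N.index = Nat.card C := by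
    change (SemidirectProduct.inl : Heis b →* G).range.index = _
    rw [SemidirectProduct.range_inl_eq_ker_rightHom, Subgroup.index_ker,
      MonoidHom.range_eq_top.mpr SemidirectProduct.rightHom_surjective, Subgroup.card_top]
  -- the character of `Heis b`
  obtain ⟨χ₀, lam, hχ₀, hlam, hz₀⟩ := exists_heis_irr b
  obtain ⟨hvan₀, hsq₀⟩ := heis_irr (fun u h => hnd u fun w => (hbα u w).symm.trans (h w)) hχ₀ lam
    hlam hz₀
  obtain ⟨d, hd0, hd⟩ := CfsgLib.Char.IsIrrCharacter.exists_degree hχ₀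
  have hdU : d * d = Nat.card U := by
    rw [hd] at hsq₀
    exact_mod_cast hsq₀
  have hinvχ : ∀ c x, χ₀ (φ c x) = χ₀ x := by
    intro c x
    rw [show φ c x = ⟨ρ c x.fst, x.snd⟩ from rfl]
    by_cases hx : x.fst = 0
    · rw [hx, map_zero]
      congr 1
      ext <;> simp [hx]
    · rw [hvan₀ _ hx, hvan₀ _ fun h => hx ?_]
      simpa using congrArg (ρ c⁻¹) h
  let θN : N → ℂ := χ₀ ∘ eN.symm
  have hθN : Cfsg.IsIrrCharacter N θN := CfsgLib.CharTwist.isIrrCharacter_comp_equiv hχ₀ _
  have hinvN : ∀ (g : G) (x : N), θN ⟨g * x * g⁻¹, hN.conj_mem (x : G) x.2 g⟩ = θN x := by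
    intro g x
    obtain ⟨e, rfl⟩ := eN.surjective x
    rw [show (⟨g * (eN e : N) * g⁻¹, hN.conj_mem (eN e : G) (eN e).2 g⟩ : N) =
      eN (g.left * φ g.right e * g.left⁻¹) by
        apply Subtype.ext
        simp only [heN, map_mul, map_inv, Subgroup.coe_mul, Subgroup.coe_inv, SemidirectProduct.inl_aut]
        conv_lhs => rw [← SemidirectProduct.inl_left_mul_inr_right g]
        simp only [mul_inv_rev, mul_assoc]]
    simp only [θN, Function.comp_apply, MulEquiv.symm_apply_apply]
    rw [CfsgLib.Char.IsIrrCharacter.isClassFunction hχ₀, hinvχ]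
  obtain ⟨δ, hδ⟩ := CfsgLib.CharDeep.Extend.exists_det_hom N θN hθN
  have hdp : ∃ k, d = p ^ k := by
    obtain ⟨k, -, hk⟩ := (Nat.dvd_prime_pow hpr).mp
      (show d ∣ p ^ Module.finrank (ZMod p) U by
        have h := Module.natCard_eq_pow_finrank (K := ZMod p) (V := U)
        rw [Nat.card_zmod] at h
        rw [← h, ← hdU]
        exact dvd_mul_right d d)
    exact ⟨k, hk⟩
  have hcop : N.index.Coprime (orderOf δ) := by
    refine Nat.Coprime.coprime_dvd_right (orderOf_dvd_of_pow_eq_one (n := Nat.card N) ?_) ?_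
    · ext x
      simp [← map_pow]
    · rw [hidx, ← Nat.card_congr eN.toEquiv, card_heis, Module.natCard_eq_pow_finrank (K := ZMod p) (V := U),
        Nat.card_zmod, ← pow_succ]
      exact Nat.Coprime.pow_right _ (hpr.coprime_iff_not_dvd.mpr hpC).symm
  obtain ⟨μ, hμ, -, -⟩ := CfsgLib.CharDeep.Lin.exists_ext_coprime δ (fun g x => Units.ext (by
    have h := CfsgLib.CharDeep.Extend.det_invariant N θN hinvN hθN g x
    rwa [hδ] at h)) hcop
  obtain ⟨χ, hχ, hχN⟩ := CfsgLib.CharDeep.Extend.extends_of_det N θN hθN hinvN d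
    (by simp [θN, hd]) (by
      obtain ⟨k, hk⟩ := hdp
      rw [hidx, hk]
      exact Nat.Coprime.pow_right _ (hpr.coprime_iff_not_dvd.mpr hpC).symm) μ
    (fun x => by rw [hμ, hδ])
  have hχE : ∀ e, χ (SemidirectProduct.inl e) = χ₀ e := fun e => by
    rw [← heN, hχN]
    simp [θN]
  have hχ1 : χ 1 = (d : ℂ) := by
    rw [← map_one (SemidirectProduct.inl : Heis b →* G), hχE, hd]
  have hd0' : (d : ℂ) ≠ 0 := Nat.cast_ne_zero.mpr hd0.ne'
  -- central translations
  have hzc : ∀ a, SemidirectProduct.inl (⟨0, a⟩ : Heis b) ∈ Subgroup.center G := by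
    intro a
    refine Subgroup.mem_center_iff.mpr fun g => ?_
    ext <;> simp [φ, heisAction_apply, add_comm]
  have hzG : ∀ g a, χ (g * SemidirectProduct.inl (⟨0, a⟩ : Heis b)) = lam a * χ g := by
    intro g a
    refine mul_right_cancel₀ hd0' ?_
    rw [← hχ1, CfsgLib.CharOver.apply_mul_central hχ (hzc a) g, hχE]
    have h2 := hz₀ 1 a
    rw [one_mul] at h2
    rw [h2, hd, hχ1]
    ring
  have hfst : ∀ a, lam a * conj (lam a) = 1 := by
    intro a
    have h1 := hz₀ (⟨0, a⟩ : Heis b)⁻¹ a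
    rw [inv_mul_cancel, CfsgLib.Char.IsIrrCharacter.apply_inv hχ₀] at h1
    have h2 := hz₀ 1 a
    rw [one_mul] at h2
    rw [h2, hd, map_mul, Complex.conj_natCast, ← mul_assoc] at h1
    exact (mul_eq_right₀ hd0').mp h1.symm
  -- values on the cosets
  let η : C → ℂ := fun c => χ (SemidirectProduct.inr c)
  have hfix : ∀ c f, f ∈ LinearMap.ker (ρ c - 1) → ∀ a, Commute (SemidirectProduct.inr c)
      (SemidirectProduct.inl (⟨f, a⟩ : Heis b) : G) := fun c f hf a => by
    refine SemidirectProduct.ext ?_ (by simp)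
    simp [φ, heisAction_apply, (mem_fix_iff ρ c f).mp hf]
  have hoff : ∀ c (x : Heis b), x.fst ∉ LinearMap.range (ρ c - 1) →
      χ (SemidirectProduct.inl x * SemidirectProduct.inr c) = 0 := by
    intro c x hx
    obtain ⟨⟨f₀, w₀⟩, hfw⟩ :=
      (Submodule.prodEquivOfIsCompl _ _ (fix_isCompl hpC ρ c)).surjective x.fst
    rw [Submodule.coe_prodEquivOfIsCompl'] at hfw
    obtain ⟨f, hf, hf'⟩ : ∃ f ∈ LinearMap.ker (ρ c - 1), α f x.fst ≠ 0 := by
      by_contra h
      push Not at h
      refine hx ?_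
      rw [← hfw, fix_nondeg hpC ρ α hinv hnd c f₀.2 (fun g hg => ?_), zero_add]
      · exact w₀.2
      · have h1 := h g hg
        rw [← hfw, map_add, fix_orth ρ α hinv hg w₀.2, add_zero] at h1
        have h2 := halt ((f₀ : U) + g)
        simp only [map_add, LinearMap.add_apply, halt, zero_add, add_zero, h1] at h2
        simpa using h2
    have hconj : SemidirectProduct.inl (⟨f, 0⟩ : Heis b) *
        (SemidirectProduct.inl x * SemidirectProduct.inr c) *
        (SemidirectProduct.inl (⟨f, 0⟩ : Heis b))⁻¹ =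
        (SemidirectProduct.inl x * SemidirectProduct.inr c) *
          (SemidirectProduct.inl (⟨0, α f x.fst⟩ : Heis b) : G) := by
      have h1 : (⟨f, 0⟩ : Heis b) * x = x * ⟨0, α f x.fst⟩ * ⟨f, 0⟩ := by
        ext
        · simp [add_comm]
        · simp only [heis_mul_snd, heis_mul_fst, map_add, map_zero, LinearMap.add_apply,
            LinearMap.zero_apply, ← hbα f x.fst]
          ring
      rw [mul_inv_eq_iff_eq_mul, ← mul_assoc, ← map_mul, h1, map_mul, map_mul]
      simp only [mul_assoc]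
      rw [← mul_assoc (SemidirectProduct.inr c), Subgroup.mem_center_iff.mp (hzc _), mul_assoc,
        (hfix c f hf 0).eq]
    have h2 := CfsgLib.Char.IsIrrCharacter.isClassFunction hχ
      (SemidirectProduct.inl x * SemidirectProduct.inr c) (SemidirectProduct.inl (⟨f, 0⟩ : Heis b))
    rw [hconj, hzG] at h2
    by_contra h0
    exact hf' (hlam _ ((mul_eq_right₀ h0).mp h2))
  have hon : ∀ c (x : Heis b), x.fst ∈ LinearMap.range (ρ c - 1) →
      χ (SemidirectProduct.inl x * SemidirectProduct.inr c) *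
        conj (χ (SemidirectProduct.inl x * SemidirectProduct.inr c)) = η c * conj (η c) := by
    rintro c x ⟨y, hy⟩
    let e : Heis b := ⟨-y, 0⟩
    obtain ⟨a, ha⟩ : ∃ a, e * φ c e⁻¹ * ⟨0, a⟩ = x := by
      refine ⟨x.snd - (e * φ c e⁻¹).snd, ?_⟩
      ext
      · rw [← hy]
        simp [e, φ, heisAction_apply]
        abel
      · simp [e, φ, heisAction_apply]
    have hconj : SemidirectProduct.inl e * SemidirectProduct.inr c *
        (SemidirectProduct.inl e)⁻¹ * (SemidirectProduct.inl (⟨0, a⟩ : Heis b) : G) =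
        SemidirectProduct.inl x * SemidirectProduct.inr c := by
      rw [← ha]
      refine SemidirectProduct.ext ?_ ?_
      · have hfixz : φ c ⟨0, a⟩ = (⟨0, a⟩ : Heis b) := by ext <;> simp [φ, heisAction_apply]
        simp [hfixz]
      · simp
    rw [← hconj, hzG, CfsgLib.Char.IsIrrCharacter.isClassFunction hχ, map_mul, mul_mul_mul_comm,
      hfst, one_mul]
  have hηF : ∀ c, η c * conj (η c) = (Nat.card (LinearMap.ker (ρ c - 1)) : ℂ) := by
    intro c
    let W := LinearMap.range (ρ c - 1)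
    let : Fintype (Heis b) := Fintype.ofFinite _
    have hirrN : Cfsg.IsIrrCharacter N (fun x : N => χ x) := by
      rw [funext hχN]
      exact hθN
    have h := sum_mul_conj_coset N hχ hirrN (SemidirectProduct.inr c)
    rw [← eN.toEquiv.sum_comp] at h
    simp only [MulEquiv.toEquiv_eq_coe, MulEquiv.coe_toEquiv, heN, ← Nat.card_congr eN.toEquiv,
      card_heis] at h
    rw [← (heisEquiv b).symm.sum_comp, Fintype.sum_prod_type,
      ← Finset.sum_subset (Finset.subset_univ (Finset.univ.filter (· ∈ W))) (fun u _ hu =>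
        Finset.sum_eq_zero fun a _ => by
          rw [hoff c _ (fun hm => hu (Finset.mem_filter.mpr ⟨Finset.mem_univ _, hm⟩)), zero_mul]),
      Finset.sum_congr rfl (g := fun _ => (p : ℂ) * (η c * conj (η c))) (fun u hu => by
        rw [Finset.sum_congr rfl (fun a _ => hon c _ (Finset.mem_filter.mp hu).2), Finset.sum_const,
          Finset.card_univ, ZMod.card, nsmul_eq_mul]),
      Finset.sum_const, ← Fintype.card_subtype, ← Nat.card_eq_fintype_card, nsmul_eq_mul,
      Nat.cast_mul, ← Nat.card_congr (Submodule.prodEquivOfIsCompl _ _ (fix_isCompl hpC ρ c)).toEquiv,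
      Nat.card_prod, Nat.cast_mul] at h
    have hW0 : (Nat.card W : ℂ) ≠ 0 := Nat.cast_ne_zero.mpr Nat.card_pos.ne'
    have hp0 : (p : ℂ) ≠ 0 := Nat.cast_ne_zero.mpr hpr.ne_zero
    refine mul_left_cancel₀ (mul_ne_zero hW0 hp0) ?_
    linear_combination h
  -- the factor `η c / d₁`
  have hε : ∀ c, ∃ ε ∈ cycInt n, ∃ k, p ^ k * p ^ k = Nat.card (LinearMap.ker (ρ c - 1)) ∧
      η c = ((p ^ k : ℕ) : ℂ) * ε := by
    intro c
    let F := LinearMap.ker (ρ c - 1)
    let bF : LinearMap.BilinForm (ZMod p) F := b.compl₁₂ F.subtype F.subtype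
    let : Fintype (Heis bF) := Fintype.ofFinite _
    let H : Subgroup G := Subgroup.centralizer {SemidirectProduct.inr c}
    let j : Heis bF →* H :=
      (((SemidirectProduct.inl : Heis b →* G)).comp (heisMap (b := b) F.subtype)).codRestrict H
        fun e => Subgroup.mem_centralizer_singleton_iff.mpr (hfix c _ e.fst.2 e.snd).symm.eq
    have hndF : ∀ f : F, (∀ g, bF f g - bF g f = 0) → f = 0 := fun f hf =>
      Subtype.ext (fix_nondeg hpC ρ α hinv hnd c f.2 fun g hg => by
        rw [← hbα]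
        exact hf ⟨g, hg⟩)
    have hres : Cfsg.IsCharacter (Heis bF) (fun e => χ (j e : G)) :=
      CfsgLib.Char.IsCharacter.comp (CfsgLib.Char.IsCharacter.restrict
        (CfsgLib.Char.IsIrrCharacter.isCharacter hχ) H) j
    obtain ⟨ψ, hψ⟩ : ∃ ψ : Cfsg.IrrCharacter (Heis bF),
        Cfsg.classInner (fun e => χ (j e : G)) (ψ : Heis bF → ℂ) ≠ 0 := by
      by_contra h
      push Not at h
      have h0 := congrFun (CfsgLib.Char.eq_zero_of_forall_classInner_eq_zero
        (CfsgLib.Char.IsCharacter.isClassFunction hres) fun ψ hψ => h ⟨ψ, hψ⟩) 1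
      simp only [map_one, Subgroup.coe_one, hχ1, Pi.zero_apply] at h0
      exact hd0' h0
    have hzψ : ∀ g a, (ψ : Heis bF → ℂ) (g * ⟨0, a⟩) = lam a * (ψ : Heis bF → ℂ) g := by
      have hψ1 := CfsgLib.Char.IsIrrCharacter.apply_one_ne_zero ψ.2
      have hs : ∀ a g, (ψ : Heis bF → ℂ) (g * ⟨0, a⟩) =
          (ψ : Heis bF → ℂ) ⟨0, a⟩ / (ψ : Heis bF → ℂ) 1 * (ψ : Heis bF → ℂ) g := by
        intro a g
        rw [div_mul_eq_mul_div, eq_div_iff hψ1,
          CfsgLib.CharOver.apply_mul_central ψ.2 (heis_central a) g, mul_comm]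
      intro g a
      set s := (ψ : Heis bF → ℂ) ⟨0, a⟩ / (ψ : Heis bF → ℂ) 1
      have hsum : Cfsg.classInner (fun e => χ (j e : G)) (ψ : Heis bF → ℂ) =
          lam a * conj s * Cfsg.classInner (fun e => χ (j e : G)) (ψ : Heis bF → ℂ) := by
        simp only [Cfsg.classInner]
        rw [mul_left_comm]
        congr 1
        rw [Finset.mul_sum]
        refine (Fintype.sum_equiv (Equiv.mulRight (⟨0, a⟩ : Heis bF)) _ _ fun e => ?_).symm
        rw [Equiv.coe_mulRight, hs, map_mul (starRingEnd ℂ),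
          show (j (e * ⟨0, a⟩) : G) = (j e : G) * SemidirectProduct.inl (⟨0, a⟩ : Heis b) by
            rw [map_mul, Subgroup.coe_mul]
            congr 1, hzG]
        ring
      have h1 : lam a * conj s = 1 := (mul_eq_right₀ hψ).mp hsum.symm
      have h2 : conj (lam a) * s = 1 := by simpa using congrArg conj h1
      rw [hs a g]
      congr 1
      calc s = lam a * conj (lam a) * s := by rw [hfst, one_mul]
        _ = lam a := by rw [mul_assoc, h2, mul_one]
    obtain ⟨hvanψ, hsqψ⟩ := heis_irr hndF ψ.2 lam hlam hzψ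
    obtain ⟨d₁, -, hd₁⟩ := CfsgLib.Char.IsIrrCharacter.exists_degree ψ.2
    have hd₁F : d₁ * d₁ = Nat.card F := by
      rw [hd₁] at hsqψ
      exact_mod_cast hsqψ
    obtain ⟨k, -, rfl⟩ := (Nat.dvd_prime_pow hpr).mp (show d₁ ∣ p ^ Module.finrank (ZMod p) F by
      have h := Module.natCard_eq_pow_finrank (K := ZMod p) (V := F)
      rw [Nat.card_zmod] at h
      rw [← h, ← hd₁F]
      exact dvd_mul_right _ _)
    let z : H := ⟨SemidirectProduct.inr c, Subgroup.mem_centralizer_singleton_iff.mpr rfl⟩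
    have hsl := (IntVirt.slice (n := n) hn (F := fun h : H => χ h)
      (CfsgLib.Char.IsCharacter.restrict (CfsgLib.Char.IsIrrCharacter.isCharacter hχ) H)
      (z := z) (Subgroup.mem_center_iff.mpr fun h => Subtype.ext
        (Subgroup.mem_centralizer_singleton_iff.mp h.2))
      (Subtype.ext (by
        rw [SubmonoidClass.coe_pow]
        change (SemidirectProduct.inr c) ^ n = 1
        rw [← map_pow, pow_eq_one_of_card_dvd hC, map_one])) j).2 ψ
    refine ⟨_, hsl, k, hd₁F, ?_⟩
    rw [Cfsg.classInner, ← Finset.sum_subset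
      (Finset.subset_univ (Finset.univ.image fun a : ZMod p => (⟨0, a⟩ : Heis bF))) (fun g _ hg => by
        rw [hvanψ g (fun h => hg (Finset.mem_image.mpr ⟨g.snd, Finset.mem_univ _, by
          ext <;> simp [h]⟩)), map_zero, mul_zero]),
      Finset.sum_image (fun a _ a' _ h => congrArg Heis.snd h),
      Finset.sum_congr rfl (g := fun _ => η c * ((p ^ k : ℕ) : ℂ)) (fun a _ => by
        have h2 := hzψ 1 a
        rw [one_mul] at h2
        rw [h2, hd₁, map_mul, Complex.conj_natCast, Subgroup.coe_mul,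
          show (j ⟨0, a⟩ : G) = SemidirectProduct.inl (⟨0, a⟩ : Heis b) from
            congrArg SemidirectProduct.inl (Heis.ext (map_zero _) rfl), hzG]
        linear_combination (η c * ((p ^ k : ℕ) : ℂ)) * hfst a),
      Finset.sum_const, Finset.card_univ, ZMod.card, nsmul_eq_mul, card_heis, ← hd₁F, Nat.cast_mul,
      Nat.cast_mul]
    have hp0 : (p : ℂ) ≠ 0 := Nat.cast_ne_zero.mpr hpr.ne_zero
    have hk0 : ((p ^ k : ℕ) : ℂ) ≠ 0 := Nat.cast_ne_zero.mpr (pow_ne_zero _ hpr.ne_zero)
    field_simp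
  choose ε hεR k hk hηε using hε
  obtain ⟨k₀, hk₀⟩ := hdp
  have hkle : ∀ c, k c ≤ k₀ ∧ ((∃ u, ρ c u ≠ u) → k c < k₀) := by
    intro c
    have h1 := Submodule.finrank_le (LinearMap.ker (ρ c - 1))
    have hU := hdU
    have hF := hk c
    rw [hk₀] at hU
    rw [Module.natCard_eq_pow_finrank (K := ZMod p), Nat.card_zmod, ← pow_add] at hF hU
    have h2 := Nat.pow_right_injective hpr.two_le hF
    have h3 := Nat.pow_right_injective hpr.two_le hU
    refine ⟨by omega, fun ⟨u, hu⟩ => ?_⟩
    have h4 : LinearMap.ker (ρ c - 1) ≠ ⊤ := fun h =>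
      hu ((mem_fix_iff ρ c u).mp (h ▸ Submodule.mem_top))
    have := Submodule.finrank_lt h4
    omega
  have hεε : ∀ c, ε c * conj (ε c) = 1 := by
    intro c
    have h := hηF c
    rw [hηε, map_mul, Complex.conj_natCast, mul_mul_mul_comm, ← hk c, Nat.cast_mul] at h
    exact mul_left_cancel₀ (mul_ne_zero (Nat.cast_ne_zero.mpr (pow_ne_zero _ hpr.ne_zero))
      (Nat.cast_ne_zero.mpr (pow_ne_zero _ hpr.ne_zero))) (h.trans (mul_one _).symm)
  refine goodTheta_of_mul_eq hn hC hpC ρ (b := η) (θ := fun c => ((p ^ (k₀ - k c) : ℕ) : ℂ) * conj (ε c))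
    (IntVirt.of_isCharacter (CfsgLib.Char.IsCharacter.comp
      (CfsgLib.Char.IsIrrCharacter.isCharacter hχ) SemidirectProduct.inr))
    (natCast_mem_cycInt d) ?_ (fun c => mul_mem (natCast_mem_cycInt _) (conj_mem_cycInt hn (hεR c)))
    (fun c => ?_) (fun c => ?_) ?_ (fun c hc => ?_)
  · rw [Complex.conj_natCast, ← Nat.cast_mul, hdU]
  · rw [hηε, mul_mul_mul_comm, mul_comm (conj (ε c)), hεε, mul_one, ← Nat.cast_mul, ← pow_add,
      Nat.sub_add_cancel (hkle c).1, hk₀]
  · rw [hηF]
    congr 1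
    exact Nat.card_congr (Equiv.subtypeEquivRight fun u => mem_fix_iff ρ c u)
  · have hη1 : η 1 = d := by simp only [η, map_one, hχ1]
    have hk1 : k 1 = k₀ := by
      have hU := hdU
      have hF := hk 1
      rw [show LinearMap.ker (ρ 1 - 1) = ⊤ by simp] at hF
      rw [Nat.card_congr Submodule.topEquiv.toEquiv, ← hU, hk₀, ← pow_add, ← pow_add] at hF
      have := Nat.pow_right_injective hpr.two_le hF
      omega
    rw [hηε, hk1, hk₀] at hη1
    have : ε 1 = 1 := (mul_eq_left₀ (Nat.cast_ne_zero.mpr (pow_ne_zero _ hpr.ne_zero))).mp hη1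
    simp [hk1, this]
  · exact (piDvd_natCast hn hpn (dvd_pow_self p (Nat.sub_ne_zero_of_lt ((hkle c).2 hc)))).mul_right
      (conj_mem_cycInt hn (hεR c))

end CfsgLib.KGV
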