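import Mathlib

/-!
# Layers of a coprime action of an abelian group on an abelian group
-/

set_option autoImplicit false

namespace CfsgLib.KGV

universe u v

open Classical in
/-- For a coprime action of an abelian group `C` on an abelian group `A` there are subgroups of
`C` with intersection the kernel such that the product of `1 + index` over those not containing
`c` is at most `|A : C_A(c)|`. -/
theorem exists_layers {C : Type v} [Group C] [Finite C] (hC : ∀ a b : C, a * b = b * a) :
    ∀ (N : ℕ) (A : Type u) [CommGroup A] [Finite A] (φ : C →* MulAut A), Nat.card A = N →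
      (Nat.card A).Coprime (Nat.card C) →
      ∃ l : List (Subgroup C), (∀ c, (∀ K ∈ l, c ∈ K) → ∀ a : A, φ c a = a) ∧
        ∀ c : C, (l.map fun K => if c ∈ K then 1 else 1 + K.index).prod *
          Nat.card {a : A // φ c a = a} ≤ Nat.card A := by
  intro N
  induction N using Nat.strong_induction_on with
  | _ N IH =>
  intro A _ _ φ hN hcop
  by_cases hsplit : ∃ c₀ : C, (∃ a : A, a ≠ 1 ∧ φ c₀ a = a) ∧ ∃ a : A, φ c₀ a ≠ a
  · obtain ⟨c₀, ⟨a₁, ha₁, ha₁'⟩, a₂, ha₂⟩ := hsplit
    let S : Subgroup C := Subgroup.zpowers c₀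
    let : Fintype ↥S := Fintype.ofFinite _
    let Nm : A →* A :=
      { toFun := fun v => ∏ g : ↥S, φ (g : C) v
        map_one' := by simp
        map_mul' := fun v w => by simp [Finset.prod_mul_distrib] }
    let F : Subgroup A :=
      { carrier := {a | φ c₀ a = a}
        one_mem' := map_one _
        mul_mem' := fun {a b} (ha : φ c₀ a = a) (hb : φ c₀ b = b) => by
          change φ c₀ (a * b) = a * b
          rw [map_mul, ha, hb]
        inv_mem' := fun {a} (ha : φ c₀ a = a) => by
          change φ c₀ a⁻¹ = a⁻¹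
          rw [map_inv, ha] }
    have hcS : ∀ a, φ c₀ a = a → ∀ g ∈ S, φ g a = a := by
      intro a ha g hg
      obtain ⟨k, rfl⟩ := mem_powers_iff_mem_zpowers.mpr hg
      induction k with
      | zero => simp
      | succ k ih =>
        change φ (c₀ ^ (k + 1)) a = a
        rw [pow_succ, map_mul, MulAut.mul_apply, ha]
        exact ih ⟨k, by simp⟩
    have hS : (Nat.card A).Coprime (Nat.card ↥S) :=
      hcop.coprime_dvd_right (Subgroup.card_subgroup_dvd_card S)
    have hrange : Nm.range = F := by
      apply le_antisymm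
      · rintro _ ⟨w, rfl⟩
        change φ c₀ (∏ k : ↥S, φ (k : C) w) = _
        rw [map_prod]
        refine Fintype.prod_equiv (Equiv.mulLeft ⟨c₀, Subgroup.mem_zpowers c₀⟩) _ _ fun k => ?_
        simp only [Equiv.coe_mulLeft, Subgroup.coe_mul, map_mul, MulAut.mul_apply]
      · intro a ha
        obtain ⟨w, hw⟩ := (powCoprime hS).surjective a
        change w ^ Nat.card ↥S = a at hw
        have hwfix : φ c₀ w = w := by
          apply (powCoprime hS).injective
          change (φ c₀ w) ^ Nat.card ↥S = w ^ Nat.card ↥S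
          rw [← map_pow, hw]
          exact ha
        refine ⟨w, ?_⟩
        change (∏ g : ↥S, φ (g : C) w) = a
        rw [Finset.prod_congr rfl (fun (g : ↥S) _ => hcS w hwfix (g : C) g.2), Finset.prod_const,
          Finset.card_univ, ← Nat.card_eq_fintype_card, hw]
    set B : Subgroup A := Nm.ker with hB
    have hdisj : ∀ a ∈ F, a ∈ B → a = 1 := by
      intro a ha hb
      apply (powCoprime hS).injective
      change a ^ Nat.card ↥S = (1 : A) ^ Nat.card ↥S
      rw [one_pow, ← MonoidHom.mem_ker.mp hb]
      change _ = ∏ g : ↥S, φ (g : C) a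
      rw [Finset.prod_congr rfl (fun (g : ↥S) _ => hcS a ha (g : C) g.2), Finset.prod_const,
        Finset.card_univ, Nat.card_eq_fintype_card]
    have hcardFB : Nat.card F * Nat.card B = Nat.card A := by
      rw [← hrange, ← Subgroup.index_ker Nm, Subgroup.index_mul_card]
    have hbij : Function.Bijective (fun q : ↥F × ↥B => (q.1 : A) * q.2) := by
      refine (Nat.bijective_iff_injective_and_card _).mpr ⟨?_, by rw [Nat.card_prod, hcardFB]⟩
      rintro ⟨f, b⟩ ⟨f', b'⟩ h
      change (f : A) * b = f' * b' at h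
      have h1 : (f' : A)⁻¹ * f = b' * (b : A)⁻¹ := by
        rw [inv_mul_eq_iff_eq_mul, ← mul_assoc, ← h, mul_inv_cancel_right]
      have := hdisj _ (F.mul_mem (F.inv_mem f'.2) f.2) (h1 ▸ B.mul_mem b'.2 (B.inv_mem b.2))
      have hf : f = f' := Subtype.ext (inv_mul_eq_one.mp this).symm
      subst hf
      exact Prod.ext rfl (Subtype.ext (mul_left_cancel h))
    have hcomm : ∀ (c d : C) (a : A), φ c (φ d a) = φ d (φ c a) := fun c d a => by
      rw [← MulAut.mul_apply, ← MulAut.mul_apply, ← map_mul, ← map_mul, hC]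
    have hFinv : ∀ c : C, ∀ a ∈ F, φ c a ∈ F := fun c a (ha : φ c₀ a = a) => by
      change φ c₀ (φ c a) = φ c a
      rw [hcomm, ha]
    have hBinv : ∀ c : C, ∀ a ∈ B, φ c a ∈ B := fun c a ha => by
      rw [hB, MonoidHom.mem_ker] at ha ⊢
      change (∏ g : ↥S, φ (g : C) a) = 1 at ha
      change (∏ g : ↥S, φ (g : C) (φ c a)) = 1
      rw [Finset.prod_congr rfl (fun (g : ↥S) _ => hcomm (g : C) c a), ← map_prod, ha, map_one]
    let res : ∀ U : Subgroup A, (∀ c : C, ∀ a ∈ U, φ c a ∈ U) → C →* MulAut ↥U := fun U hU =>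
      { toFun := fun c =>
          { toFun := fun a => ⟨φ c a, hU c a a.2⟩
            invFun := fun a => ⟨φ c⁻¹ a, hU c⁻¹ a a.2⟩
            left_inv := fun a => Subtype.ext (by
              change φ c⁻¹ (φ c a) = a
              rw [← MulAut.mul_apply, ← map_mul, inv_mul_cancel, map_one, MulAut.one_apply])
            right_inv := fun a => Subtype.ext (by
              change φ c (φ c⁻¹ a) = a
              rw [← MulAut.mul_apply, ← map_mul, mul_inv_cancel, map_one, MulAut.one_apply])
            map_mul' := fun a b => Subtype.ext (map_mul _ _ _) }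
        map_one' := MulEquiv.ext fun a => Subtype.ext (by
          change φ 1 (a : A) = a
          rw [map_one, MulAut.one_apply])
        map_mul' := fun c d => MulEquiv.ext fun a => Subtype.ext (by
          change φ (c * d) (a : A) = φ c (φ d a)
          rw [map_mul, MulAut.mul_apply]) }
    have hFpos : 1 < Nat.card F := by
      rw [Finite.one_lt_card_iff_nontrivial]
      exact ⟨⟨⟨a₁, ha₁'⟩, 1, fun h => ha₁ (congrArg Subtype.val h)⟩⟩
    have hBpos : 1 < Nat.card B := by
      by_contra h
      have hB1 : Nat.card B = 1 := by have := Nat.card_pos (α := ↥B); omega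
      rw [hB1, mul_one] at hcardFB
      have hFtop : F = ⊤ := Subgroup.eq_top_of_card_eq F hcardFB
      exact ha₂ (hFtop ▸ Subgroup.mem_top a₂ : a₂ ∈ F)
    obtain ⟨l₁, hl₁, hl₁'⟩ := IH (Nat.card F) (by rw [← hN, ← hcardFB]; nlinarith) ↥F
      (res F hFinv) rfl (hcop.coprime_dvd_left (Subgroup.card_subgroup_dvd_card F))
    obtain ⟨l₂, hl₂, hl₂'⟩ := IH (Nat.card B) (by rw [← hN, ← hcardFB]; nlinarith) ↥B
      (res B hBinv) rfl (hcop.coprime_dvd_left (Subgroup.card_subgroup_dvd_card B))
    refine ⟨l₁ ++ l₂, fun c hc a => ?_, fun c => ?_⟩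
    · obtain ⟨⟨f, b⟩, rfl⟩ := hbij.2 a
      change φ c ((f : A) * b) = f * b
      rw [map_mul]
      have h1 := congrArg Subtype.val (hl₁ c (fun K hK => hc K (List.mem_append_left _ hK)) f)
      have h2 := congrArg Subtype.val (hl₂ c (fun K hK => hc K (List.mem_append_right _ hK)) b)
      exact congrArg₂ (· * ·) h1 h2
    · have hfix : Nat.card {a : A // φ c a = a} =
          Nat.card {a : ↥F // res F hFinv c a = a} * Nat.card {a : ↥B // res B hBinv c a = a} := by
        rw [← Nat.card_prod]
        refine (Nat.card_eq_of_bijective (fun q : {a : ↥F // res F hFinv c a = a} ×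
          {a : ↥B // res B hBinv c a = a} => (⟨(q.1.1 : A) * q.2.1, by
            rw [map_mul]
            exact congrArg₂ (· * ·) (congrArg Subtype.val q.1.2) (congrArg Subtype.val q.2.2)⟩ :
            {a : A // φ c a = a})) ⟨?_, ?_⟩).symm
        · rintro ⟨f, b⟩ ⟨f', b'⟩ h
          have := hbij.1 (a₁ := (f.1, b.1)) (a₂ := (f'.1, b'.1)) (congrArg Subtype.val h)
          exact Prod.ext (Subtype.ext (congrArg Prod.fst this)) (Subtype.ext (congrArg Prod.snd this))
        · rintro ⟨a, ha⟩
          obtain ⟨⟨f, b⟩, rfl⟩ := hbij.2 a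
          have hh : φ c (f : A) * φ c (b : A) = f * b := (map_mul _ _ _).symm.trans ha
          have := hbij.1 (a₁ := (⟨φ c f, hFinv c f f.2⟩, ⟨φ c b, hBinv c b b.2⟩)) (a₂ := (f, b)) hh
          exact ⟨(⟨f, congrArg Prod.fst this⟩, ⟨b, congrArg Prod.snd this⟩), rfl⟩
      rw [hfix, List.map_append, List.prod_append, ← hcardFB, mul_mul_mul_comm]
      exact Nat.mul_le_mul (hl₁' c) (hl₂' c)
  · -- semiregular action
    push Not at hsplit
    let K : Subgroup C := φ.ker
    by_cases hK : K = ⊤
    · refine ⟨[], fun c _ a => ?_, fun c => ?_⟩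
      · rw [MonoidHom.mem_ker.mp (show c ∈ K by rw [hK]; exact Subgroup.mem_top c), MulAut.one_apply]
      · simpa using Nat.card_le_card_of_injective _ Subtype.val_injective
    refine ⟨[K], fun c hc a => ?_, fun c => ?_⟩
    · rw [MonoidHom.mem_ker.mp (hc K (List.mem_singleton_self K)), MulAut.one_apply]
    by_cases hc : c ∈ K
    · simpa [hc] using Nat.card_le_card_of_injective _ Subtype.val_injective
    have hone : ∀ d, d ∉ K → ∀ a : A, φ d a = a → a = 1 := by
      intro d hd a ha
      by_contra h
      exact hd (MonoidHom.mem_ker.mpr (MulEquiv.ext fun b => hsplit d ⟨a, h, ha⟩ b))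
    have hfix : Nat.card {a : A // φ c a = a} = 1 := by
      rw [Nat.card_eq_one_iff_unique]
      exact ⟨⟨fun a b => Subtype.ext ((hone c hc a a.2).trans (hone c hc b b.2).symm)⟩,
        ⟨⟨1, map_one _⟩⟩⟩
    obtain ⟨a, ha⟩ : ∃ a : A, a ≠ 1 := by
      by_contra h
      push Not at h
      exact hK (eq_top_iff.mpr fun d _ => MonoidHom.mem_ker.mpr
        (MulEquiv.ext fun b => by rw [h b, map_one, map_one]))
    have hidx : K.index ≤ Nat.card {b : A // b ≠ 1} := by
      refine Nat.card_le_card_of_injective
        (fun q : C ⧸ K => (⟨φ q.out a, fun h => ha ((φ q.out).injective (h.trans (map_one _).symm))⟩ :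
          {b : A // b ≠ 1})) fun q r h => ?_
      rw [← q.out_eq, ← r.out_eq]
      refine QuotientGroup.eq.mpr ?_
      by_contra hd
      apply ha
      refine hone _ hd a ?_
      have h' : φ q.out a = φ r.out a := congrArg Subtype.val h
      rw [map_mul, MulAut.mul_apply, ← h', ← MulAut.mul_apply, ← map_mul, inv_mul_cancel, map_one,
        MulAut.one_apply]
    have hA : Nat.card {b : A // b ≠ 1} + 1 = Nat.card A := by
      let : Fintype A := Fintype.ofFinite A
      rw [Nat.card_eq_fintype_card, Nat.card_eq_fintype_card, Fintype.card_subtype_compl,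
        Fintype.card_subtype_eq]
      have : 0 < Fintype.card A := Fintype.card_pos
      omega
    simp only [List.map_cons, List.map_nil, List.prod_cons, List.prod_nil, if_neg hc, hfix, mul_one]
    omega

end CfsgLib.KGV
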