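import Cfsg.Agent.Lib.Char.Basic
import Cfsg.Agent.Lib.Char.Integral
import Mathlib

/-!
# Multiples of character values at `p`-elements are not divisible by `p`
-/

set_option autoImplicit false

open Module

namespace CfsgLib.KGV

/-- For `N` and the degree prime to `p`, `N χ(v) / p` is not an algebraic integer at a `p`-element. -/
theorem not_isIntegral_natCast_mul_character_div {X : Type*} [Group X] [Finite X] {W : Type*}
    [AddCommGroup W] [Module ℂ W] [FiniteDimensional ℂ W] (ρ : Representation ℂ X W) {p : ℕ}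
    [hp : Fact p.Prime] {v : X} {k : ℕ} (hv : v ^ p ^ k = 1) (hdeg : ¬ p ∣ finrank ℂ W) (N : ℕ)
    (hN : ¬ p ∣ N) : ¬ IsIntegral ℤ ((N : ℂ) * ρ.character v / (p : ℂ)) := by
  obtain ⟨μ, hμ, -, -, hpow⟩ := CfsgLib.Char.exists_eigenvalues ρ v
  have hsum : ρ.character v = ∑ i, μ i := by simpa using hpow 1
  intro hc
  let R := integralClosure ℤ ℂ
  have hint : ∀ i, μ i ∈ R := fun i =>
    IsIntegral.of_pow (orderOf_pos v) (by rw [hμ i]; exact isIntegral_one)
  let I : Ideal R := Ideal.span {(p : R)}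
  have hI : I ≠ ⊤ := by
    intro hI
    obtain ⟨c, hc1⟩ := Ideal.mem_span_singleton'.mp (hI ▸ Submodule.mem_top : (1 : R) ∈ I)
    have hpc : ((1 : ℕ) : ℂ) / (p : ℂ) = (c : ℂ) := by
      rw [div_eq_iff (Nat.cast_ne_zero.mpr hp.out.ne_zero), Nat.cast_one]
      simpa using (congrArg (Subtype.val) hc1).symm
    have hd := CfsgLib.Char.dvd_of_isIntegral_natCast_div hp.out.ne_zero (hpc ▸ c.2)
    exact hp.out.ne_one (Nat.dvd_one.mp hd)
  have : CharP (R ⧸ I) p := CharP.quotient R p fun hu => hI (Ideal.span_singleton_eq_top.mpr hu)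
  let f : Fin (finrank ℂ W) → R ⧸ I := fun i => Ideal.Quotient.mk I ⟨μ i, hint i⟩
  have h1 : ∀ i, f i ^ p ^ k = 1 := fun i => by
    rw [← map_pow, ← map_one (Ideal.Quotient.mk I)]
    congr 1
    apply Subtype.ext
    obtain ⟨c, hc2⟩ := orderOf_dvd_of_pow_eq_one hv
    simp only [SubmonoidClass.coe_pow, OneMemClass.coe_one]
    rw [hc2, pow_mul, hμ i, one_pow]
  have hs : (N : R ⧸ I) * ∑ i, f i = 0 := by
    rw [← map_sum, ← map_natCast (Ideal.Quotient.mk I), ← map_mul, Ideal.Quotient.eq_zero_iff_mem,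
      Ideal.mem_span_singleton']
    refine ⟨⟨_, hc⟩, Subtype.ext ?_⟩
    simp only [MulMemClass.coe_mul, AddSubmonoidClass.coe_finset_sum]
    rw [← hsum]
    push_cast
    exact div_mul_cancel₀ _ (Nat.cast_ne_zero.mpr hp.out.ne_zero)
  have h2 := congrArg (· ^ p ^ k) hs
  simp only [mul_pow, zero_pow (pow_ne_zero _ hp.out.ne_zero), sum_pow_char_pow, h1, Finset.sum_const,
    Finset.card_univ, Fintype.card_fin, nsmul_one] at h2
  rw [← Nat.cast_pow, ← Nat.cast_mul, CharP.cast_eq_zero_iff (R ⧸ I) p, hp.out.dvd_mul] at h2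
  rcases h2 with h | h
  · exact hN (hp.out.dvd_of_dvd_pow h)
  · exact hdeg h

end CfsgLib.KGV
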