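import Cfsg.Agent.Lib.Char.Kernel
import Mathlib.GroupTheory.Complement
import Mathlib.RepresentationTheory.Subrepresentation
import Cfsg.Agent.Lib.Char.Integral

/-!
# Degrees over a complemented abelian normal subgroup
-/

set_option autoImplicit false

open Module

namespace CfsgLib.KGV

universe u

variable {X : Type u} [Group X]

/-- The common eigenspace of an abelian normal subgroup. -/
def eigSpace {W : Type*} [AddCommGroup W] [Module ℂ W] (ρ : Representation ℂ X W) (V : Subgroup X)
    (μ : ↥V → ℂ) : Submodule ℂ W :=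
  ⨅ a : ↥V, LinearMap.ker (ρ (a : X) - μ a • LinearMap.id)

theorem mem_eigSpace {W : Type*} [AddCommGroup W] [Module ℂ W] {ρ : Representation ℂ X W}
    {V : Subgroup X} {μ : ↥V → ℂ} {w : W} :
    w ∈ eigSpace ρ V μ ↔ ∀ a : ↥V, ρ (a : X) w = μ a • w := by
  simp [eigSpace, sub_eq_zero]

theorem eigSpace_indep {W : Type*} [AddCommGroup W] [Module ℂ W] {ρ : Representation ℂ X W}
    {V : Subgroup X} {ι : Type*} (s : Finset ι) (μ : ι → ↥V → ℂ) (hμ : Function.Injective μ)
    (w : ι → W) (hw : ∀ i ∈ s, w i ∈ eigSpace ρ V (μ i)) (hsum : ∑ i ∈ s, w i = 0) :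
    ∀ i ∈ s, w i = 0 := by
  classical
  induction s using Finset.induction_on generalizing w with
  | empty => simp
  | insert j s hj IH =>
    have hs : ∀ i ∈ s, w i = 0 := by
      intro i hi
      obtain ⟨a, ha⟩ := Function.ne_iff.mp
        (show μ i ≠ μ j from fun h => hj (hμ h ▸ hi))
      have h0 := congrArg (fun x => ρ (a : X) x - μ j a • x) hsum
      simp only [map_sum, map_zero, smul_zero, sub_zero, Finset.smul_sum] at h0
      rw [← Finset.sum_sub_distrib, Finset.sum_insert hj,
        (mem_eigSpace.mp (hw j (Finset.mem_insert_self j s))) a, sub_self, zero_add] at h0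
      have := IH (fun k => (μ k a - μ j a) • w k)
        (fun k hk => Submodule.smul_mem _ _ (hw k (Finset.mem_insert_of_mem hk)))
        (by rw [← h0]; exact Finset.sum_congr rfl fun k hk => by
              rw [sub_smul, (mem_eigSpace.mp (hw k (Finset.mem_insert_of_mem hk))) a]) i hi
      exact (smul_eq_zero.mp this).resolve_left (sub_ne_zero.mpr ha)
    intro i hi
    rcases Finset.mem_insert.mp hi with rfl | hi
    · rw [Finset.sum_insert hj, Finset.sum_eq_zero hs, add_zero] at hsum
      exact hsum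
    · exact hs i hi

/-- The degree of an irreducible representation of `X = V G`, `V` abelian normal, `G` a
complement, divides the order of `G`. -/
theorem finrank_dvd_card_complement [Finite X] {W : Type*} [AddCommGroup W] [Module ℂ W]
    [FiniteDimensional ℂ W] (ρ : Representation ℂ X W) [ρ.IsIrreducible] (V G : Subgroup X)
    [V.Normal] (hab : ∀ a ∈ V, ∀ b ∈ V, a * b = b * a) (hGV : Subgroup.IsComplement' V G) :
    finrank ℂ W ∣ Nat.card ↥G := by
  classical
  have : Nontrivial W := CfsgLib.CharKernel.nontrivial_of_irreducible ρ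
  -- a common eigenvector of `V`
  let ρV : Representation ℂ ↥V W := ρ.comp V.subtype
  obtain ⟨U₀, hU₀⟩ := CfsgLib.CharKernel.exists_irreducible_sub ρV
  have hsc : ∀ a : ↥V, ∃ c : ℂ, U₀.toRepresentation a = c • (1 : U₀.toSubmodule →ₗ[ℂ] U₀.toSubmodule) := fun a =>
    CfsgLib.Char.exists_scalar_of_commute U₀.toRepresentation (U₀.toRepresentation a) fun b => by
      rw [← map_mul, ← map_mul, show a * b = b * a from Subtype.ext (hab a a.2 b b.2)]
  choose lam hlam using hsc
  have hne : eigSpace ρ V lam ≠ ⊥ := by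
    have := CfsgLib.CharKernel.nontrivial_of_irreducible U₀.toRepresentation
    obtain ⟨w, hw⟩ := exists_ne (0 : U₀.toSubmodule)
    intro h
    have hm : (w : W) ∈ eigSpace ρ V lam := mem_eigSpace.mpr fun a =>
      congrArg Subtype.val (LinearMap.congr_fun (hlam a) w)
    rw [h, Submodule.mem_bot] at hm
    exact hw (Subtype.ext hm)
  -- conjugation of functions on V
  let act : ↥G → (↥V → ℂ) → (↥V → ℂ) := fun g μ a =>
    μ ⟨(g : X)⁻¹ * a * g, by simpa using (inferInstance : V.Normal).conj_mem _ a.2 (g : X)⁻¹⟩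
  let : MulAction ↥G (↥V → ℂ) :=
    { smul := act
      one_smul := fun μ => funext fun a => congrArg μ (Subtype.ext (by simp))
      mul_smul := fun g h μ => funext fun a => congrArg μ (Subtype.ext (by simp [mul_assoc])) }
  have hmap : ∀ (g : ↥G) (μ : ↥V → ℂ) (w : W), w ∈ eigSpace ρ V μ →
      ρ (g : X) w ∈ eigSpace ρ V (g • μ) := by
    intro g μ w hw
    refine mem_eigSpace.mpr fun a => ?_
    change ρ (a : X) (ρ (g : X) w) = μ ⟨(g : X)⁻¹ * a * g, _⟩ • ρ (g : X) w
    rw [← map_smul, ← mem_eigSpace.mp hw ⟨(g : X)⁻¹ * a * g, _⟩]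
    simp only [← Module.End.mul_apply, ← map_mul]
    congr 2
    simp [mul_assoc]
  let T := MulAction.stabilizer ↥G lam
  have hinv : ∀ t : ↥T, ∀ w ∈ eigSpace ρ V lam, ρ ((t : ↥G) : X) w ∈ eigSpace ρ V lam := by
    intro t w hw
    have := hmap t lam w hw
    rwa [MulAction.mem_stabilizer_iff.mp t.2] at this
  let ρT : Representation ℂ ↥T (eigSpace ρ V lam) :=
    { toFun := fun t => (ρ ((t : ↥G) : X)).restrict (hinv t)
      map_one' := LinearMap.ext fun w => Subtype.ext (by simp [LinearMap.restrict_apply])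
      map_mul' := fun s t => LinearMap.ext fun w => Subtype.ext (by simp [LinearMap.restrict_apply]) }
  have : Nontrivial (eigSpace ρ V lam) := Submodule.nontrivial_iff_ne_bot.mpr hne
  obtain ⟨U, hU⟩ := CfsgLib.CharKernel.exists_irreducible_sub ρT
  have hUdvd := CfsgLib.Char.finrank_dvd_card U.toRepresentation
  let j : U.toSubmodule →ₗ[ℂ] W := (eigSpace ρ V lam).subtype ∘ₗ U.toSubmodule.subtype
  have hj : Function.Injective j := fun a b h => Subtype.ext (Subtype.ext h)
  let : Fintype (↥G ⧸ T) := Fintype.ofFinite _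
  let Φ : ((↥G ⧸ T) → U.toSubmodule) →ₗ[ℂ] W :=
    ∑ q : ↥G ⧸ T, (ρ ((q.out : ↥G) : X)) ∘ₗ j ∘ₗ LinearMap.proj q
  have hΦ : ∀ u, Φ u = ∑ q : ↥G ⧸ T, ρ ((q.out : ↥G) : X) (j (u q)) := fun u => by
    simp [Φ]
  have hmemj : ∀ (q : ↥G ⧸ T) (u : U.toSubmodule),
      ρ ((q.out : ↥G) : X) (j u) ∈ eigSpace ρ V ((q.out : ↥G) • lam) := fun q u =>
    hmap _ _ _ (u.1).2
  have hΦinj : Function.Injective Φ := by
    rw [← LinearMap.ker_eq_bot, LinearMap.ker_eq_bot']
    intro u hu
    rw [hΦ] at hu
    funext q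
    have hinjμ : Function.Injective fun q : ↥G ⧸ T => (q.out : ↥G) • lam := by
      intro q r h
      simp only at h
      rw [← q.out_eq, ← r.out_eq]
      refine QuotientGroup.eq.mpr (MulAction.mem_stabilizer_iff.mpr ?_)
      rw [mul_smul, ← h, inv_smul_smul]
    have := eigSpace_indep Finset.univ _ hinjμ _ (fun q _ => hmemj q (u q)) hu q (Finset.mem_univ q)
    have h2 := congrArg (ρ ((q.out : ↥G) : X)⁻¹) this
    rw [Representation.inv_self_apply, map_zero] at h2
    exact hj (h2.trans (map_zero j).symm)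
  have hΦsurj : LinearMap.range Φ = ⊤ := by
    have hgen : ∀ (g : ↥G) (u : U.toSubmodule), ρ (g : X) (j u) ∈ LinearMap.range Φ := by
      intro g u
      let q : ↥G ⧸ T := QuotientGroup.mk g
      have ht : (q.out)⁻¹ * g ∈ T := QuotientGroup.eq.mp q.out_eq
      refine ⟨Pi.single q (U.toRepresentation ⟨_, ht⟩ u), ?_⟩
      rw [hΦ, Finset.sum_eq_single q]
      · rw [Pi.single_eq_same]
        change ρ ((q.out : ↥G) : X) (ρ ((q.out⁻¹ * g : ↥G) : X) (j u)) = _
        rw [← Module.End.mul_apply, ← map_mul, ← Subgroup.coe_mul, mul_inv_cancel_left]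
      · intro r _ hr
        rw [Pi.single_eq_of_ne hr, map_zero, map_zero]
      · intro h
        exact absurd (Finset.mem_univ q) h
    refine (CfsgLib.CharKernel.eq_bot_or_eq_top ρ _ ?_).resolve_left ?_
    · rintro x _ ⟨u, rfl⟩
      obtain ⟨⟨a, g⟩, rfl⟩ := hGV.2 x
      rw [hΦ, map_sum]
      refine Submodule.sum_mem _ fun q _ => ?_
      change ρ ((a : X) * (g : X)) (ρ ((q.out : ↥G) : X) (j (u q))) ∈ _
      rw [map_mul, Module.End.mul_apply, ← Module.End.mul_apply (ρ (g : X)), ← map_mul,
        ← Subgroup.coe_mul]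
      have := hmap (g * q.out) lam (j (u q)) (u q).1.2
      rw [mem_eigSpace.mp this ⟨a, a.2⟩]
      exact Submodule.smul_mem _ _ (hgen _ _)
    · intro h
      have := CfsgLib.CharKernel.nontrivial_of_irreducible U.toRepresentation
      obtain ⟨u, hu⟩ := exists_ne (0 : U.toSubmodule)
      have hm := hgen 1 u
      rw [h, Submodule.mem_bot, OneMemClass.coe_one, map_one, Module.End.one_apply] at hm
      exact hu (hj (hm.trans (map_zero j).symm))
  have hdim : finrank ℂ W = Nat.card (↥G ⧸ T) * finrank ℂ U.toSubmodule := by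
    rw [← (LinearEquiv.ofBijective Φ ⟨hΦinj, LinearMap.range_eq_top.mp hΦsurj⟩).finrank_eq,
      Module.finrank_pi_fintype, Finset.sum_const, smul_eq_mul, Finset.card_univ,
      Nat.card_eq_fintype_card]
  rw [hdim, Subgroup.card_eq_card_quotient_mul_card_subgroup T]
  exact Nat.mul_dvd_mul_left _ hUdvd

end CfsgLib.KGV
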