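import Cfsg.Agent.Lib.KGV.AbelianForm
import Cfsg.Agent.Lib.KGV.AbelianLayers
import Cfsg.Agent.Lib.KGV.GaloisMean
import Cfsg.Agent.Lib.KGV.SplitDegree
import Cfsg.Agent.Lib.KGV.PElementDiv
import Cfsg.Agent.Lib.Char.Complete
import Cfsg.Agent.Lib.Char.Linear
import Cfsg.Agent.Lib.Char.Virtual

/-!
# The abelian stabiliser criterion `k(GV) ≤ |V|`
-/

set_option autoImplicit false

open Polynomial
open scoped ComplexConjugate

namespace CfsgLib.KGV

universe u

/-- Irreducible characters of finite commutative groups are homomorphisms. -/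
theorem exists_hom_of_comm {H : Type u} [Group H] [Finite H] (hH : ∀ a b : H, a * b = b * a)
    (ψ : Cfsg.IrrCharacter H) : ∃ f : H →* ℂˣ, ∀ h, (ψ : H → ℂ) h = (f h : ℂ) := by
  classical
  let : Fintype H := Fintype.ofFinite H
  have hk : Nat.card (Cfsg.IrrCharacter H) = Nat.card H := by
    rw [CfsgLib.Char.card_irrCharacter]
    refine (Nat.card_eq_of_bijective ConjClasses.mk ⟨fun a b h => ?_, ConjClasses.mk_surjective⟩).symm
    obtain ⟨c, hc⟩ := isConj_iff.mp (ConjClasses.mk_eq_mk_iff_isConj.mp h)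
    rw [← hc, hH c a, mul_inv_cancel_right]
  have hd := CfsgLib.Char.sum_degree_sq (G := H)
  rw [← hk, Nat.card_eq_fintype_card, ← Finset.card_univ, Finset.card_eq_sum_ones] at hd
  have h1 := (Finset.sum_eq_sum_iff_of_le (fun χ : Cfsg.IrrCharacter H => fun _ =>
    Nat.one_le_pow _ _ (CfsgLib.Char.IsIrrCharacter.degree_pos χ.2))).mp hd.symm ψ (Finset.mem_univ ψ)
  have hc := CfsgLib.Char.IsIrrCharacter.isCharacter ψ.2
  refine CfsgLib.Char.IsCharacter.exists_linear hc ?_
  rw [← CfsgLib.Char.IsCharacter.degree_cast hc,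
    (Nat.pow_eq_one.mp h1.symm).resolve_right two_ne_zero, Nat.cast_one]

open Classical in
/-- A homomorphism to the units sums to zero unless trivial. -/
theorem sum_hom {C : Type*} [Group C] [Fintype C] (lam : C →* ℂ) :
    ∑ c, lam c = if lam = 1 then (Fintype.card C : ℂ) else 0 := by
  split_ifs with h
  · simp [h]
  · obtain ⟨c₀, hc₀⟩ : ∃ c, lam c ≠ 1 := by
      by_contra hc
      push Not at hc
      exact h (MonoidHom.ext hc)
    have : lam c₀ * ∑ c, lam c = ∑ c, lam c := by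
      rw [Finset.mul_sum]
      exact Fintype.sum_equiv (Equiv.mulLeft c₀) _ _ fun c => (map_mul lam c₀ c).symm
    have h0 : (lam c₀ - 1) * ∑ c, lam c = 0 := by rw [sub_mul, this, one_mul, sub_self]
    exact (mul_eq_zero.mp h0).resolve_left (sub_ne_zero.mpr hc₀)

/-- The weighted norm of a family of functions with polynomial coefficients on an abelian group. -/
theorem weighted_lower {C : Type u} [Group C] [Fintype C] (hC : ∀ a b : C, a * b = b * a)
    {r : ℕ} (K : Fin r → Subgroup C) (hK : ∀ c, (∀ i, c ∈ K i) → c = 1)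
    [∀ i, DecidablePred (· ∈ K i)]
    {n : ℕ} (hn : 0 < n) {p : ℕ} (ζ : ℂ) (hζ : IsPrimitiveRoot ζ n)
    {J : Type*} [Fintype J] (m : J → ℕ) (ex : J → ℕ) (lam : J → C →* ℂ)
    (hnd : ¬ IsIntegral ℤ (((∏ i, (K i).index : ℕ) : ℂ) * (∑ j, (m j : ℂ) * ζ ^ ex j) / (p : ℂ))) :
    ((primitiveRoots n ℂ).card : ℝ) * (Fintype.card C : ℝ) ^ 2 ≤
      ∑ ω ∈ primitiveRoots n ℂ, ∑ c, (∏ i, if c ∈ K i then (1 : ℝ) else 1 + (K i).index) *
        ‖∑ j, (m j : ℂ) * ω ^ ex j * lam j c‖ ^ 2 := by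
  classical
  have hKn : ∀ i, (K i).Normal := fun i => ⟨fun a ha g => by
    rw [hC g a, mul_inv_cancel_right]; exact ha⟩
  let A : Fin r → Type u := fun i => C ⧸ K i
  let : ∀ i, Fintype (A i) := fun i => Fintype.ofFinite (C ⧸ K i)
  let I : Fin r → Type u := fun i => Cfsg.IrrCharacter (C ⧸ K i)
  let : ∀ i, Fintype (I i) := fun i => Fintype.ofFinite (Cfsg.IrrCharacter (C ⧸ K i))
  have hA : ∀ i, ∀ a b : C ⧸ K i, a * b = b * a := fun i a b => by
    induction a using QuotientGroup.induction_on with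
    | H x => induction b using QuotientGroup.induction_on with
      | H y => rw [← QuotientGroup.mk_mul, hC, QuotientGroup.mk_mul]
  let o : ∀ i, A i := fun i => (1 : C ⧸ K i)
  let e : ∀ i, I i → A i → ℂ := fun i ν y => ν.1 y
  have hcent : ∀ i (y : C ⧸ K i), Subgroup.centralizer ({y} : Set (C ⧸ K i)) = ⊤ := fun i y => by
    ext x; simp [Subgroup.mem_centralizer_singleton_iff, hA i x y]
  have hom : ∀ i (ν : I i), ∃ f : (C ⧸ K i) →* ℂˣ, ∀ h, e i ν h = (f h : ℂ) := fun i ν =>
    exists_hom_of_comm (hA i) ν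
  choose hf hhf using hom
  have he1 : ∀ i ν, e i ν (o i) = 1 := fun i ν => by
    rw [hhf]; exact Units.val_eq_one.mpr (map_one _)
  have horth : ∀ i ν μ, ν ≠ μ → ∑ y, e i ν y * conj (e i μ y) = 0 := by
    intro i ν μ h
    have h2 := CfsgLib.Char.classInner_irr_of_ne ν.2 μ.2 (fun h' => h (Subtype.ext h'))
    rw [Cfsg.classInner, mul_eq_zero] at h2
    exact h2.resolve_left (inv_ne_zero (Nat.cast_ne_zero.mpr Nat.card_pos.ne'))
  have hnorm : ∀ i ν, ∑ y, e i ν y * conj (e i ν y) = (Fintype.card (A i) : ℂ) := by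
    intro i ν
    have h2 := CfsgLib.Char.classInner_irr_self ν.2
    rw [Cfsg.classInner, inv_mul_eq_one₀ (Nat.cast_ne_zero.mpr Nat.card_pos.ne'),
      Nat.card_eq_fintype_card] at h2
    exact h2.symm
  have hcard : ∀ i, Fintype.card (I i) = Fintype.card (A i) := by
    intro i
    rw [← Nat.card_eq_fintype_card, ← Nat.card_eq_fintype_card]
    change Nat.card (Cfsg.IrrCharacter (C ⧸ K i)) = Nat.card (C ⧸ K i)
    rw [CfsgLib.Char.card_irrCharacter]
    refine (Nat.card_eq_of_bijective ConjClasses.mk ⟨fun a b h => ?_, ConjClasses.mk_surjective⟩).symm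
    obtain ⟨c, hc⟩ := isConj_iff.mp (ConjClasses.mk_eq_mk_iff_isConj.mp h)
    rw [← hc, hA i c a, mul_inv_cancel_right]
  have hcol : ∀ i (y z : A i), ∑ ν : I i, e i ν y * conj (e i ν z) =
      if y = z then (Fintype.card (A i) : ℂ) else 0 := by
    intro i y z
    have h := CfsgLib.Char.sum_mul_conj (G := C ⧸ K i) y z
    have hiff : IsConj (α := C ⧸ K i) y z ↔ y = z := ⟨fun h => by
      obtain ⟨c, hc⟩ := isConj_iff.mp h
      rw [← hc, hA i c y, mul_inv_cancel_right], fun h => h ▸ IsConj.refl _⟩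
    rw [if_congr hiff rfl rfl, hcent, Subgroup.card_top, Nat.card_eq_fintype_card] at h
    convert h using 2 <;> first | rfl | exact Subsingleton.elim _ _
  let ι : C → ∀ i, A i := fun c i => (QuotientGroup.mk c : C ⧸ K i)
  have hι : Function.Injective ι := fun a b h => by
    have := hK (a⁻¹ * b) fun i => QuotientGroup.eq.mp (congrFun h i)
    exact inv_mul_eq_one.mp this
  let lam2 : (∀ i, I i) → C →* ℂ := fun ν =>
    { toFun := fun c => ∏ i, conj (e i (ν i) (ι c i))
      map_one' := Finset.prod_eq_one fun i _ => by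
        change conj (e i (ν i) (o i)) = 1
        rw [he1, map_one]
      map_mul' := fun a b => by
        rw [← Finset.prod_mul_distrib]
        refine Finset.prod_congr rfl fun i _ => ?_
        rw [hhf, hhf, hhf, ← map_mul (starRingEnd ℂ), ← Units.val_mul, ← map_mul]
        rfl }
  let F : ℂ → C → ℂ := fun ω c => ∑ j, (m j : ℂ) * ω ^ ex j * lam j c
  let P : (∀ i, I i) → ℤ[X] := fun ν =>
    ∑ j, if lam j * lam2 ν = 1 then Polynomial.C (m j : ℤ) * X ^ ex j else 0
  have hC0 : (Fintype.card C : ℂ) ≠ 0 := Nat.cast_ne_zero.mpr Fintype.card_ne_zero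
  have hev : ∀ ω ν, aeval ω (P ν) = (Fintype.card C : ℂ)⁻¹ * ∑ c, F ω c * lam2 ν c := by
    intro ω ν
    simp only [P, F, map_sum, Finset.sum_mul]
    rw [Finset.sum_comm, Finset.mul_sum]
    refine Finset.sum_congr rfl fun j _ => ?_
    simp only [mul_assoc, ← Finset.mul_sum]
    have hs := sum_hom (lam j * lam2 ν)
    simp only [MonoidHom.mul_apply] at hs
    rw [hs]
    split_ifs with h
    · simp only [map_mul, map_pow, aeval_X, eq_intCast, Int.cast_natCast, map_natCast]
      field_simp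
    · simp
  let T : ℕ := ∏ i, Fintype.card (A i)
  have hT : (T : ℂ) = ∏ i, (Fintype.card (A i) : ℂ) := Nat.cast_prod _ _
  have hTidx : T = ∏ i, (K i).index := Finset.prod_congr rfl fun i _ =>
    (Nat.card_eq_fintype_card (α := A i)).symm
  -- the lifted function
  have hlift : ∀ ω (y : ∀ i, A i), ∑ ν, aeval ω (P ν) * ∏ i, e i (ν i) (y i) =
      (Fintype.card C : ℂ)⁻¹ * ∑ c, F ω c * if y = ι c then (T : ℂ) else 0 := by
    intro ω y
    simp only [hev, Finset.mul_sum, Finset.sum_mul]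
    rw [Finset.sum_comm]
    refine Finset.sum_congr rfl fun c _ => ?_
    simp only [mul_assoc, ← Finset.mul_sum]
    congr 2
    change ∑ ν : (∀ i, I i), (∏ i, conj (e i (ν i) (ι c i))) * ∏ i, e i (ν i) (y i) = _
    simp only [← Finset.prod_mul_distrib]
    rw [← Fintype.prod_sum (fun i (ν : I i) => conj (e i ν (ι c i)) * e i ν (y i))]
    rw [Finset.prod_congr rfl (fun i _ => by
      rw [← hcol i (y i) (ι c i)]
      exact Finset.sum_congr rfl fun ν _ => mul_comm _ _ :
      ∀ i ∈ Finset.univ, ∑ ν, conj (e i ν (ι c i)) * e i ν (y i) =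
        if y i = ι c i then (Fintype.card (A i) : ℂ) else 0)]
    by_cases h : y = ι c
    · subst h
      simp [hT]
    · obtain ⟨i, hi⟩ := Function.ne_iff.mp h
      rw [if_neg h, Finset.prod_eq_zero (Finset.mem_univ i) (if_neg hi)]
  let J0 : AddSubgroup ℤ[X] :=
    { carrier := {Q | IsIntegral ℤ (aeval ζ Q / (p : ℂ))}
      zero_mem' := by simp [isIntegral_zero]
      add_mem' := fun {a b} ha hb => by
        simp only [Set.mem_ofPred_eq, map_add, add_div] at *
        exact ha.add hb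
      neg_mem' := fun {a} ha => by
        simp only [Set.mem_ofPred_eq, map_neg, neg_div] at *
        exact ha.neg }
  have hP : ∑ ν, P ν ∉ J0 := by
    intro h
    have htot : aeval ζ (∑ ν, P ν) = (Fintype.card C : ℂ)⁻¹ * ((T : ℂ) * ∑ j, (m j : ℂ) * ζ ^ ex j) := by
      have h2 := hlift ζ o
      simp only [he1, Finset.prod_const_one, mul_one] at h2
      rw [map_sum, h2, Finset.sum_eq_single (1 : C)]
      · rw [if_pos (show o = ι 1 from rfl)]
        simp only [F, map_one, mul_one]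
        ring
      · intro c _ hc
        rw [if_neg, mul_zero]
        intro hoc
        exact hc (hι (hoc.symm.trans rfl))
      · intro hh
        exact absurd (Finset.mem_univ _) hh
    have h3 : IsIntegral ℤ (aeval ζ (∑ ν, P ν) / (p : ℂ)) := h
    apply hnd
    rw [← hTidx]
    have h4 : IsIntegral ℤ (((Fintype.card C : ℕ) : ℂ) * (aeval ζ (∑ ν, P ν) / (p : ℂ))) := by
      have h5 := IsIntegral.mul
        (isIntegral_algebraMap (R := ℤ) (A := ℂ) (x := (Fintype.card C : ℤ))) h3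
      simpa using h5
    rw [htot, mul_div_assoc, mul_inv_cancel_left₀ hC0] at h4
    rw [mul_div_assoc] at h4 ⊢
    exact h4
  have hbase : ∀ Q : ℤ[X], Q ∉ J0 → (Fintype.card ↥(primitiveRoots n ℂ) : ℝ) ≤
      ∑ ω : ↥(primitiveRoots n ℂ), ‖aeval (ω : ℂ) Q‖ ^ 2 := by
    intro Q hQ
    rw [Fintype.card_coe, Finset.sum_coe_sort (primitiveRoots n ℂ) (fun ω => ‖aeval ω Q‖ ^ 2)]
    exact card_le_sum_sq_norm_aeval hn Q hζ fun h0 => hQ (by
      change IsIntegral ℤ (aeval ζ Q / (p : ℂ))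
      rw [h0, zero_div]
      exact isIntegral_zero)
  have hmain := form_lower J0 (fun ω : ↥(primitiveRoots n ℂ) => (ω : ℂ)) hbase r A I o e horth hnorm
    he1 hcard P hP
  rw [Fintype.card_coe, Finset.sum_coe_sort (primitiveRoots n ℂ) (fun ω => ∑ y : ∀ i, A i,
    (∏ i, if y i = o i then (1 : ℝ) else 1 + Fintype.card (A i)) *
      ‖∑ ν, aeval ω (P ν) * ∏ i, e i (ν i) (y i)‖ ^ 2), ← Nat.cast_prod] at hmain
  have hTpos : (0 : ℝ) < T := Nat.cast_pos.mpr (Finset.prod_pos fun i _ => Fintype.card_pos)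
  have hCpos : (0 : ℝ) < Fintype.card C := Nat.cast_pos.mpr Fintype.card_pos
  have hω : ∀ ω : ℂ, ∑ y : ∀ i, A i, (∏ i, if y i = o i then (1 : ℝ) else 1 + Fintype.card (A i)) *
      ‖∑ ν, aeval ω (P ν) * ∏ i, e i (ν i) (y i)‖ ^ 2 =
      ((T : ℝ) / Fintype.card C) ^ 2 * ∑ c, (∏ i, if c ∈ K i then (1 : ℝ) else 1 + (K i).index) *
        ‖F ω c‖ ^ 2 := by
    intro ω
    rw [Finset.mul_sum]
    rw [← Finset.sum_subset (Finset.subset_univ (Finset.univ.image ι)) (fun y _ hy => by
      rw [hlift, Finset.sum_eq_zero, mul_zero, norm_zero, zero_pow two_ne_zero, mul_zero]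
      intro c _
      rw [if_neg, mul_zero]
      intro h
      exact hy (Finset.mem_image.mpr ⟨c, Finset.mem_univ c, h.symm⟩)),
      Finset.sum_image fun a _ b _ h => hι h]
    refine Finset.sum_congr rfl fun c _ => ?_
    rw [hlift, Finset.sum_eq_single c, if_pos rfl, norm_mul, norm_mul, norm_inv, Complex.norm_natCast,
      Complex.norm_natCast]
    · have hw : (∏ i, if ι c i = o i then (1 : ℝ) else 1 + Fintype.card (A i)) =
          ∏ i, if c ∈ K i then (1 : ℝ) else 1 + (K i).index := Finset.prod_congr rfl fun i _ =>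
        if_congr (QuotientGroup.eq_one_iff c) rfl (by rw [← Nat.card_eq_fintype_card]; rfl)
      rw [hw]
      field_simp
    · intro b _ hb
      rw [if_neg (fun h => hb (hι h).symm), mul_zero]
    · intro hh
      exact absurd (Finset.mem_univ _) hh
  simp only [hω, ← Finset.mul_sum] at hmain
  refine le_of_mul_le_mul_left ?_ (pow_pos (div_pos hTpos hCpos) 2)
  refine le_trans (le_of_eq ?_) hmain
  simp only [T]
  field_simp

/-- The abelian stabiliser criterion. -/
theorem class_number_le_of_abelian_stabilizer {X : Type*} [Group X] [Finite X] (p : ℕ) [Fact p.Prime]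
    (V : Subgroup X) [V.Normal] (hVexp : ∀ v ∈ V, v ^ p = 1) (hidx : ¬ p ∣ V.index)
    (hself : Subgroup.centralizer (V : Set X) = V) (G : Subgroup X)
    (hGV : Subgroup.IsComplement' V G) (v : X) (hv : v ∈ V)
    (hab : ∀ a ∈ G ⊓ Subgroup.centralizer ({v} : Set X), ∀ b ∈ G ⊓ Subgroup.centralizer ({v} : Set X),
      a * b = b * a) : Nat.card (ConjClasses X) ≤ Nat.card V := by
  classical
  let : Fintype X := Fintype.ofFinite X
  have hVab : ∀ a ∈ V, ∀ b ∈ V, a * b = b * a := fun a ha b hb => by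
    rw [← hself] at ha
    exact (Subgroup.mem_centralizer_iff.mp ha b hb).symm
  let : CommGroup ↥V :=
    { Subgroup.toGroup V with mul_comm := fun a b => Subtype.ext (hVab a a.2 b b.2) }
  set C : Subgroup X := G ⊓ Subgroup.centralizer ({v} : Set X) with hCdef
  let : Fintype ↥C := Fintype.ofFinite _
  have hCab : ∀ a b : ↥C, a * b = b * a := fun a b => Subtype.ext (hab a a.2 b b.2)
  have hCv : ∀ c : ↥C, Commute (c : X) v := fun c =>
    Subgroup.mem_centralizer_singleton_iff.mp c.2.2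
  let φ : ↥C →* MulAut ↥V := (MulAut.conjNormal (H := V)).comp C.subtype
  have hφ : ∀ (c : ↥C) (a : ↥V), ((φ c a : ↥V) : X) = c * a * (c : X)⁻¹ := fun c a =>
    MulAut.conjNormal_apply (c : X) a
  have hidxG : V.index = Nat.card ↥G := hGV.symm.index_eq_card
  have hCp : ¬ p ∣ Nat.card ↥C := fun h => hidx
    (hidxG ▸ h.trans (Subgroup.card_dvd_of_le inf_le_left))
  have hVp : IsPGroup p ↥V := fun a => ⟨1, Subtype.ext (by rw [pow_one]; exact hVexp a a.2)⟩
  have hcop : (Nat.card ↥V).Coprime (Nat.card ↥C) := by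
    obtain ⟨k, hk⟩ := IsPGroup.iff_card.mp hVp
    rw [hk]
    exact Nat.Coprime.pow_left k ((Fact.out : p.Prime).coprime_iff_not_dvd.mpr hCp)
  obtain ⟨l, hl, hl'⟩ := exists_layers hCab (Nat.card ↥V) ↥V φ rfl hcop
  let K : Fin l.length → Subgroup ↥C := fun i => l[i.1]
  have hK : ∀ c, (∀ i, c ∈ K i) → c = 1 := by
    intro c hc
    have hfix := hl c fun L hL => by
      obtain ⟨i, hi, rfl⟩ := List.getElem_of_mem hL
      exact hc ⟨i, hi⟩
    have hmem : (c : X) ∈ Subgroup.centralizer (V : Set X) := by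
      rw [Subgroup.mem_centralizer_iff]
      intro a ha
      have := (hφ c ⟨a, ha⟩).symm.trans (congrArg Subtype.val (hfix ⟨a, ha⟩))
      exact (mul_inv_eq_iff_eq_mul.mp this).symm
    rw [hself] at hmem
    exact Subtype.ext (Subgroup.disjoint_def.mp hGV.disjoint hmem c.2.1)
  have hW : ∀ c : ↥C, (∏ i, if c ∈ K i then (1 : ℕ) else 1 + (K i).index) *
      Nat.card {a : ↥V // φ c a = a} ≤ Nat.card ↥V := by
    intro c
    refine le_trans (le_of_eq ?_) (hl' c)
    congr 1
    exact Fin.prod_univ_fun_getElem l fun L : Subgroup ↥C => if c ∈ L then (1 : ℕ) else 1 + L.index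
  have hTp : ¬ p ∣ ∏ i, (K i).index := fun h => by
    obtain ⟨i, -, hi⟩ := (Prime.dvd_finsetProd_iff (Fact.out : p.Prime).prime _).mp h
    exact hCp (hi.trans (K i).index_dvd_card)
  -- the group `⟨v⟩ × C`
  let f : (↥(Subgroup.zpowers v) × ↥C) →* X :=
    { toFun := fun h => (h.1 : X) * h.2
      map_one' := by simp
      map_mul' := fun a b => by
        obtain ⟨k, hk⟩ := Subgroup.mem_zpowers_iff.mp b.1.2
        have hcm : Commute (a.2 : X) (b.1 : X) := hk ▸ (hCv a.2).zpow_right k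
        simp only [Prod.fst_mul, Prod.snd_mul, Subgroup.coe_mul]
        rw [mul_assoc, mul_assoc, ← mul_assoc (a.2 : X), hcm.eq, mul_assoc] }
  have hH : ∀ a b : (↥(Subgroup.zpowers v) × ↥C), a * b = b * a := fun a b => by
    refine Prod.ext (Subtype.ext ?_) (hCab a.2 b.2)
    obtain ⟨i, hi⟩ := Subgroup.mem_zpowers_iff.mp a.1.2
    obtain ⟨j, hj⟩ := Subgroup.mem_zpowers_iff.mp b.1.2
    simp only [Prod.fst_mul, Subgroup.coe_mul, ← hi, ← hj, ← zpow_add, add_comm]
  let gv : (↥(Subgroup.zpowers v) × ↥C) := (⟨v, Subgroup.mem_zpowers v⟩, 1)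
  let : Fintype (↥(Subgroup.zpowers v) × ↥C) := Fintype.ofFinite (↥(Subgroup.zpowers v) × ↥C)
  let n := Nat.card X
  have hn : 0 < n := Nat.card_pos
  let ζ := Complex.exp (2 * Real.pi * Complex.I / n)
  have hζ : IsPrimitiveRoot ζ n := Complex.isPrimitiveRoot_exp n hn.ne'
  have : NeZero n := ⟨hn.ne'⟩
  have hlin := fun ψ : Cfsg.IrrCharacter (↥(Subgroup.zpowers v) × ↥C) => exists_hom_of_comm hH ψ
  choose L hL using hlin
  have hex : ∀ ψ : Cfsg.IrrCharacter (↥(Subgroup.zpowers v) × ↥C), ∃ e, ζ ^ e = (L ψ gv : ℂ) := fun ψ => by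
    have : gv ^ n = 1 := by
      refine Prod.ext (Subtype.ext ?_) (one_pow n)
      simp only [Prod.pow_fst, SubmonoidClass.coe_pow]
      exact pow_card_eq_one'
    obtain ⟨e, -, he⟩ := hζ.eq_pow_of_pow_eq_one (ξ := (L ψ gv : ℂ))
      (by rw [← Units.val_pow_eq_pow_val, ← map_pow, this, map_one, Units.val_one])
    exact ⟨e, he⟩
  choose ex hex using hex
  let lam : Cfsg.IrrCharacter (↥(Subgroup.zpowers v) × ↥C) → ↥C →* ℂ := fun ψ =>
    ((Units.coeHom ℂ).comp (L ψ)).comp (MonoidHom.inr ↥(Subgroup.zpowers v) ↥C)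
  -- the bound for a single character
  have hcent : ∀ (k : ℕ), ¬ p ∣ k → ∀ c : ↥C,
      Nat.card ↥(Subgroup.centralizer ({v ^ k * (c : X)} : Set X)) =
        Nat.card ↥C * Nat.card {a : ↥V // φ c a = a} := by
    intro k hk c
    have hcn : (c : X) ^ Nat.card ↥C = 1 := by
      rw [← SubmonoidClass.coe_pow, pow_card_eq_one', OneMemClass.coe_one]
    have hsplit : ∀ x : X, Commute x (v ^ k * (c : X)) → Commute x v ∧ Commute x (c : X) := by
      intro x hx
      have h1 : Commute x (v ^ (k * Nat.card ↥C)) := by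
        have := hx.pow_right (Nat.card ↥C)
        rwa [((hCv c).symm.pow_left k).mul_pow, hcn, mul_one, ← pow_mul] at this
      have hcp : (k * Nat.card ↥C).Coprime (orderOf v) :=
        Nat.Coprime.coprime_dvd_right (orderOf_dvd_of_pow_eq_one (hVexp v hv))
          ((Fact.out : p.Prime).coprime_iff_not_dvd.mpr
            (fun h => ((Fact.out : p.Prime).dvd_mul.mp h).elim hk hCp)).symm
      obtain ⟨i, hi⟩ := exists_pow_eq_self_of_coprime hcp
      have hxv : Commute x v := hi ▸ h1.pow_right i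
      refine ⟨hxv, ?_⟩
      have := (hxv.pow_right k).inv_right.mul_right hx
      rwa [inv_mul_cancel_left] at this
    rw [mul_comm, ← Nat.card_prod]
    refine (Nat.card_eq_of_bijective
      (fun q : {a : ↥V // φ c a = a} × ↥C => (⟨(q.1.1 : X) * q.2, ?_⟩ :
        ↥(Subgroup.centralizer ({v ^ k * (c : X)} : Set X)))) ⟨?_, ?_⟩).symm
    · rw [Subgroup.mem_centralizer_singleton_iff]
      have ha : Commute (q.1.1 : X) (c : X) := by
        have := (hφ c q.1.1).symm.trans (congrArg Subtype.val q.1.2)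
        exact (mul_inv_eq_iff_eq_mul.mp this).symm
      exact (((Commute.mul_left (hVab _ q.1.1.2 v hv) (hCv q.2)).pow_right k).mul_right
        (ha.mul_left (congrArg Subtype.val (hCab q.2 c) :))).eq
    · rintro ⟨a, g⟩ ⟨b, h⟩ he
      have := hGV.1 (a₁ := (a.1, ⟨g, g.2.1⟩)) (a₂ := (b.1, ⟨h, h.2.1⟩)) (congrArg Subtype.val he)
      simp only [Prod.mk.injEq, Subtype.mk.injEq] at this
      exact Prod.ext (Subtype.ext this.1) (Subtype.ext this.2)
    · rintro ⟨x, hx⟩
      obtain ⟨⟨a, g⟩, rfl⟩ := hGV.2 x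
      obtain ⟨h1, h2⟩ := hsplit _ (Subgroup.mem_centralizer_singleton_iff.mp hx)
      have hg : (g : X) ∈ C := ⟨g.2, Subgroup.mem_centralizer_singleton_iff.mpr (by
        have := (Commute.inv_left (hVab a a.2 v hv)).mul_left h1
        rwa [inv_mul_cancel_left] at this)⟩
      have ha : Commute (a : X) (c : X) := by
        have := h2.mul_left (Commute.inv_left (congrArg Subtype.val (hCab ⟨g, hg⟩ c) :))
        rwa [mul_inv_cancel_right] at this
      refine ⟨(⟨⟨a, a.2⟩, Subtype.ext ?_⟩, ⟨g, hg⟩), rfl⟩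
      rw [hφ]
      exact mul_inv_eq_iff_eq_mul.mpr ha.symm.eq
  have hmult : ∀ χ : Cfsg.IrrCharacter X, ∃ m : Cfsg.IrrCharacter (↥(Subgroup.zpowers v) × ↥C) → ℕ, ∀ (k : ℕ) (c : ↥C),
      (χ : X → ℂ) (v ^ k * (c : X)) = ∑ ψ, (m ψ : ℂ) * (ζ ^ k) ^ ex ψ * lam ψ c := by
    intro χ
    obtain ⟨m, hm⟩ := CfsgLib.Char.IsCharacter.exists_nat_combination
      (CfsgLib.Char.IsCharacter.comp (CfsgLib.Char.IsIrrCharacter.isCharacter χ.2) f)
    refine ⟨m, fun k c => ?_⟩
    have := congrFun hm (gv ^ k * (1, c))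
    have hfv : f (gv ^ k * (1, c)) = v ^ k * (c : X) := by
      rw [map_mul, map_pow]
      simp [f, gv]
    rw [hfv] at this
    rw [this, Finset.sum_apply]
    refine Finset.sum_congr rfl fun ψ _ => ?_
    rw [Pi.smul_apply, smul_eq_mul, hL, map_mul, map_pow, Units.val_mul, Units.val_pow_eq_pow_val,
      ← hex, ← pow_mul, ← pow_mul, mul_comm k, mul_assoc]
    rfl
  have hsingle : ∀ χ : Cfsg.IrrCharacter X,
      ((primitiveRoots n ℂ).card : ℝ) * (Fintype.card ↥C : ℝ) ^ 2 ≤
        ∑ ω ∈ primitiveRoots n ℂ, ∑ c : ↥C, (∏ i, if c ∈ K i then (1 : ℝ) else 1 + (K i).index) *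
          ‖(χ : X → ℂ) (v ^ Classical.epsilon (fun k => ζ ^ k = ω ∧ k.Coprime n) * (c : X))‖ ^ 2 := by
    intro χ
    obtain ⟨m, hm⟩ := hmult χ
    refine le_trans (weighted_lower hCab K hK hn ζ hζ m ex lam (p := p) ?_) (le_of_eq ?_)
    · obtain ⟨d, ρ, hρ, hρe⟩ := χ.2
      have hdeg := finrank_dvd_card_complement ρ V G hVab hGV
      have hval : ∑ ψ, (m ψ : ℂ) * ζ ^ ex ψ = ρ.character v := by
        have := hm 1 1
        simp only [pow_one, OneMemClass.coe_one, mul_one, map_one] at this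
        rw [hρe, this]
      rw [hval]
      exact not_isIntegral_natCast_mul_character_div ρ (k := 1) (by rw [pow_one]; exact hVexp v hv)
        (fun h => hidx (hidxG ▸ h.trans hdeg)) _ hTp
    · refine Finset.sum_congr rfl fun ω hω => Finset.sum_congr rfl fun c _ => ?_
      have hspec := Classical.epsilon_spec (p := fun k => ζ ^ k = ω ∧ k.Coprime n) (by
        have hw := (mem_primitiveRoots hn).mp hω
        obtain ⟨k, -, hk⟩ := hζ.eq_pow_of_pow_eq_one hw.pow_eq_one
        exact ⟨k, hk, (hζ.pow_iff_coprime hn k).mp (hk ▸ hw)⟩)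
      rw [hm, hspec.1]
  have hsum := Finset.sum_le_sum (s := Finset.univ) fun χ _ => hsingle χ
  rw [Finset.sum_const, Finset.card_univ, nsmul_eq_mul, ← Nat.card_eq_fintype_card,
    CfsgLib.Char.card_irrCharacter, Finset.sum_comm] at hsum
  have hupper : ∀ ω ∈ primitiveRoots n ℂ, ∑ χ : Cfsg.IrrCharacter X, ∑ c : ↥C,
      (∏ i, if c ∈ K i then (1 : ℝ) else 1 + (K i).index) *
        ‖(χ : X → ℂ) (v ^ Classical.epsilon (fun k => ζ ^ k = ω ∧ k.Coprime n) * (c : X))‖ ^ 2 ≤
      (Fintype.card ↥C : ℝ) ^ 2 * Nat.card ↥V := by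
    intro ω hω
    have hspec := Classical.epsilon_spec (p := fun k => ζ ^ k = ω ∧ k.Coprime n) (by
      have hw := (mem_primitiveRoots hn).mp hω
      obtain ⟨k, -, hk⟩ := hζ.eq_pow_of_pow_eq_one hw.pow_eq_one
      exact ⟨k, hk, (hζ.pow_iff_coprime hn k).mp (hk ▸ hw)⟩)
    set k := Classical.epsilon (fun k => ζ ^ k = ω ∧ k.Coprime n)
    rw [Finset.sum_comm]
    simp only [← Finset.mul_sum]
    have hle : ∀ c : ↥C, (∏ i, if c ∈ K i then (1 : ℝ) else 1 + (K i).index) *
        ∑ χ : Cfsg.IrrCharacter X, ‖(χ : X → ℂ) (v ^ k * (c : X))‖ ^ 2 ≤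
        (Fintype.card ↥C : ℝ) * Nat.card ↥V := by
      intro c
      have hcol : ∑ χ : Cfsg.IrrCharacter X, ‖(χ : X → ℂ) (v ^ k * (c : X))‖ ^ 2 =
          (Nat.card ↥(Subgroup.centralizer ({v ^ k * (c : X)} : Set X)) : ℝ) := by
        have h := CfsgLib.Char.sum_mul_conj (v ^ k * (c : X)) (v ^ k * (c : X))
        rw [if_pos (IsConj.refl _)] at h
        have h2 : ((∑ χ : Cfsg.IrrCharacter X, ‖(χ : X → ℂ) (v ^ k * (c : X))‖ ^ 2 : ℝ) : ℂ) =
            ((Nat.card ↥(Subgroup.centralizer ({v ^ k * (c : X)} : Set X)) : ℝ) : ℂ) := by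
          push_cast
          rw [← h]
          exact Finset.sum_congr rfl fun χ _ => (Complex.mul_conj' _).symm
        exact_mod_cast h2
      rw [hcol]
      by_cases hp : p ∣ k
      · -- only possible when `p` does not divide the order of `X`
        have hpn : ¬ p ∣ n := fun h => (Fact.out : p.Prime).not_dvd_one
          (hspec.2.gcd_eq_one ▸ Nat.dvd_gcd hp h)
        have hv1 : v = 1 := orderOf_eq_one_iff.mp (by
          rcases ((Nat.dvd_prime (Fact.out : p.Prime)).mp
            (orderOf_dvd_of_pow_eq_one (hVexp v hv))) with h | h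
          · exact h
          · exact absurd (h ▸ orderOf_dvd_natCard v) hpn)
        have := hcent 1 (Fact.out : p.Prime).not_dvd_one c
        simp only [hv1, one_pow] at this ⊢
        rw [this, Nat.card_eq_fintype_card (α := ↥C), Nat.cast_mul, mul_left_comm]
        refine mul_le_mul_of_nonneg_left ?_ (Nat.cast_nonneg _)
        exact_mod_cast hW c
      · rw [hcent k hp c, Nat.card_eq_fintype_card (α := ↥C), Nat.cast_mul, mul_left_comm]
        refine mul_le_mul_of_nonneg_left ?_ (Nat.cast_nonneg _)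
        exact_mod_cast hW c
    refine le_trans (Finset.sum_le_sum fun c _ => hle c) (le_of_eq ?_)
    rw [Finset.sum_const, Finset.card_univ, nsmul_eq_mul]
    ring
  have h2 := le_trans hsum (Finset.sum_le_sum hupper)
  rw [Finset.sum_const, nsmul_eq_mul] at h2
  have hc1 : (0 : ℝ) < (primitiveRoots n ℂ).card :=
    Nat.cast_pos.mpr (Finset.card_pos.mpr ⟨ζ, (mem_primitiveRoots hn).mpr hζ⟩)
  have hc2 : (0 : ℝ) < (Fintype.card ↥C : ℝ) ^ 2 := pow_pos (Nat.cast_pos.mpr Fintype.card_pos) 2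
  have h3 : (Nat.card (ConjClasses X) : ℝ) ≤ (Nat.card ↥V : ℝ) := by
    refine le_of_mul_le_mul_right ?_ (mul_pos hc1 hc2)
    refine le_trans h2 (le_of_eq ?_)
    ring
  exact_mod_cast h3

end CfsgLib.KGV
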