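import Mathlib

/-!
# The quadratic form of the abelian stabiliser criterion for the `k(GV)` problem
-/

set_option autoImplicit false

open Polynomial
open scoped ComplexConjugate

namespace CfsgLib.KGV

universe u

/-- One coordinate of the weighted form. -/
theorem weighted_step {A I : Type*} [Fintype A] [Fintype I] [DecidableEq A] (o : A) (e : I → A → ℂ)
    (horth : ∀ ν μ, ν ≠ μ → ∑ y, e ν y * conj (e μ y) = 0)
    (hnorm : ∀ ν, ∑ y, e ν y * conj (e ν y) = (Fintype.card A : ℂ))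
    (h1 : ∀ ν, e ν o = 1) (hcard : Fintype.card I = Fintype.card A) (g : I → ℂ) :
    ∑ y, (if y = o then (1 : ℝ) else 1 + Fintype.card A) * ‖∑ ν, g ν * e ν y‖ ^ 2 =
      Fintype.card A * (∑ ν, ‖g ν‖ ^ 2 + 2⁻¹ * ∑ ν, ∑ μ, ‖g ν - g μ‖ ^ 2) := by
  classical
  have key : (∑ y, (if y = o then (1 : ℂ) else 1 + Fintype.card A) *
        ((∑ ν, g ν * e ν y) * conj (∑ ν, g ν * e ν y))) =
      Fintype.card A * (∑ ν, g ν * conj (g ν) + 2⁻¹ * ∑ ν, ∑ μ, (g ν - g μ) * conj (g ν - g μ)) := by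
    have hpair : ∀ ν μ, ∑ y, g ν * e ν y * conj (g μ * e μ y) =
        g ν * conj (g μ) * ∑ y, e ν y * conj (e μ y) := fun ν μ => by
      rw [Finset.mul_sum]
      exact Finset.sum_congr rfl fun y _ => by rw [map_mul]; ring
    have hall : ∑ y, (∑ ν, g ν * e ν y) * conj (∑ ν, g ν * e ν y) =
        (Fintype.card A : ℂ) * ∑ ν, g ν * conj (g ν) := by
      calc ∑ y, (∑ ν, g ν * e ν y) * conj (∑ ν, g ν * e ν y)
          = ∑ y, ∑ ν, ∑ μ, g ν * e ν y * conj (g μ * e μ y) := by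
            simp only [map_sum, Finset.sum_mul_sum]
        _ = ∑ ν, ∑ μ, g ν * conj (g μ) * ∑ y, e ν y * conj (e μ y) := by
            rw [Finset.sum_comm]
            refine Finset.sum_congr rfl fun ν _ => ?_
            rw [Finset.sum_comm]
            exact Finset.sum_congr rfl fun μ _ => hpair ν μ
        _ = _ := by
            rw [Finset.mul_sum]
            refine Finset.sum_congr rfl fun ν _ => ?_
            rw [Finset.sum_eq_single ν (fun μ _ hμ => by rw [horth ν μ hμ.symm, mul_zero])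
              (fun h => absurd (Finset.mem_univ ν) h), hnorm, mul_comm]
    have hw : ∀ y : A, (if y = o then (1 : ℂ) else 1 + Fintype.card A) =
        (1 + Fintype.card A) - if y = o then (Fintype.card A : ℂ) else 0 := by
      intro y
      split_ifs <;> ring
    have hlhs : ∀ F : A → ℂ, ∑ y, (if y = o then (1 : ℂ) else 1 + Fintype.card A) * F y =
        (1 + Fintype.card A) * ∑ y, F y - Fintype.card A * F o := by
      intro F
      simp only [hw, sub_mul, Finset.sum_sub_distrib, ← Finset.mul_sum, ite_mul, zero_mul,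
        Finset.sum_ite_eq', Finset.mem_univ, if_true]
    have hd : ∑ ν, ∑ μ, (g ν - g μ) * conj (g ν - g μ) =
        2 * (Fintype.card I : ℂ) * (∑ ν, g ν * conj (g ν)) - 2 * ((∑ ν, g ν) * conj (∑ ν, g ν)) := by
      have h0 : ∀ ν μ, (g ν - g μ) * conj (g ν - g μ) =
          g ν * conj (g ν) + g μ * conj (g μ) - g ν * conj (g μ) - g μ * conj (g ν) := fun ν μ => by
        rw [map_sub]; ring
      simp only [h0, Finset.sum_sub_distrib, Finset.sum_add_distrib, Finset.sum_const,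
        Finset.card_univ, nsmul_eq_mul, ← Finset.mul_sum, ← Finset.sum_mul, ← map_sum]
      ring
    rw [hlhs, hall, hd, hcard, show ∑ ν, g ν * e ν o = ∑ ν, g ν from
      Finset.sum_congr rfl fun ν _ => by rw [h1, mul_one]]
    ring
  have h2 : ((∑ y, (if y = o then (1 : ℝ) else 1 + Fintype.card A) * ‖∑ ν, g ν * e ν y‖ ^ 2 : ℝ) : ℂ) =
      ((Fintype.card A * (∑ ν, ‖g ν‖ ^ 2 + 2⁻¹ * ∑ ν, ∑ μ, ‖g ν - g μ‖ ^ 2) : ℝ) : ℂ) := by
    push_cast
    simp only [← Complex.mul_conj', apply_ite (fun r : ℝ => (r : ℂ)), Complex.ofReal_one,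
      Complex.ofReal_add, Complex.ofReal_natCast]
    exact key
  exact_mod_cast h2

/-- The counting in one step. -/
theorem count_step {I : Type*} [Fintype I] (good : I → Prop) (hex : ∃ ν, good ν) (L : I → ℝ)
    (D : I → I → ℝ) (B : ℝ) (hB : 0 ≤ B) (hL0 : ∀ ν, 0 ≤ L ν) (hD0 : ∀ ν μ, 0 ≤ D ν μ)
    (hL : ∀ ν, good ν → B ≤ L ν) (hD : ∀ ν μ, good ν → ¬ good μ → B ≤ D ν μ)
    (hD' : ∀ ν μ, good ν → ¬ good μ → B ≤ D μ ν) :
    B * Fintype.card I ≤ ∑ ν, L ν + 2⁻¹ * ∑ ν, ∑ μ, D ν μ := by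
  classical
  let P := Finset.univ.filter good
  let Q := Finset.univ.filter fun ν => ¬ good ν
  have hPQ : (P.card : ℝ) + Q.card = Fintype.card I := by
    rw [← Nat.cast_add, Finset.card_filter_add_card_filter_not, Finset.card_univ]
  have hP : (1 : ℝ) ≤ P.card := by
    obtain ⟨ν, hν⟩ := hex
    exact_mod_cast Finset.card_pos.mpr ⟨ν, Finset.mem_filter.mpr ⟨Finset.mem_univ ν, hν⟩⟩
  have e1 : B * P.card ≤ ∑ ν, L ν := by
    calc B * P.card = ∑ _ν ∈ P, B := by rw [Finset.sum_const, nsmul_eq_mul, mul_comm]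
      _ ≤ ∑ ν ∈ P, L ν := Finset.sum_le_sum fun ν hν => hL ν (Finset.mem_filter.mp hν).2
      _ ≤ ∑ ν, L ν := Finset.sum_le_sum_of_subset_of_nonneg (Finset.subset_univ _) fun ν _ _ => hL0 ν
  have e2 : 2 * (B * (P.card * Q.card)) ≤ ∑ ν, ∑ μ, D ν μ := by
    have hsplit : ∑ ν, ∑ μ, D ν μ =
        (∑ ν ∈ P, ∑ μ, D ν μ) + ∑ ν ∈ Q, ∑ μ, D ν μ :=
      (Finset.sum_filter_add_sum_filter_not Finset.univ good _).symm
    rw [hsplit, two_mul]
    refine add_le_add ?_ ?_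
    · calc B * (P.card * Q.card) = ∑ _ν ∈ P, ∑ _μ ∈ Q, B := by
            simp only [Finset.sum_const, nsmul_eq_mul]; ring
        _ ≤ ∑ ν ∈ P, ∑ μ ∈ Q, D ν μ := Finset.sum_le_sum fun ν hν => Finset.sum_le_sum fun μ hμ =>
            hD ν μ (Finset.mem_filter.mp hν).2 (Finset.mem_filter.mp hμ).2
        _ ≤ _ := Finset.sum_le_sum fun ν _ =>
            Finset.sum_le_sum_of_subset_of_nonneg (Finset.subset_univ _) fun μ _ _ => hD0 ν μ
    · calc B * (P.card * Q.card) = ∑ _ν ∈ Q, ∑ _μ ∈ P, B := by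
            simp only [Finset.sum_const, nsmul_eq_mul]; ring
        _ ≤ ∑ ν ∈ Q, ∑ μ ∈ P, D ν μ := Finset.sum_le_sum fun ν hν => Finset.sum_le_sum fun μ hμ =>
            hD' μ ν (Finset.mem_filter.mp hμ).2 (Finset.mem_filter.mp hν).2
        _ ≤ _ := Finset.sum_le_sum fun ν _ =>
            Finset.sum_le_sum_of_subset_of_nonneg (Finset.subset_univ _) fun μ _ _ => hD0 ν μ
  have h4 : B * Q.card ≤ B * (P.card * Q.card) :=
    mul_le_mul_of_nonneg_left (le_mul_of_one_le_left (Nat.cast_nonneg _) hP) hB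
  have h5 : B * Fintype.card I = B * P.card + B * Q.card := by rw [← hPQ, mul_add]
  linarith

/-- The lower bound for the weighted form on a product. -/
theorem form_lower {Ω : Type*} [Fintype Ω] (J : AddSubgroup ℤ[X]) (w : Ω → ℂ)
    (hbase : ∀ P : ℤ[X], P ∉ J → (Fintype.card Ω : ℝ) ≤ ∑ ω, ‖aeval (w ω) P‖ ^ 2) :
    ∀ (r : ℕ) (A I : Fin r → Type u) [∀ i, Fintype (A i)] [∀ i, Fintype (I i)]
      [∀ i, DecidableEq (A i)]
      (o : ∀ i, A i) (e : ∀ i, I i → A i → ℂ)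
      (_ : ∀ i ν μ, ν ≠ μ → ∑ y, e i ν y * conj (e i μ y) = 0)
      (_ : ∀ i ν, ∑ y, e i ν y * conj (e i ν y) = (Fintype.card (A i) : ℂ))
      (_ : ∀ i ν, e i ν (o i) = 1) (_ : ∀ i, Fintype.card (I i) = Fintype.card (A i))
      (P : (∀ i, I i) → ℤ[X]) (_ : ∑ ν, P ν ∉ J),
      (Fintype.card Ω : ℝ) * (∏ i, (Fintype.card (A i) : ℝ)) ^ 2 ≤
        ∑ ω, ∑ y : ∀ i, A i, (∏ i, if y i = o i then (1 : ℝ) else 1 + Fintype.card (A i)) *
          ‖∑ ν, aeval (w ω) (P ν) * ∏ i, e i (ν i) (y i)‖ ^ 2 := by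
  classical
  intro r
  induction r with
  | zero =>
    intro A I _ _ _ o e _ _ _ _ P hP
    simpa using hbase _ hP
  | succ r IH =>
    intro A I _ _ _ o e horth hnorm h1 hcard P hP
    let A' : Fin r → Type u := fun i => A i.succ
    let I' : Fin r → Type u := fun i => I i.succ
    let g : I 0 → (∀ i, I' i) → ℤ[X] := fun ν₀ ν => P (Fin.cons ν₀ ν)
    let good : I 0 → Prop := fun ν₀ => ∑ ν, g ν₀ ν ∉ J
    let W : (∀ i, A' i) → ℝ := fun y =>
      ∏ i, if y i = o i.succ then (1 : ℝ) else 1 + Fintype.card (A' i)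
    let E : ((∀ i, I' i) → ℤ[X]) → Ω → (∀ i, A' i) → ℂ := fun Q ω y =>
      ∑ ν, aeval (w ω) (Q ν) * ∏ i, e i.succ (ν i) (y i)
    let Φ : ((∀ i, I' i) → ℤ[X]) → ℝ := fun Q => ∑ ω, ∑ y, W y * ‖E Q ω y‖ ^ 2
    set B : ℝ := (Fintype.card Ω : ℝ) * (∏ i, (Fintype.card (A' i) : ℝ)) ^ 2 with hB
    have hIH : ∀ Q : (∀ i, I' i) → ℤ[X], ∑ ν, Q ν ∉ J → B ≤ Φ Q := fun Q hQ =>
      IH A' I' (fun i => o i.succ) (fun i => e i.succ) (fun i => horth i.succ)
        (fun i => hnorm i.succ) (fun i => h1 i.succ) (fun i => hcard i.succ) Q hQ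
    have hex : ∃ ν₀, good ν₀ := by
      by_contra h
      simp only [good, not_exists, not_not] at h
      refine hP ?_
      rw [← (Fin.consEquiv I).sum_comp, Fintype.sum_prod_type]
      exact sum_mem fun ν₀ _ => h ν₀
    have hW0 : ∀ y, 0 ≤ W y := fun y => Finset.prod_nonneg fun i _ => by split_ifs <;> positivity
    have hΦ0 : ∀ Q, 0 ≤ Φ Q := fun Q => Finset.sum_nonneg fun ω _ => Finset.sum_nonneg fun y _ =>
      mul_nonneg (hW0 y) (sq_nonneg _)
    have hEsub : ∀ ν₀ μ₀ ω y, E (g ν₀) ω y - E (g μ₀) ω y = E (fun ν => g ν₀ ν - g μ₀ ν) ω y := by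
      intro ν₀ μ₀ ω y
      simp only [E, map_sub, sub_mul, Finset.sum_sub_distrib]
    have hval : ∀ ω (y₀ : A 0) (y : ∀ i, A' i),
        ∑ ν, aeval (w ω) (P ν) * ∏ i, e i (ν i) ((Fin.cons y₀ y : ∀ i, A i) i) =
          ∑ ν₀, E (g ν₀) ω y * e 0 ν₀ y₀ := by
      intro ω y₀ y
      rw [← (Fin.consEquiv I).sum_comp, Fintype.sum_prod_type]
      refine Finset.sum_congr rfl fun ν₀ _ => ?_
      simp only [E, Finset.sum_mul]
      refine Finset.sum_congr rfl fun ν _ => ?_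
      rw [Fin.prod_univ_succ]
      simp only [Fin.consEquiv, Equiv.coe_fn_mk, Fin.cons_zero, Fin.cons_succ, g]
      ring
    have hmain : ∑ ω, ∑ y : ∀ i, A i, (∏ i, if y i = o i then (1 : ℝ) else 1 + Fintype.card (A i)) *
          ‖∑ ν, aeval (w ω) (P ν) * ∏ i, e i (ν i) (y i)‖ ^ 2 =
        Fintype.card (A 0) * (∑ ν₀, Φ (g ν₀) +
          2⁻¹ * ∑ ν₀, ∑ μ₀, Φ (fun ν => g ν₀ ν - g μ₀ ν)) := by
      have hω : ∀ ω, ∑ y : ∀ i, A i, (∏ i, if y i = o i then (1 : ℝ) else 1 + Fintype.card (A i)) *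
          ‖∑ ν, aeval (w ω) (P ν) * ∏ i, e i (ν i) (y i)‖ ^ 2 =
          ∑ y : ∀ i, A' i, W y * ((Fintype.card (A 0) : ℝ) * (∑ ν₀, ‖E (g ν₀) ω y‖ ^ 2 +
            2⁻¹ * ∑ ν₀, ∑ μ₀, ‖E (g ν₀) ω y - E (g μ₀) ω y‖ ^ 2)) := by
        intro ω
        rw [← (Fin.consEquiv A).sum_comp, Fintype.sum_prod_type, Finset.sum_comm]
        refine Finset.sum_congr rfl fun y _ => ?_
        rw [← weighted_step (o 0) (e 0) (horth 0) (hnorm 0) (h1 0) (hcard 0)
          (fun ν₀ => E (g ν₀) ω y), Finset.mul_sum]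
        refine Finset.sum_congr rfl fun y₀ _ => ?_
        simp only [Fin.consEquiv, Equiv.coe_fn_mk]
        rw [hval, Fin.prod_univ_succ]
        simp only [Fin.cons_zero, Fin.cons_succ, W]
        ring
      simp only [hω, hEsub]
      simp only [Φ, Finset.mul_sum, Finset.sum_add_distrib, mul_add]
      congr 1
      · rw [Finset.sum_comm (γ := I 0)]
        refine Finset.sum_congr rfl fun ω _ => ?_
        rw [Finset.sum_comm (γ := I 0)]
        exact Finset.sum_congr rfl fun y _ => Finset.sum_congr rfl fun ν₀ _ => by ring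
      · conv_rhs =>
          arg 2; ext ν₀; rw [Finset.sum_comm]
        rw [Finset.sum_comm (γ := I 0)]
        refine Finset.sum_congr rfl fun ω _ => ?_
        conv_rhs =>
          arg 2; ext ν₀; rw [Finset.sum_comm]
        rw [Finset.sum_comm (γ := I 0)]
        exact Finset.sum_congr rfl fun y _ => Finset.sum_congr rfl fun ν₀ _ =>
          Finset.sum_congr rfl fun μ₀ _ => by ring
    have hcount := count_step good hex (fun ν₀ => Φ (g ν₀))
      (fun ν₀ μ₀ => Φ (fun ν => g ν₀ ν - g μ₀ ν)) B (by positivity) (fun _ => hΦ0 _)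
      (fun _ _ => hΦ0 _) (fun ν₀ h => hIH _ h) (fun ν₀ μ₀ hν hμ => hIH _ (fun h => hν (by
        simp only [good, not_not] at hμ
        rw [Finset.sum_sub_distrib] at h
        simpa using add_mem h hμ))) (fun ν₀ μ₀ hν hμ => hIH _ (fun h => hν (by
        simp only [good, not_not] at hμ
        rw [Finset.sum_sub_distrib] at h
        simpa using sub_mem hμ h)))
    rw [hmain, Fin.prod_univ_succ, mul_pow, hcard 0] at *
    calc (Fintype.card Ω : ℝ) * ((Fintype.card (A 0) : ℝ) ^ 2 * (∏ i : Fin r, (Fintype.card (A i.succ) : ℝ)) ^ 2)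
        = Fintype.card (A 0) * (B * Fintype.card (A 0)) := by rw [hB]; ring
      _ ≤ _ := mul_le_mul_of_nonneg_left hcount (Nat.cast_nonneg _)

end CfsgLib.KGV
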