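import Cfsg.Agent.Lib.Blocks.CentralChar
import Cfsg.Agent.Lib.Char.Virtual
import Cfsg.Agent.Lib.Char.Kernel
import Cfsg.Agent.Lib.Char.Linear
import Cfsg.Agent.Lib.Char.Twist
import Cfsg.Agent.Lib.Char.Equiv
import Mathlib.GroupTheory.GroupAction.ConjAct
import Mathlib.RingTheory.RootsOfUnity.Basic

/-!
# Extensions in the principal block over `G = N C_G(P)`
-/

set_option autoImplicit false

namespace CfsgLib.KGV

open Cfsg CfsgLib.Blocks CfsgLib.Char

universe u

/-- Lifting of residue field roots of unity. -/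
theorem exists_lift_hom {Q : Type*} [Group Q] [Finite Q] {p : ℕ} (hp : p.Prime) (M : Ideal AlgInt)
    [M.IsMaximal] (hpM : (p : AlgInt) ∈ M) (f : Q →* ResField M) :
    ∃ F : Q →* ℂˣ, ∀ q, ∃ h : IsIntegral ℤ ((F q : ℂˣ) : ℂ),
      Ideal.Quotient.mk M ⟨((F q : ℂˣ) : ℂ), h⟩ = f q := by
  classical
  have := charP_resField hp hpM
  have := Fact.mk hp
  obtain ⟨a, m, hpm, hQ⟩ := Nat.exists_eq_pow_mul_and_not_dvd (Nat.card_pos (α := Q)).ne' p hp.ne_one
  have hm : 0 < m := Nat.pos_of_ne_zero fun h => hpm (h ▸ dvd_zero p)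
  have : NeZero m := ⟨hm.ne'⟩
  have hfm : ∀ q, f q ^ m = 1 := by
    intro q
    have h1 : (f q ^ m) ^ p ^ a = 1 := by
      rw [← pow_mul, mul_comm, ← hQ, ← map_pow, pow_card_eq_one', map_one]
    have h2 : (f q ^ m - 1) ^ p ^ a = 0 := by rw [sub_pow_char_pow, h1, one_pow, sub_self]
    exact sub_eq_zero.1 (eq_zero_of_pow_eq_zero h2)
  have hint : ∀ z : rootsOfUnity m ℂ, IsIntegral ℤ (((z : ℂˣ)) : ℂ) := fun z =>
    IsIntegral.of_pow hm (by
      rw [← Units.val_pow_eq_pow_val, (mem_rootsOfUnity m (z : ℂˣ)).1 z.2, Units.val_one]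
      exact isIntegral_one)
  let r : rootsOfUnity m ℂ →* ResField M :=
    { toFun := fun z => Ideal.Quotient.mk M ⟨_, hint z⟩
      map_one' := (congrArg (Ideal.Quotient.mk M) (Subtype.ext (by simp))).trans (map_one _)
      map_mul' := fun z w => by
        rw [← map_mul]
        exact congrArg (Ideal.Quotient.mk M) (Subtype.ext (by simp)) }
  have hr1 : ∀ z, r z = 1 → z = 1 := by
    intro z hz
    by_contra hne
    have hz1 : ((z : ℂˣ) : ℂ) ≠ 1 := fun h => hne (Subtype.ext (Units.ext h))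
    have hzm : ((z : ℂˣ) : ℂ) ^ m = 1 := by
      rw [← Units.val_pow_eq_pow_val, (mem_rootsOfUnity m (z : ℂˣ)).1 z.2, Units.val_one]
    have hsum : ∑ i ∈ Finset.range m, (⟨_, hint z⟩ : AlgInt) ^ i = 0 := by
      apply Subtype.ext
      simp only [AddSubmonoidClass.coe_finsetSum, SubmonoidClass.coe_pow, ZeroMemClass.coe_zero]
      rw [geom_sum_eq hz1, hzm, sub_self, zero_div]
    have h0 := congrArg (Ideal.Quotient.mk M) hsum
    simp only [map_sum, map_pow, map_zero] at h0
    change ∑ i ∈ Finset.range m, r z ^ i = 0 at h0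
    simp only [hz, one_pow, Finset.sum_const, Finset.card_range, nsmul_one] at h0
    exact hpm ((CharP.cast_eq_zero_iff (ResField M) p m).1 h0)
  have hrinj : Function.Injective r := by
    intro z w h
    refine eq_of_mul_inv_eq_one (hr1 _ ?_)
    rw [map_mul, h, ← map_mul, mul_inv_cancel, map_one]
  let : Fintype (rootsOfUnity m ℂ) := Fintype.ofFinite _
  have hsurj : ∀ x : ResField M, x ^ m = 1 → ∃ z, r z = x := by
    intro x hx
    have hsub : Finset.univ.image r ⊆ Polynomial.nthRootsFinset m (1 : ResField M) := by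
      intro y hy
      obtain ⟨z, -, rfl⟩ := Finset.mem_image.1 hy
      rw [Polynomial.mem_nthRootsFinset hm, ← map_pow, show z ^ m = 1 from
        Subtype.ext (by simpa using (mem_rootsOfUnity m (z : ℂˣ)).1 z.2), map_one]
    have hcard : (Polynomial.nthRootsFinset m (1 : ResField M)).card ≤ (Finset.univ.image r).card := by
      rw [Finset.card_image_of_injective _ hrinj, Finset.card_univ, ← Nat.card_eq_fintype_card,
        Complex.card_rootsOfUnity, Polynomial.nthRootsFinset_def]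
      exact (Multiset.toFinset_card_le _).trans (Polynomial.card_nthRoots m 1)
    have : x ∈ Finset.univ.image r := by
      rw [Finset.eq_of_subset_of_card_le hsub hcard]
      exact (Polynomial.mem_nthRootsFinset hm _).2 hx
    obtain ⟨z, -, hz⟩ := Finset.mem_image.1 this
    exact ⟨z, hz⟩
  choose F hF using fun q => hsurj (f q) (hfm q)
  let F' : Q →* rootsOfUnity m ℂ :=
    { toFun := F
      map_one' := hrinj (by rw [hF, map_one, map_one])
      map_mul' := fun a b => hrinj (by rw [map_mul r, hF, hF, hF, map_mul]) }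
  exact ⟨(rootsOfUnity m ℂ).subtype.comp F', fun q => ⟨hint (F q), hF q⟩⟩

variable {G : Type u} [Group G] [Finite G]

theorem conjFixed_mul {R : Type*} [CommRing R] {H : Subgroup G} {a b : MonoidAlgebra R G}
    (ha : ConjFixed H a) (hb : ConjFixed H b) : ConjFixed H (a * b) := by
  intro u hu x
  let : Fintype G := Fintype.ofFinite G
  rw [coeff_mul_group, coeff_mul_group]
  refine (Fintype.sum_equiv (MulAut.conj u).toEquiv _ _ fun y => ?_).symm
  simp only [MulEquiv.toEquiv_eq_coe, MulEquiv.coe_toEquiv, MulAut.conj_apply, ha u hu y]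
  rw [← hb u hu (y⁻¹ * x)]
  congr 2
  group

set_option maxHeartbeats 1000000 in
/-- The principal block statement. -/
theorem exists_principal_extension (p : ℕ) [Fact p.Prime] (M : Ideal AlgInt) (hM : IsPModular p M)
    (N : Subgroup G) [N.Normal] (P : Sylow p ↥N)
    (hcov : N ⊔ Subgroup.centralizer (((P : Subgroup ↥N).map N.subtype : Subgroup G) : Set G) = ⊤)
    (θ : IrrCharacter ↥N) (hθ : θ ∈ principalBlock M ↥N)
    (hext : ∃ ψ : IrrCharacter G, ∀ x : ↥N, (ψ : G → ℂ) x = (θ : ↥N → ℂ) x) :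
    ∃ χ : IrrCharacter G, χ ∈ principalBlock M G ∧ (∀ x : ↥N, (χ : G → ℂ) x = (θ : ↥N → ℂ) x) ∧
      ∀ J : Subgroup G, N ≤ J → ∃ ξ : IrrCharacter ↥J, ξ ∈ principalBlock M ↥J ∧
        ∀ y : ↥J, (ξ : ↥J → ℂ) y = (χ : G → ℂ) y := by
  classical
  have : M.IsMaximal := hM.2.1
  have := charP_resField hM.1 hM.2.2
  let : Fintype G := Fintype.ofFinite G
  obtain ⟨ψ, hψ⟩ := hext
  obtain ⟨d, ρ, hρ, hρe⟩ := ψ.2
  obtain ⟨d', σ, hσ, hσe⟩ := θ.2
  have hd0 : (d : ℂ) ≠ 0 := by
    have h := IsIrrCharacter.apply_one_ne_zero ψ.2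
    rwa [← hρe, Representation.char_one, Module.finrank_fin_fun] at h
  -- irreducibility on `N`
  let ρN : Representation ℂ ↥N (Fin d → ℂ) := ρ.comp N.subtype
  have hρN : ρN.IsIrreducible := by
    have hch : ρN.character = σ.character := by
      funext x
      rw [hσe, ← hψ, ← hρe]
      rfl
    obtain ⟨e⟩ := CfsgLib.Char.nonempty_equiv_of_character_eq σ ρN hch.symm
    exact CfsgLib.Char.isIrreducible_of_equiv e
  have hnt : Nontrivial (Fin d → ℂ) := CharKernel.nontrivial_of_irreducible ρN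
  -- the scalar of an invariant element
  let Φ : MonoidAlgebra ℤ G →ₐ[ℤ] Module.End ℂ (Fin d → ℂ) :=
    MonoidAlgebra.lift ℤ (Module.End ℂ (Fin d → ℂ)) G ρ
  have hΦsum : ∀ a, Φ a = ∑ g : G, (a.coeff g : ℂ) • ρ g := by
    intro a
    simp only [Φ, MonoidAlgebra.lift_apply]
    rw [Finsupp.sum_fintype _ _ (fun g => by simp)]
    exact Finset.sum_congr rfl fun g _ => (Int.cast_smul_eq_zsmul ℂ _ _).symm
  have hscalar : ∀ a : MonoidAlgebra ℤ G, ConjFixed N a → ∃ s : ℂ,
      IsIntegral ℤ s ∧ Φ a = s • 1 ∧ (∑ g : G, (a.coeff g : ℂ) * (ψ : G → ℂ) g) = s * (d : ℂ) := by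
    intro a ha
    obtain ⟨s, hs⟩ := exists_scalar_of_commute ρN (Φ a) fun u => by
      rw [hΦsum, Finset.sum_mul, Finset.mul_sum]
      refine (Fintype.sum_equiv (MulAut.conj (u : G)).toEquiv _ _ fun g => ?_).symm
      simp only [MulEquiv.toEquiv_eq_coe, MulEquiv.coe_toEquiv, MulAut.conj_apply, ha u u.2 g,
        smul_mul_assoc, mul_smul_comm]
      congr 1
      change ρ (u : G) * ρ g = ρ ((u : G) * g * (u : G)⁻¹) * ρ (u : G)
      rw [← map_mul, ← map_mul, inv_mul_cancel_right]
    refine ⟨s, ?_, hs, ?_⟩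
    · have h1 : IsIntegral ℤ (Φ a) := (IsIntegral.of_finite ℤ a).map Φ
      rw [hs, ← Algebra.algebraMap_eq_smul_one] at h1
      exact (isIntegral_algebraMap_iff (algebraMap ℂ (Module.End ℂ (Fin d → ℂ))).injective).1 h1
    · have h2 := congrArg (LinearMap.trace ℂ (Fin d → ℂ)) hs
      rw [hΦsum, map_sum, map_smul, LinearMap.trace_one, Module.finrank_fin_fun, smul_eq_mul] at h2
      rw [← h2]
      refine Finset.sum_congr rfl fun g _ => ?_
      rw [map_smul, smul_eq_mul, ← hρe]
      rfl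
  choose Ω hΩint hΩ hΩsum using hscalar
  have hsm : Function.Injective fun z : ℂ => z • (1 : Module.End ℂ (Fin d → ℂ)) :=
    smul_left_injective ℂ (one_ne_zero (α := Module.End ℂ (Fin d → ℂ)))
  let bar : ∀ a, ConjFixed N a → ResField M := fun a ha =>
    Ideal.Quotient.mk M ⟨Ω a ha, hΩint a ha⟩
  have hbar_mul : ∀ a b (ha : ConjFixed N a) (hb : ConjFixed N b),
      bar (a * b) (conjFixed_mul ha hb) = bar a ha * bar b hb := by
    intro a b ha hb
    simp only [bar, ← map_mul]
    congr 1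
    apply Subtype.ext
    refine hsm ?_
    change Ω (a * b) _ • (1 : Module.End ℂ (Fin d → ℂ)) = (Ω a ha * Ω b hb) • 1
    rw [← hΩ, map_mul, hΩ a ha, hΩ b hb, smul_mul_smul_comm, mul_one]
  let eps : MonoidAlgebra ℤ G →ₐ[ℤ] ℤ := MonoidAlgebra.lift ℤ ℤ G 1
  have heps : ∀ a, eps a = ∑ g : G, a.coeff g := by
    intro a
    simp only [eps, MonoidAlgebra.lift_apply, MonoidHom.one_apply, smul_eq_mul, mul_one]
    exact Finsupp.sum_fintype _ _ fun g => rfl
  -- elements supported in `N`
  let : Fintype ↥N := Fintype.ofFinite _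
  have hN0 : ∀ a (ha : ConjFixed N a), (∀ g, g ∉ N → a.coeff g = 0) → bar a ha = (eps a : ResField M) := by
    intro a ha hsupp
    have hsumN : ∀ F : G → ℂ, ∑ g : G, (a.coeff g : ℂ) * F g = ∑ x : ↥N, (a.coeff x : ℂ) * F x :=
      fun F => by
        rw [← Finset.sum_subset (Finset.subset_univ (Finset.univ.filter fun g => g ∈ N))
          (fun g _ hg => by simp [hsupp g (by simpa using hg)])]
        exact Finset.sum_subtype _ (by simp) _
    have h1 := hΩsum a ha
    have h2 : (eps a : ℂ) = ∑ g : G, (a.coeff g : ℂ) * 1 := by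
      rw [heps]
      push_cast
      simp
    rw [hsumN] at h1 h2
    simp only [hψ] at h1
    have hθ1 : (θ : ↥N → ℂ) 1 = d := by
      rw [← hψ, ← hρe, Subgroup.coe_one, Representation.char_one, Module.finrank_fin_fun]
    have hinvN : ∀ u x : ↥N, a.coeff ((u * x * u⁻¹ : ↥N) : G) = a.coeff (x : G) := fun u x =>
      ha u u.2 x
    rw [sum_eq_sum_classes (fun x : ↥N => (a.coeff x : ℂ) * (θ : ↥N → ℂ) x) (fun u x => by
      rw [hinvN, IsIrrCharacter.isClassFunction θ.2 x u])] at h1
    rw [sum_eq_sum_classes (fun x : ↥N => (a.coeff x : ℂ) * 1) (fun u x => by rw [hinvN])] at h2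
    have hmem : MemLocalIdeal M (Ω a ha - (eps a : ℂ)) := by
      have hdiff : Ω a ha - (eps a : ℂ) = ∑ K : ConjClasses ↥N, (a.coeff (K.out : G) : ℂ) *
          -(centralChar (fun _ : ↥N => (1 : ℂ)) K.out - centralChar (θ : ↥N → ℂ) K.out) := by
        rw [(eq_div_iff hd0).2 h1.symm, h2, Finset.sum_div, ← Finset.sum_sub_distrib]
        refine Finset.sum_congr rfl fun K _ => ?_
        simp only [centralChar, nsmul_eq_mul, hθ1]
        field_simp
        ring
      rw [hdiff, memLocalIdeal_iff]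
      have hz : ∀ K : ConjClasses ↥N, ∃ h : (a.coeff (K.out : G) : ℂ) *
          -(centralChar (fun _ : ↥N => (1 : ℂ)) K.out - centralChar (θ : ↥N → ℂ) K.out) ∈ locRing M,
          red M ⟨_, h⟩ = 0 := fun K => by
        obtain ⟨h, h0⟩ := memLocalIdeal_iff.1 (hθ K.out)
        refine ⟨mul_mem (intCast_mem _ _) (neg_mem h), ?_⟩
        rw [show (⟨_, mul_mem (intCast_mem (locRing M) (a.coeff (K.out : G))) (neg_mem h)⟩ : locRing M)
          = ((a.coeff (K.out : G) : ℤ) : locRing M) * -⟨_, h⟩ from Subtype.ext (by push_cast; ring), map_mul,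
          map_neg, h0, neg_zero, mul_zero]
      choose hz hz0 using hz
      refine ⟨sum_mem fun K _ => hz K, ?_⟩
      rw [show (⟨_, sum_mem fun K (_ : K ∈ Finset.univ) => hz K⟩ : locRing M) =
        ∑ K : ConjClasses ↥N, ⟨_, hz K⟩ from Subtype.ext (by simp), map_sum]
      exact Finset.sum_eq_zero fun K _ => hz0 K
    have h3 : red M (toLocRing ⟨Ω a ha, hΩint a ha⟩) = red M (eps a : locRing M) :=
      memLocalIdeal_sub_iff.1 (by simpa using hmem)
    rw [red_toLocRing, map_intCast] at h3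
    exact h3
  -- orbit sums of elements centralising `P`
  set Pm : Subgroup G := (P : Subgroup ↥N).map N.subtype
  set Cz : Subgroup G := Subgroup.centralizer (Pm : Set G)
  let orb : G → MonoidAlgebra ℤ G := fun g =>
    ofFun fun x => if ∃ u : ↥N, (u : G) * g * (u : G)⁻¹ = x then 1 else 0
  have horb : ∀ g, ConjFixed N (orb g) := by
    intro g u hu x
    simp only [orb, coeff_ofFun]
    refine if_congr ⟨fun ⟨w, hw⟩ => ⟨⟨u, hu⟩⁻¹ * w, ?_⟩, fun ⟨w, hw⟩ => ⟨⟨u, hu⟩ * w, ?_⟩⟩ rfl rfl
    · simp only [Subgroup.coe_mul, Subgroup.coe_inv, mul_inv_rev, inv_inv]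
      rw [show u⁻¹ * (w : G) * g * ((w : G)⁻¹ * u) = u⁻¹ * ((w : G) * g * (w : G)⁻¹) * u by group,
        hw]
      group
    · simp only [Subgroup.coe_mul, mul_inv_rev]
      rw [← hw]
      group
  have horbsupp : ∀ g x, (orb g).coeff x ≠ 0 → (x : G ⧸ N) = (g : G ⧸ N) := by
    intro g x hx
    simp only [orb, coeff_ofFun, ne_eq, ite_eq_right_iff, one_ne_zero, imp_false, not_not] at hx
    obtain ⟨u, rfl⟩ := hx
    simp [(QuotientGroup.eq_one_iff (u : G)).2 u.2]
  have horbeps : ∀ g ∈ Cz, (eps (orb g) : ResField M) ≠ 0 := by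
    intro g hg h0
    let : MulAction ↥N G := MulAction.compHom G ((MulAut.conj : G →* MulAut G).comp N.subtype)
    have hsmul : ∀ (u : ↥N) (x : G), u • x = (u : G) * x * (u : G)⁻¹ := fun u x => rfl
    have heq : eps (orb g) = (Nat.card (MulAction.orbit ↥N g) : ℤ) := by
      rw [heps]
      simp only [orb, coeff_ofFun, Finset.sum_boole, Nat.card_eq_fintype_card]
      norm_cast
      rw [← Fintype.card_subtype]
      exact Fintype.card_congr (Equiv.subtypeEquivRight fun x => by
        simp [MulAction.mem_orbit_iff, hsmul])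
    rw [heq, Int.cast_natCast, CharP.cast_eq_zero_iff (ResField M) p, Nat.card_congr
      (MulAction.orbitEquivQuotientStabilizer ↥N g)] at h0
    refine P.not_dvd_index (h0.trans (Subgroup.index_dvd_of_le fun u hu => ?_))
    rw [MulAction.mem_stabilizer_iff, hsmul, Subgroup.mem_centralizer_iff.1 hg (u : G)
      ⟨u, hu, rfl⟩, mul_inv_cancel_right]
  -- the linear character modulo `M`
  have hc : ∀ q : G ⧸ N, ∃ g ∈ Cz, (g : G ⧸ N) = q := by
    intro q
    obtain ⟨x, rfl⟩ := QuotientGroup.mk_surjective q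
    have hx : x ∈ Cz ⊔ N := by
      rw [sup_comm, hcov]
      exact Subgroup.mem_top x
    obtain ⟨u, hu, c, hc, rfl⟩ := Subgroup.mem_sup_of_normal_right.1 hx
    exact ⟨u, hu, by simp [(QuotientGroup.eq_one_iff c).2 hc]⟩
  choose cr hcr hcrq using hc
  let lam : G ⧸ N → ResField M := fun q =>
    (eps (orb (cr q)⁻¹) : ResField M) / bar (orb (cr q)⁻¹) (horb _)
  have hsupp : ∀ q a, ConjFixed N a → (∀ x, a.coeff x ≠ 0 → (x : G ⧸ N) = q) →
      ∀ g, g ∉ N → (a * orb (cr q)⁻¹).coeff g = 0 := by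
    intro q a ha hs g hg
    rw [coeff_mul_group]
    refine Finset.sum_eq_zero fun x _ => ?_
    by_contra h
    obtain ⟨h1, h2⟩ := mul_ne_zero_iff.1 h
    refine hg ((QuotientGroup.eq_one_iff g).1 ?_)
    have h3 := horbsupp _ _ h2
    rw [QuotientGroup.mk_mul, QuotientGroup.mk_inv, QuotientGroup.mk_inv, hs x h1, hcrq] at h3
    rwa [mul_eq_left] at h3
  have hF : ∀ q a (ha : ConjFixed N a), (∀ x, a.coeff x ≠ 0 → (x : G ⧸ N) = q) →
      bar a ha = (eps a : ResField M) * lam q := by
    intro q a ha hs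
    have h1 := hN0 (a * orb (cr q)⁻¹) (conjFixed_mul ha (horb _)) (hsupp q a ha hs)
    rw [hbar_mul _ _ ha (horb _), map_mul, Int.cast_mul] at h1
    have hne : bar (orb (cr q)⁻¹) (horb _) ≠ 0 := by
      intro h0
      have h2 := hN0 (orb (cr q) * orb (cr q)⁻¹) (conjFixed_mul (horb _) (horb _))
        (hsupp q (orb (cr q)) (horb _) fun x hx => (horbsupp _ x hx).trans (hcrq q))
      rw [hbar_mul _ _ (horb _) (horb _), h0, mul_zero, map_mul, Int.cast_mul] at h2
      exact mul_ne_zero (horbeps _ (hcr q)) (horbeps _ (Cz.inv_mem (hcr q))) h2.symm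
    simp only [lam]
    rw [← mul_div_assoc, eq_div_iff hne, h1]
  let lamHom : G ⧸ N →* ResField M :=
    { toFun := lam
      map_one' := by
        have hf : ConjFixed N (1 : MonoidAlgebra ℤ G) := by
          rw [← classSum_one]
          exact conjFixed_of_mem_center (classSum_mem_center 1)
        have h1 := hF 1 1 hf (fun x hx => by
          rw [MonoidAlgebra.one_def, MonoidAlgebra.coeff_single, Finsupp.single_apply] at hx
          rw [← (ite_ne_right_iff.1 hx).1]
          rfl)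
        rw [hN0 1 hf (fun g hg => by
          rw [MonoidAlgebra.one_def, MonoidAlgebra.coeff_single, Finsupp.single_apply,
            if_neg (fun h : (1 : G) = g => hg (h ▸ N.one_mem))])] at h1
        simpa [eq_comm] using h1
      map_mul' := fun q r => by
        have hs : ∀ x, (orb (cr q) * orb (cr r)).coeff x ≠ 0 → (x : G ⧸ N) = q * r := by
          intro x hx
          rw [coeff_mul_group] at hx
          obtain ⟨y, -, hy⟩ := Finset.exists_ne_zero_of_sum_ne_zero hx
          obtain ⟨h1, h2⟩ := mul_ne_zero_iff.1 hy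
          have h3 := horbsupp _ _ h2
          rw [QuotientGroup.mk_mul, QuotientGroup.mk_inv, horbsupp _ _ h1, hcrq, hcrq,
            inv_mul_eq_iff_eq_mul] at h3
          exact h3
        have h1 := hF (q * r) _ (conjFixed_mul (horb (cr q)) (horb (cr r))) hs
        rw [hbar_mul _ _ (horb _) (horb _),
          hF q _ (horb _) (fun x hx => (horbsupp _ x hx).trans (hcrq q)),
          hF r _ (horb _) (fun x hx => (horbsupp _ x hx).trans (hcrq r)), map_mul, Int.cast_mul,
          mul_mul_mul_comm] at h1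
        exact (mul_left_cancel₀ (mul_ne_zero (horbeps _ (hcr q)) (horbeps _ (hcr r))) h1).symm }
  have hall : ∀ a (ha : ConjFixed N a),
      bar a ha = ∑ g : G, (a.coeff g : ResField M) * lam (g : G ⧸ N) := by
    intro a ha
    let : Fintype (G ⧸ N) := Fintype.ofFinite _
    let aq : G ⧸ N → MonoidAlgebra ℤ G := fun q =>
      ofFun fun x => if (x : G ⧸ N) = q then a.coeff x else 0
    have haq : ∀ q, ConjFixed N (aq q) := by
      intro q u hu x
      simp only [aq, coeff_ofFun, ha u hu x]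
      refine if_congr ?_ rfl rfl
      simp [(QuotientGroup.eq_one_iff u).2 hu]
    have hsum : (∑ q, Ω (aq q) (haq q)) = Ω a ha := by
      refine mul_right_cancel₀ hd0 ?_
      rw [Finset.sum_mul, ← hΩsum a ha, Finset.sum_congr rfl fun q _ => (hΩsum (aq q) (haq q)).symm,
        Finset.sum_comm]
      refine Finset.sum_congr rfl fun g _ => ?_
      simp [aq]
    have hb : bar a ha = ∑ q, bar (aq q) (haq q) := by
      simp only [bar, ← map_sum]
      congr 1
      exact Subtype.ext (by simp [hsum])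
    rw [hb, ← Finset.sum_fiberwise Finset.univ (fun g : G => (g : G ⧸ N))]
    refine Finset.sum_congr rfl fun q _ => ?_
    rw [hF q (aq q) (haq q) (fun x hx => by
      simp only [aq, coeff_ofFun] at hx
      exact (ite_ne_right_iff.1 hx).1), heps, Int.cast_sum, Finset.sum_mul, Finset.sum_filter]
    refine Finset.sum_congr rfl fun g _ => ?_
    simp only [aq, coeff_ofFun]
    split_ifs with h <;> simp [h]
  -- the twisted extension
  obtain ⟨F, hFl⟩ := exists_lift_hom hM.1 M hM.2.2 lamHom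
  let ρ' : Representation ℂ G (Fin d → ℂ) :=
    ({ toFun := fun g => (((F (g : G ⧸ N))⁻¹ : ℂˣ) : ℂ) • ρ g
       map_one' := by simp
       map_mul' := fun g h => by
        rw [map_mul ρ, smul_mul_smul_comm, ← Units.val_mul]
        congr 2
        rw [QuotientGroup.mk_mul, map_mul, mul_inv] } : G →* Module.End ℂ (Fin d → ℂ))
  have hρ'c : ∀ g, ρ'.character g = (((F (g : G ⧸ N))⁻¹ : ℂˣ) : ℂ) * (ψ : G → ℂ) g := fun g => by
    rw [← hρe]
    exact map_smul (LinearMap.trace ℂ (Fin d → ℂ)) _ _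
  have hρ'N : ∀ x : ↥N, ρ' (x : G) = ρN x := fun x => by
    change (((F ((x : G) : G ⧸ N))⁻¹ : ℂˣ) : ℂ) • ρ (x : G) = ρ (x : G)
    rw [(QuotientGroup.eq_one_iff (x : G)).2 x.2, map_one, inv_one, Units.val_one, one_smul]
  have hirrJ : ∀ J : Subgroup G, N ≤ J → Representation.IsIrreducible (ρ'.comp J.subtype : Representation ℂ ↥J (Fin d → ℂ)) :=
    fun J hNJ => CharKernel.isIrreducible_of_forall _ fun W hW =>
      CharKernel.eq_bot_or_eq_top ρN W fun x v hv => hρ'N x ▸ hW ⟨(x : G), hNJ x.2⟩ v hv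
  have hirr : ρ'.IsIrreducible := CharKernel.isIrreducible_of_forall _ fun W hW =>
      CharKernel.eq_bot_or_eq_top ρN W fun x v hv => hρ'N x ▸ hW (x : G) v hv
  have hρ'1 : ρ'.character 1 = (d : ℂ) := by
    rw [Representation.char_one, Module.finrank_fin_fun]
  have hblock : ∀ J : Subgroup G, N ≤ J → ∀ y : ↥J,
      MemLocalIdeal M (centralChar (fun _ : ↥J => (1 : ℂ)) y -
        centralChar (fun z : ↥J => ρ'.character (z : G)) y) := by
    intro J hNJ y
    let a : MonoidAlgebra ℤ G :=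
      ofFun fun x => if ∃ w : ↥J, (w : G) * (y : G) * (w : G)⁻¹ = x then 1 else 0
    have ha : ConjFixed N a := by
      intro u hu x
      simp only [a, coeff_ofFun]
      refine if_congr ⟨fun ⟨w, hw⟩ => ⟨⟨u, hNJ hu⟩⁻¹ * w, ?_⟩,
        fun ⟨w, hw⟩ => ⟨⟨u, hNJ hu⟩ * w, ?_⟩⟩ rfl rfl
      · simp only [Subgroup.coe_mul, Subgroup.coe_inv, mul_inv_rev, inv_inv]
        rw [show u⁻¹ * (w : G) * y * ((w : G)⁻¹ * u) = u⁻¹ * ((w : G) * y * (w : G)⁻¹) * u by group,
          hw]
        group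
      · simp only [Subgroup.coe_mul, mul_inv_rev]
        rw [← hw]
        group
    set k := (Subgroup.centralizer ({y} : Set ↥J)).index
    have hcount : (Finset.univ.filter fun x : G => ∃ w : ↥J, (w : G) * (y : G) * (w : G)⁻¹ = x).card = k := by
      rw [← Fintype.card_subtype, ← Nat.card_eq_fintype_card]
      refine Eq.trans ?_ (index_centralizer_eq_card_isConj y).symm
      exact Nat.card_congr
        { toFun := fun x => ⟨⟨(x : G), by
            obtain ⟨w, hw⟩ := x.2
            exact hw ▸ J.mul_mem (J.mul_mem w.2 y.2) (J.inv_mem w.2)⟩, by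
            obtain ⟨w, hw⟩ := x.2
            exact isConj_iff.2 ⟨w, Subtype.ext hw⟩⟩
          invFun := fun x => ⟨(x.1 : G), by
            obtain ⟨w, hw⟩ := isConj_iff.1 x.2
            exact ⟨w, congrArg Subtype.val hw⟩⟩
          left_inv := fun x => rfl
          right_inv := fun x => rfl }
    have hconst : ∀ x : G, (∃ w : ↥J, (w : G) * (y : G) * (w : G)⁻¹ = x) →
        (ψ : G → ℂ) x = (ψ : G → ℂ) (y : G) ∧ lamHom (x : G ⧸ N) = lamHom ((y : G) : G ⧸ N) := by
      rintro x ⟨w, rfl⟩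
      refine ⟨IsIrrCharacter.isClassFunction ψ.2 _ _, ?_⟩
      rw [QuotientGroup.mk_mul, QuotientGroup.mk_mul, QuotientGroup.mk_inv, map_mul, map_mul,
        mul_comm, ← mul_assoc, ← map_mul, inv_mul_cancel, map_one, one_mul]
    have hO : Ω a ha * (d : ℂ) = (k : ℂ) * (ψ : G → ℂ) (y : G) := by
      rw [← hΩsum a ha, ← hcount, ← nsmul_eq_mul, ← Finset.sum_const, Finset.sum_filter]
      refine Finset.sum_congr rfl fun g _ => ?_
      simp only [a, coeff_ofFun]
      split_ifs with h
      · rw [(hconst g h).1]; simp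
      · simp
    have hB : bar a ha = (k : ResField M) * lamHom ((y : G) : G ⧸ N) := by
      rw [hall a ha, ← hcount, ← nsmul_eq_mul, ← Finset.sum_const, Finset.sum_filter]
      refine Finset.sum_congr rfl fun g _ => ?_
      simp only [a, coeff_ofFun]
      split_ifs with h
      · rw [← (hconst g h).2]; simp [lamHom]
      · simp
    obtain ⟨hi, hFy⟩ := hFl ((y : G) : G ⧸ N)
    have hne : red M (toLocRing ⟨_, hi⟩) ≠ 0 := by
      rw [red_toLocRing, hFy]
      intro h0
      have := congrArg (· * lamHom ((y : G) : G ⧸ N)⁻¹) h0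
      simp only [← map_mul, mul_inv_cancel, map_one, zero_mul, one_ne_zero] at this
    obtain ⟨uF, huF⟩ := isUnit_of_red_ne_zero hne
    have hkey : red M (toLocRing ⟨Ω a ha, hΩint a ha⟩) = red M ((k : locRing M) * toLocRing ⟨_, hi⟩) := by
      rw [map_mul, red_toLocRing, red_toLocRing, hFy, map_natCast]
      exact hB
    have hmem := memLocalIdeal_sub_iff.2 hkey
    simp only [coe_toLocRing, MulMemClass.coe_mul, SubringClass.coe_natCast] at hmem
    obtain ⟨hm1, hm2⟩ := memLocalIdeal_iff.1 hmem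
    have heq : centralChar (fun _ : ↥J => (1 : ℂ)) y - centralChar (fun z : ↥J => ρ'.character (z : G)) y =
        -(((F ((y : G) : G ⧸ N) : ℂˣ) : ℂ)⁻¹ * (Ω a ha - (k : ℂ) * ((F ((y : G) : G ⧸ N) : ℂˣ) : ℂ))) := by
      simp only [centralChar, Subgroup.coe_one, hρ'1, hρ'c (y : G), Units.val_inv_eq_inv_val]
      rw [eq_div_iff hd0 |>.2 hO]
      field_simp
      ring
    rw [heq, memLocalIdeal_iff]
    have hinv : ((F ((y : G) : G ⧸ N) : ℂˣ) : ℂ)⁻¹ ∈ locRing M := by
      have h1 := congrArg Subtype.val uF.mul_inv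
      rw [MulMemClass.coe_mul, huF, coe_toLocRing, OneMemClass.coe_one] at h1
      rw [← eq_inv_of_mul_eq_one_right h1]
      exact ((uF⁻¹ : (locRing M)ˣ) : locRing M).2
    refine ⟨neg_mem (mul_mem hinv hm1), ?_⟩
    rw [show (⟨_, neg_mem (mul_mem hinv hm1)⟩ : locRing M) = -(⟨_, hinv⟩ * ⟨_, hm1⟩) from
      Subtype.ext (by simp), map_neg, map_mul, hm2, mul_zero, neg_zero]
  refine ⟨⟨ρ'.character, d, ρ', hirr, rfl⟩, ?_, fun x => ?_, fun J hNJ => ?_⟩
  · intro g
    have hcc : ∀ f : G → ℂ, centralChar (fun z : (⊤ : Subgroup G) => f (z : G)) ⟨g, Subgroup.mem_top g⟩ =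
        centralChar f g := by
      intro f
      simp only [centralChar]
      congr 3
      rw [index_centralizer_eq_card_isConj, index_centralizer_eq_card_isConj]
      refine Nat.card_congr (Subgroup.topEquiv.toEquiv.subtypeEquiv fun z => ?_)
      rw [isConj_iff, isConj_iff]
      exact ⟨fun ⟨w, hw⟩ => ⟨(w : G), congrArg Subtype.val hw⟩,
        fun ⟨w, hw⟩ => ⟨⟨w, Subgroup.mem_top w⟩, Subtype.ext hw⟩⟩
    have h := hblock ⊤ le_top ⟨g, Subgroup.mem_top g⟩
    rw [hcc ρ'.character, hcc fun _ => (1 : ℂ)] at h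
    exact h
  · change ρ'.character (x : G) = _
    rw [← hψ x, hρ'c, (QuotientGroup.eq_one_iff (x : G)).2 x.2, map_one, inv_one, Units.val_one,
      one_mul]
  · refine ⟨⟨fun z => ρ'.character (z : G), d, ρ'.comp J.subtype, hirrJ J hNJ, rfl⟩,
      hblock J hNJ, fun z => rfl⟩

end CfsgLib.KGV
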