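import Mathlib.GroupTheory.FiniteAbelian.Duality
import Mathlib.GroupTheory.Commutator.Basic
import Mathlib.GroupTheory.QuotientGroup.Basic
import Mathlib.Analysis.Complex.Polynomial.Basic
import Mathlib.RingTheory.RootsOfUnity.AlgebraicallyClosed

/-!
# Central functionals on subgroups with central commutators
-/

set_option autoImplicit false

namespace CfsgLib.KGV.Ramified

open scoped commutatorElement

universe u

variable {G : Type u} [Group G]

/-- `L` restricts to an injective homomorphism on the centre. -/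
structure IsLam (L : G → ℂˣ) : Prop where
  mul : ∀ a ∈ Subgroup.center G, ∀ b ∈ Subgroup.center G, L (a * b) = L a * L b
  inj : ∀ a ∈ Subgroup.center G, L a = 1 → a = 1

theorem IsLam.one {L : G → ℂˣ} (hL : IsLam L) : L 1 = 1 := by
  have h := hL.mul 1 (one_mem _) 1 (one_mem _)
  rw [mul_one] at h
  exact mul_eq_left.1 h.symm

theorem IsLam.pow {L : G → ℂˣ} (hL : IsLam L) {a : G} (ha : a ∈ Subgroup.center G) :
    ∀ n : ℕ, L (a ^ n) = L a ^ n
  | 0 => by rw [pow_zero, pow_zero, hL.one]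
  | n + 1 => by rw [pow_succ, pow_succ, hL.mul _ (pow_mem ha n) _ ha, IsLam.pow hL ha n]

theorem IsLam.eq {L : G → ℂˣ} (hL : IsLam L) {a b : G} (ha : a ∈ Subgroup.center G)
    (hb : b ∈ Subgroup.center G) (h : L a = L b) : a = b := by
  refine mul_inv_eq_one.1 (hL.inj _ (mul_mem ha (inv_mem hb)) ?_)
  rw [hL.mul _ ha _ (inv_mem hb), h, ← hL.mul _ hb _ (inv_mem hb), mul_inv_cancel, hL.one]

/-- Commutators are multiplicative in the first variable when they are central. -/
theorem comm_mul_left {x z y : G} (h : ⁅z, y⁆ ∈ Subgroup.center G) :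
    ⁅x * z, y⁆ = ⁅x, y⁆ * ⁅z, y⁆ := by
  have e : ⁅x * z, y⁆ = x * ⁅z, y⁆ * x⁻¹ * ⁅x, y⁆ := by
    simp only [commutatorElement_def]
    group
  rw [e, Subgroup.mem_center_iff.1 h x, mul_inv_cancel_right, ← Subgroup.mem_center_iff.1 h]

/-- Commutators are multiplicative in the second variable when they are central. -/
theorem comm_mul_right {x z y : G} (h : ⁅x, y⁆ ∈ Subgroup.center G) :
    ⁅x, z * y⁆ = ⁅x, z⁆ * ⁅x, y⁆ := by
  have e : ⁅x, z * y⁆ = ⁅x, z⁆ * (z * ⁅x, y⁆ * z⁻¹) := by
    simp only [commutatorElement_def]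
    group
  rw [e, Subgroup.mem_center_iff.1 h z, mul_inv_cancel_right]

variable [Finite G] {L : G → ℂˣ}

/-- Central functionals on a subgroup with central radical are commutators. -/
theorem exists_commutator_repr (hL : IsLam L) (K : Subgroup G)
    (hK : ∀ x ∈ K, ∀ y ∈ K, ⁅x, y⁆ ∈ Subgroup.center G)
    (hrad : ∀ x ∈ K, (∀ y ∈ K, x * y = y * x) → x ∈ Subgroup.center G)
    (f : K →* ℂˣ) (hf : ∀ z : K, (z : G) ∈ Subgroup.center G → f z = 1) :
    ∃ k : K, ∀ s : K, L ⁅(k : G), (s : G)⁆ = f s := by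
  classical
  let Kc : Subgroup K := (Subgroup.center G).subgroupOf K
  have hKc : Kc.Normal := Subgroup.normal_subgroupOf
  let : CommGroup (K ⧸ Kc) := { QuotientGroup.Quotient.group Kc with
    mul_comm := fun a b => by
      induction a using QuotientGroup.induction_on with | H u =>
      induction b using QuotientGroup.induction_on with | H w =>
      rw [← commutatorElement_eq_one_iff_mul_comm]
      change ((⁅u, w⁆ : K) : K ⧸ Kc) = 1
      rw [QuotientGroup.eq_one_iff]
      exact Subgroup.mem_subgroupOf.2 (hK u u.2 w w.2) }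
  let χ : K → K →* ℂˣ := fun k => MonoidHom.mk' (fun s => L ⁅(k : G), (s : G)⁆) fun a b => by
    rw [Subgroup.coe_mul, comm_mul_right (hK k k.2 b b.2), hL.mul _ (hK k k.2 a a.2) _ (hK k k.2 b b.2)]
  have hχ : ∀ k s, χ k s = L ⁅(k : G), (s : G)⁆ := fun k s => rfl
  have hχker : ∀ k, Kc ≤ (χ k).ker := fun k z hz => by
    rw [MonoidHom.mem_ker, hχ, commutatorElement_eq_one_iff_mul_comm.2
      (Subgroup.mem_center_iff.1 (Subgroup.mem_subgroupOf.1 hz) k), hL.one]
  let Φ : K →* ((K ⧸ Kc) →* ℂˣ) := MonoidHom.mk' (fun k => QuotientGroup.lift Kc (χ k) (hχker k))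
    fun a b => MonoidHom.ext fun q => by
      induction q using QuotientGroup.induction_on with | H s =>
      change L ⁅((a * b : K) : G), (s : G)⁆ = L ⁅(a : G), (s : G)⁆ * L ⁅(b : G), (s : G)⁆
      rw [Subgroup.coe_mul, comm_mul_left (hK b b.2 s s.2),
        hL.mul _ (hK a a.2 s s.2) _ (hK b b.2 s s.2)]
  have hΦker : Φ.ker = Kc := by
    ext k
    rw [MonoidHom.mem_ker, Subgroup.mem_subgroupOf]
    constructor
    · intro hk
      refine hrad k k.2 fun y hy => commutatorElement_eq_one_iff_mul_comm.1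
        (hL.inj _ (hK k k.2 y hy) ?_)
      exact DFunLike.congr_fun hk ((⟨y, hy⟩ : K) : K ⧸ Kc)
    · intro hk
      refine MonoidHom.ext fun q => ?_
      induction q using QuotientGroup.induction_on with | H s =>
      change L ⁅(k : G), (s : G)⁆ = 1
      rw [commutatorElement_eq_one_iff_mul_comm.2 (Subgroup.mem_center_iff.1 hk s).symm, hL.one]
  have hcard : Nat.card ((K ⧸ Kc) →* ℂˣ) = Nat.card (K ⧸ Kc) :=
    Nat.card_congr (CommGroup.monoidHom_mulEquiv_of_hasEnoughRootsOfUnity (K ⧸ Kc) ℂ).some.toEquiv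
  have : Finite ((K ⧸ Kc) →* ℂˣ) :=
    Nat.finite_of_card_ne_zero (by rw [hcard]; exact Nat.card_pos.ne')
  have hsurj : Function.Surjective Φ := by
    have hinj := QuotientGroup.kerLift_injective Φ
    have hc : Nat.card ((K ⧸ Kc) →* ℂˣ) ≤ Nat.card (K ⧸ Φ.ker) := by rw [hcard, hΦker]
    intro ψ
    obtain ⟨q, hq⟩ := (hinj.bijective_of_nat_card_le hc).2 ψ
    induction q using QuotientGroup.induction_on with | H k =>
    exact ⟨k, hq⟩
  obtain ⟨k, hk⟩ := hsurj (QuotientGroup.lift Kc f fun z hz => hf z (Subgroup.mem_subgroupOf.1 hz))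
  exact ⟨k, fun s => DFunLike.congr_fun hk (s : K ⧸ Kc)⟩

end CfsgLib.KGV.Ramified
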