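import Mathlib.GroupTheory.PGroup
import Mathlib.GroupTheory.QuotientGroup.Basic
import Mathlib.GroupTheory.Sylow

/-!
# Fixed points in a coset of an abelian coprime group of automorphisms
-/

set_option autoImplicit false

namespace CfsgLib.KGV.CosetFix

universe u v

/-- The number of fixed points of an automorphism. -/
noncomputable def fix {V : Type v} [Mul V] (σ : MulAut V) : ℕ := Nat.card {v : V // σ v = v}

variable {A : Type u} [Group A] [Fintype A] {V : Type v} [CommGroup V] [Finite V]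

theorem fix_pos (σ : MulAut V) : 0 < fix σ :=
  have : Nonempty {v : V // σ v = v} := ⟨⟨1, map_one σ⟩⟩
  Nat.card_pos

/-- The product form of the bound. -/
theorem prod_coset_fix_sq_le (φ : A →* MulAut V) (hab : ∀ a b, φ a * φ b = φ b * φ a)
    (hcop : (Nat.card V).Coprime (Nat.card A)) (β : MulAut V)
    (hβ : ∀ a, ∃ a', β * φ a = φ a' * β) (hfix : ∀ v : V, (∀ a, φ a v = v) → v = 1) :
    (∏ a : A, fix (β * φ a)) ^ 2 ≤ Nat.card V ^ Nat.card A := by
  classical
  suffices h : ∀ (m : ℕ) (V : Type v) [CommGroup V] [Finite V], Nat.card V = m →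
      ∀ φ : A →* MulAut V, (∀ a b, φ a * φ b = φ b * φ a) → (Nat.card V).Coprime (Nat.card A) →
      ∀ β : MulAut V, (∀ a, ∃ a', β * φ a = φ a' * β) → (∀ v : V, (∀ a, φ a v = v) → v = 1) →
      (∏ a : A, fix (β * φ a)) ^ 2 ≤ Nat.card V ^ Nat.card A from
    h _ V rfl φ hab hcop β hβ hfix
  intro m
  induction m using Nat.strong_induction_on with
  | _ m ih =>
  intro V _ _ hm φ hab hcop β hβ hfix
  by_cases hW : ∃ W : Subgroup V, W ≠ ⊥ ∧ W ≠ ⊤ ∧ (∀ a, ∀ v ∈ W, φ a v ∈ W) ∧ ∀ v ∈ W, β v ∈ W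
  · obtain ⟨W, hW0, hW1, hWinv, hWβ⟩ := hW
    have hmapW : ∀ σ : MulAut V, (∀ v ∈ W, σ v ∈ W) → W.map (σ : V →* V) = W := fun σ hσ => by
      refine Subgroup.eq_of_le_of_card_ge (by rintro _ ⟨w, hw, rfl⟩; exact hσ w hw) ?_
      exact (Subgroup.card_map_of_injective (f := (σ : V →* V)) σ.injective).ge
    have hsymm : ∀ σ : MulAut V, (∀ v ∈ W, σ v ∈ W) → ∀ v ∈ W, σ.symm v ∈ W := fun σ hσ v hv => by
      obtain ⟨w, hw, hwv⟩ := ((hmapW σ hσ).ge hv : v ∈ W.map (σ : V →* V))
      rw [← hwv]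
      simpa using hw
    let res : ∀ σ : MulAut V, (∀ v ∈ W, σ v ∈ W) → MulAut W := fun σ hσ =>
      { toFun := fun w => ⟨σ w, hσ w w.2⟩
        invFun := fun w => ⟨σ.symm w, hsymm σ hσ w w.2⟩
        left_inv := fun w => Subtype.ext (σ.symm_apply_apply _)
        right_inv := fun w => Subtype.ext (σ.apply_symm_apply _)
        map_mul' := fun x y => Subtype.ext (map_mul σ _ _) }
    have hres : ∀ σ hσ (w : W), ((res σ hσ w : W) : V) = σ w := fun σ hσ w => rfl
    let quo : ∀ σ : MulAut V, (∀ v ∈ W, σ v ∈ W) → MulAut (V ⧸ W) := fun σ hσ =>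
      QuotientGroup.congr W W σ (hmapW σ hσ)
    have hquo : ∀ σ hσ (z : V), quo σ hσ (z : V ⧸ W) = ((σ z : V) : V ⧸ W) := fun σ hσ z => rfl
    let ψ : A →* MulAut W :=
      { toFun := fun a => res (φ a) (hWinv a)
        map_one' := MulEquiv.ext fun w => Subtype.ext (by rw [hres]; simp)
        map_mul' := fun a b => MulEquiv.ext fun w => Subtype.ext (by rw [hres, map_mul]; rfl) }
    let χ : A →* MulAut (V ⧸ W) :=
      { toFun := fun a => quo (φ a) (hWinv a)
        map_one' := MulEquiv.ext fun x => by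
          induction x using QuotientGroup.induction_on with
          | H z => exact congrArg (QuotientGroup.mk' W) (by simp : φ 1 z = z)
        map_mul' := fun a b => MulEquiv.ext fun x => by
          induction x using QuotientGroup.induction_on with
          | H z => exact congrArg (QuotientGroup.mk' W) (by simp : φ (a * b) z = φ a (φ b z)) }
    have hψab : ∀ a b, ψ a * ψ b = ψ b * ψ a := fun a b => MulEquiv.ext fun w =>
      Subtype.ext (DFunLike.congr_fun (hab a b) (w : V))
    have hχab : ∀ a b, χ a * χ b = χ b * χ a := fun a b => MulEquiv.ext fun x => by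
      induction x using QuotientGroup.induction_on with
      | H z => exact congrArg (QuotientGroup.mk' W) (DFunLike.congr_fun (hab a b) z)
    have hψβ : ∀ a, ∃ a', res β hWβ * ψ a = ψ a' * res β hWβ := fun a => by
      obtain ⟨a', ha'⟩ := hβ a
      exact ⟨a', MulEquiv.ext fun w => Subtype.ext (DFunLike.congr_fun ha' (w : V))⟩
    have hχβ : ∀ a, ∃ a', quo β hWβ * χ a = χ a' * quo β hWβ := fun a => by
      obtain ⟨a', ha'⟩ := hβ a
      exact ⟨a', MulEquiv.ext fun x => by
        induction x using QuotientGroup.induction_on with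
        | H z => exact congrArg (QuotientGroup.mk' W) (DFunLike.congr_fun ha' z)⟩
    have hcard : Nat.card V = Nat.card (V ⧸ W) * Nat.card W := W.card_eq_card_quotient_mul_card_subgroup
    have hW2 : 1 < Nat.card W := (Subgroup.one_lt_card_iff_ne_bot W).2 hW0
    have hQ2 : 1 < Nat.card (V ⧸ W) := by
      have h1 : W.index ≠ 1 := fun h => hW1 (Subgroup.index_eq_one.1 h)
      have h2 : 0 < W.index := Nat.pos_of_ne_zero Subgroup.index_ne_zero_of_finite
      exact lt_of_le_of_ne h2 (Ne.symm h1)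
    have hfibre : ∀ a, fix (β * φ a) ≤ fix (res β hWβ * ψ a) * fix (quo β hWβ * χ a) := by
      intro a
      let f : {v : V // (β * φ a) v = v} → {x : V ⧸ W // (quo β hWβ * χ a) x = x} := fun v =>
        ⟨((v : V) : V ⧸ W), congrArg (QuotientGroup.mk' W) v.2⟩
      have : Nonempty {v : V // (β * φ a) v = v} := ⟨⟨1, map_one _⟩⟩
      let s := Function.invFun f
      have hs : ∀ v, f (s (f v)) = f v := fun v => Function.invFun_eq ⟨v, rfl⟩
      change Nat.card _ ≤ Nat.card _ * Nat.card _
      rw [← Nat.card_prod]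
      refine Nat.card_le_card_of_injective (fun v => ((⟨⟨(s (f v) : V)⁻¹ * v,
        QuotientGroup.eq.1 (congrArg Subtype.val (hs v))⟩, Subtype.ext ?_⟩ :
          {w : W // (res β hWβ * ψ a) w = w}), f v)) ?_
      · change (β * φ a) ((s (f v) : V)⁻¹ * v) = (s (f v) : V)⁻¹ * v
        rw [map_mul, map_inv, (s (f v)).2, v.2]
      · intro v w h
        simp only [Prod.mk.injEq, Subtype.mk.injEq] at h
        obtain ⟨h1, h2⟩ := h
        rw [h2] at h1
        exact Subtype.ext (mul_left_cancel h1)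
    have hdW : Nat.card W ∣ Nat.card V := W.card_subgroup_dvd_card
    have hdQ : Nat.card (V ⧸ W) ∣ Nat.card V := Dvd.intro _ hcard.symm
    have hfQ : ∀ x : V ⧸ W, (∀ a, χ a x = x) → x = 1 := by
      intro x hx
      induction x using QuotientGroup.induction_on with
      | H z =>
      have hprod : ∏ a : A, φ a z = 1 := hfix _ fun b => by
        rw [map_prod]
        exact Fintype.prod_equiv (Equiv.mulLeft b) _ _ fun a => by simp
      have h1 : ((∏ a : A, φ a z : V) : V ⧸ W) = (z : V ⧸ W) ^ Nat.card A := by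
        rw [← QuotientGroup.mk'_apply, map_prod, Nat.card_eq_fintype_card, ← Finset.card_univ,
          ← Finset.prod_const]
        exact Finset.prod_congr rfl fun a _ => (hquo (φ a) (hWinv a) z).symm.trans (hx a)
      rw [hprod, QuotientGroup.mk_one] at h1
      exact (powCoprime (hcop.coprime_dvd_left hdQ)).injective (h1.symm.trans (one_pow _).symm)
    have hi1 := ih _ (by rw [← hm, hcard]; exact lt_mul_of_one_lt_left Nat.card_pos hQ2) W rfl ψ hψab
      (hcop.coprime_dvd_left hdW) _ hψβ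
      (fun w hw => Subtype.ext (hfix w fun a => congrArg Subtype.val (hw a)))
    have hi2 := ih _ (by rw [← hm, hcard]; exact lt_mul_of_one_lt_right Nat.card_pos hW2) (V ⧸ W) rfl χ
      hχab (hcop.coprime_dvd_left hdQ) _ hχβ hfQ
    calc (∏ a : A, fix (β * φ a)) ^ 2
        ≤ (∏ a : A, fix (res β hWβ * ψ a) * fix (quo β hWβ * χ a)) ^ 2 :=
          Nat.pow_le_pow_left (Finset.prod_le_prod' fun a _ => hfibre a) 2
      _ ≤ Nat.card W ^ Nat.card A * Nat.card (V ⧸ W) ^ Nat.card A := by
          rw [Finset.prod_mul_distrib, mul_pow]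
          exact Nat.mul_le_mul hi1 hi2
      _ = Nat.card V ^ Nat.card A := by rw [← mul_pow, hcard, mul_comm]
  · push Not at hW
    rcases subsingleton_or_nontrivial V with hV | hV
    · have h1 : ∀ a : A, fix (β * φ a) ≤ 1 := fun a =>
        Finite.card_le_one_iff_subsingleton.2 inferInstance
      exact (Nat.pow_le_pow_left (Finset.prod_le_one (fun a _ => Nat.zero_le _) fun a _ => h1 a) 2).trans
        (by rw [one_pow]; exact Nat.one_le_pow _ _ Nat.card_pos)
    obtain ⟨v₀, hv₀⟩ := exists_ne (1 : V)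
    obtain ⟨a₀, ha₀⟩ : ∃ a, φ a v₀ ≠ v₀ := by
      by_contra h
      push Not at h
      exact hv₀ (hfix v₀ h)
    have key : ∀ a v, (β * φ a) v = v → (β * φ (a * a₀)) v = v → v = 1 := by
      intro a v h1 h2
      set σ := β * φ a with hσ
      have h3 : φ a₀ v = v := by
        rw [map_mul, ← mul_assoc, ← hσ, MulAut.mul_apply] at h2
        exact σ.injective (h2.trans h1.symm)
      let D : Subgroup V :=
        { carrier := {w | ∀ j : ℕ, φ a₀ ((σ ^ j) w) = (σ ^ j) w}
          one_mem' := fun j => by simp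
          mul_mem' := fun ha hb j => by simp only [map_mul, ha j, hb j]
          inv_mem' := fun ha j => by simp only [map_inv, ha j] }
      have hconj : ∀ (j : ℕ) (b : A), ∃ b', σ ^ j * φ b = φ b' * σ ^ j := by
        intro j
        induction j with
        | zero => exact fun b => ⟨b, by rw [pow_zero, one_mul, mul_one]⟩
        | succ j ihj =>
          intro b
          obtain ⟨b₁, hb₁⟩ := ihj b
          obtain ⟨b₂, hb₂⟩ := hβ b₁
          refine ⟨b₂, ?_⟩
          rw [pow_succ', mul_assoc σ, hb₁, ← mul_assoc, ← mul_assoc, hσ, mul_assoc β (φ a),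
            hab a b₁, ← mul_assoc β, hb₂, mul_assoc (φ b₂)]
      have hDA : ∀ b, ∀ w ∈ D, φ b w ∈ D := fun b w hw j => by
        obtain ⟨b', hb'⟩ := hconj j b
        rw [← MulAut.mul_apply _ (σ ^ j), hb', MulAut.mul_apply, ← MulAut.mul_apply _ (φ a₀), hab,
          MulAut.mul_apply, hw j]
      have hDβ : ∀ w ∈ D, β w ∈ D := fun w hw => by
        have e : β w = σ ((φ a⁻¹) w) := by
          rw [hσ, MulAut.mul_apply, ← MulAut.mul_apply _ (φ a), ← map_mul, mul_inv_cancel, map_one,
            MulAut.one_apply]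
        have h4 := hDA a⁻¹ w hw
        intro j
        rw [e, ← MulAut.mul_apply _ (σ ^ j) σ, ← pow_succ]
        exact h4 (j + 1)
      have hvD : v ∈ D := fun j => by
        have : (σ ^ j) v = v := by
          induction j with
          | zero => simp
          | succ j ihj => rw [pow_succ, MulAut.mul_apply, h1, ihj]
        rw [this, h3]
      by_contra hne
      have hD0 : D ≠ ⊥ := fun h => hne ((Subgroup.eq_bot_iff_forall D).1 h v hvD)
      by_cases hD1 : D = ⊤
      · exact ha₀ (by simpa using (hD1 ▸ Subgroup.mem_top v₀ : v₀ ∈ D) 0)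
      · obtain ⟨w, hw, hnw⟩ := hW D hD0 hD1 hDA
        exact hnw (hDβ w hw)
    have hpair : ∀ a, fix (β * φ a) * fix (β * φ (a * a₀)) ≤ Nat.card V := by
      intro a
      change Nat.card _ * Nat.card _ ≤ _
      rw [← Nat.card_prod]
      refine Nat.card_le_card_of_injective (fun q => (q.1 : V) * (q.2 : V)) ?_
      rintro ⟨⟨u, hu⟩, ⟨w, hw⟩⟩ ⟨⟨u', hu'⟩, ⟨w', hw'⟩⟩ h
      have hd : u'⁻¹ * u = w' * w⁻¹ := by
        rw [inv_mul_eq_iff_eq_mul, ← mul_assoc, eq_mul_inv_iff_mul_eq]
        exact h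
      have h1 : (β * φ a) (u'⁻¹ * u) = u'⁻¹ * u := by rw [map_mul, map_inv, hu, hu']
      have h2 : (β * φ (a * a₀)) (u'⁻¹ * u) = u'⁻¹ * u := by
        rw [hd, map_mul (β * φ (a * a₀)), map_inv (β * φ (a * a₀)), hw', hw]
      have h4 := key a _ h1 h2
      have h5 : w' * w⁻¹ = 1 := hd.symm.trans h4
      rw [inv_mul_eq_one] at h4
      rw [mul_inv_eq_one] at h5
      exact Prod.ext (Subtype.ext h4.symm) (Subtype.ext h5.symm)
    calc (∏ a : A, fix (β * φ a)) ^ 2
        = ∏ a : A, fix (β * φ a) * fix (β * φ (a * a₀)) := by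
          rw [Finset.prod_mul_distrib, sq,
            Fintype.prod_equiv (Equiv.mulRight a₀) (fun a => fix (β * φ (a * a₀)))
              (fun a => fix (β * φ a)) fun a => rfl]
      _ ≤ ∏ _a : A, Nat.card V := Finset.prod_le_prod' fun a _ => hpair a
      _ = Nat.card V ^ Nat.card A := by
          rw [Finset.prod_const, Finset.card_univ, Nat.card_eq_fintype_card (α := A)]

/-- Some element of the coset does as well as the fixed space of `A` allows. -/
theorem exists_coset_fix {G : Type u} [Group G] [Finite G] (ψ : G →* MulAut V) (B : Subgroup G)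
    [B.Normal] (hab : ∀ a ∈ B, ∀ b ∈ B, ψ a * ψ b = ψ b * ψ a)
    (hcop : (Nat.card V).Coprime (Nat.card B)) (g : G) (W₀ : Subgroup V)
    (hW₀ : ∀ v, v ∈ W₀ ↔ ∀ a ∈ B, ψ a v = v) :
    ∃ a ∈ B, fix (ψ (g * a)) ^ 2 * Nat.card W₀ ≤
      Nat.card V * Nat.card {v : V // v ∈ W₀ ∧ ψ g v = v} ^ 2 := by
  classical
  let : Fintype B := Fintype.ofFinite B
  let nrm : V →* V :=
    { toFun := fun v => ∏ a : B, ψ a v
      map_one' := by simp
      map_mul' := fun x y => by simp [Finset.prod_mul_distrib] }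
  have hnrm : ∀ v, nrm v = ∏ a : B, ψ a v := fun v => rfl
  have hnW : ∀ v, nrm v ∈ W₀ := fun v => (hW₀ _).2 fun b hb => by
    rw [hnrm, map_prod]
    exact Fintype.prod_equiv (Equiv.mulLeft ⟨b, hb⟩) _ _ fun a => by
      rw [Equiv.coe_mulLeft, Subgroup.coe_mul, map_mul, MulAut.mul_apply]
  have hnfix : ∀ v, v ∈ W₀ → nrm v = v ^ Nat.card B := fun v hv => by
    rw [hnrm, Finset.prod_congr rfl fun (a : B) _ => (hW₀ v).1 hv (a : G) a.2, Finset.prod_const, Finset.card_univ,
      Nat.card_eq_fintype_card]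
  let e := powCoprime (G := W₀) (hcop.coprime_dvd_left W₀.card_subgroup_dvd_card)
  have he : ∀ w : W₀, ((e w : W₀) : V) = (w : V) ^ Nat.card B := fun w => rfl
  let W₁ := nrm.ker
  let dec : V → W₀ × W₁ := fun v => (e.symm ⟨nrm v, hnW v⟩,
    ⟨((e.symm ⟨nrm v, hnW v⟩ : W₀) : V)⁻¹ * v, by
      rw [MonoidHom.mem_ker, map_mul, map_inv, hnfix _ (SetLike.coe_mem _), ← he,
        Equiv.apply_symm_apply, inv_mul_cancel]⟩)
  have hdec : ∀ v, ((dec v).1 : V) * ((dec v).2 : V) = v := fun v => mul_inv_cancel_left _ _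
  have hdinj : Function.Injective dec := fun x y h => by rw [← hdec x, h, hdec]
  have hcardV : Nat.card V = Nat.card W₀ * Nat.card W₁ := by
    rw [← Nat.card_prod]
    refine le_antisymm (Nat.card_le_card_of_injective dec hdinj) ?_
    refine Nat.card_le_card_of_injective (fun q => (q.1 : V) * (q.2 : V)) ?_
    rintro ⟨x, y⟩ ⟨x', y'⟩ h
    have h1 := congrArg nrm h
    simp only [map_mul, MonoidHom.mem_ker.1 y.2, MonoidHom.mem_ker.1 y'.2, mul_one,
      hnfix _ x.2, hnfix _ x'.2] at h1
    have hx : x = x' := e.injective (Subtype.ext h1)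
    subst hx
    exact Prod.ext rfl (Subtype.ext (mul_left_cancel h))
  have hW1inv : ∀ h : G, ∀ v ∈ W₁, ψ h v ∈ W₁ := fun h v hv => by
    have hv' : nrm v = 1 := hv
    rw [MonoidHom.mem_ker, hnrm]
    calc ∏ a : B, ψ a (ψ h v) = ∏ a : B, ψ h (ψ a v) :=
          Fintype.prod_equiv (MulAut.conjNormal (H := B) h⁻¹).toEquiv _ _ fun a => by
            rw [← MulAut.mul_apply, ← map_mul, ← MulAut.mul_apply, ← map_mul]
            congr 2
            change (a : G) * h = h * ((MulAut.conjNormal (H := B) h⁻¹ a : B) : G)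
            rw [MulAut.conjNormal_apply]
            group
      _ = 1 := by rw [← map_prod, ← hnrm, hv', map_one]
  let res : G →* MulAut W₁ :=
    { toFun := fun h =>
        { toFun := fun w => ⟨ψ h w, hW1inv h w w.2⟩
          invFun := fun w => ⟨ψ h⁻¹ w, hW1inv h⁻¹ w w.2⟩
          left_inv := fun w => Subtype.ext (by simp)
          right_inv := fun w => Subtype.ext (by simp)
          map_mul' := fun x y => Subtype.ext (by simp) }
      map_one' := MulEquiv.ext fun w => Subtype.ext (by simp)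
      map_mul' := fun a b => MulEquiv.ext fun w => Subtype.ext (by simp) }
  let φ : B →* MulAut W₁ := res.comp B.subtype
  have hres : ∀ h (w : W₁), ((res h w : W₁) : V) = ψ h w := fun h w => rfl
  have h1 := prod_coset_fix_sq_le φ (fun a b => MulEquiv.ext fun w => Subtype.ext
      (DFunLike.congr_fun (hab a a.2 b b.2) (w : V)))
    (hcop.coprime_dvd_left W₁.card_subgroup_dvd_card) (res g)
    (fun a => ⟨MulAut.conjNormal (H := B) g a, by
      change res g * res (a : G) = res ((MulAut.conjNormal (H := B) g a : B) : G) * res g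
      rw [← map_mul, ← map_mul, MulAut.conjNormal_apply, inv_mul_cancel_right]⟩)
    (fun w hw => by
      refine Subtype.ext ?_
      have hmem : (w : V) ∈ W₀ := (hW₀ _).2 fun a ha => congrArg Subtype.val (hw ⟨a, ha⟩)
      have h2 := MonoidHom.mem_ker.1 w.2
      rw [hnfix _ hmem] at h2
      have h9 : (⟨(w : V), hmem⟩ : W₀) = 1 := e.injective (Subtype.ext (h2.trans (one_pow _).symm))
      exact congrArg (fun z : W₀ => (z : V)) h9)
  obtain ⟨a, ha⟩ : ∃ a : B, fix (res g * φ a) ^ 2 ≤ Nat.card W₁ := by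
    by_contra hne
    push Not at hne
    rw [← Finset.prod_pow] at h1
    refine absurd h1 (not_le.2 ?_)
    calc Nat.card W₁ ^ Nat.card B = ∏ _a : B, Nat.card W₁ := by
          rw [Finset.prod_const, Finset.card_univ, Nat.card_eq_fintype_card (α := B)]
      _ < _ := Finset.prod_lt_prod_of_nonempty (fun _ _ => Nat.card_pos) (fun a _ => hne a)
          Finset.univ_nonempty
  refine ⟨a, a.2, ?_⟩
  have hcomm : ∀ v, nrm (ψ (g * a) v) = ψ g (nrm v) := fun v => by
    have h3 : ∀ h : G, nrm (ψ h v) = ψ h (nrm v) := fun h => by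
      rw [hnrm, hnrm, map_prod]
      exact Fintype.prod_equiv (MulAut.conjNormal (H := B) h⁻¹).toEquiv _ _ fun b => by
        rw [← MulAut.mul_apply, ← map_mul, ← MulAut.mul_apply, ← map_mul]
        congr 2
        change (b : G) * h = h * ((MulAut.conjNormal (H := B) h⁻¹ b : B) : G)
        rw [MulAut.conjNormal_apply]
        group
    rw [h3, map_mul, MulAut.mul_apply, (hW₀ _).1 (hnW v) a a.2]
  have h2 : fix (ψ (g * a)) ≤ Nat.card {v : V // v ∈ W₀ ∧ ψ g v = v} * fix (res g * φ a) := by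
    change Nat.card _ ≤ _ * Nat.card _
    rw [← Nat.card_prod]
    have hx : ∀ v : {v : V // ψ (g * a) v = v}, ψ g ((dec v.1).1 : V) = ((dec v.1).1 : V) := by
      intro v
      have hmem : ψ g ((dec v.1).1 : V) ∈ W₀ := (hW₀ _).2 fun b hb => by
        rw [← MulAut.mul_apply, ← map_mul, show b * g = g * (g⁻¹ * b * g⁻¹⁻¹) by group, map_mul,
          MulAut.mul_apply, (hW₀ _).1 (dec v.1).1.2 _ (‹B.Normal›.conj_mem b hb g⁻¹)]
      refine congrArg Subtype.val (e.injective (Subtype.ext ?_) : (⟨_, hmem⟩ : W₀) = (dec v.1).1)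
      rw [he, ← map_pow, ← he, Equiv.apply_symm_apply]
      change ψ g (nrm v.1) = nrm v.1
      rw [← hcomm, v.2]
    refine Nat.card_le_card_of_injective (fun v => ((⟨(dec v.1).1, (dec v.1).1.2, hx v⟩ :
      {v : V // v ∈ W₀ ∧ ψ g v = v}), (⟨(dec v.1).2, Subtype.ext ?_⟩ :
      {w : W₁ // (res g * φ a) w = w}))) ?_
    · change ψ g (ψ (a : G) ((dec v.1).2 : V)) = ((dec v.1).2 : V)
      rw [← MulAut.mul_apply, ← map_mul]
      have h4 := v.2
      have h5 : ψ (g * a) ((dec v.1).1 : V) = ((dec v.1).1 : V) := by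
        have h6 := hx v
        generalize ((dec v.1).1) = x at h6 ⊢
        rw [map_mul, MulAut.mul_apply, (hW₀ _).1 x.2 a a.2, h6]
      rw [← hdec v.1, map_mul (ψ (g * a)), h5] at h4
      exact mul_left_cancel h4
    · intro v w h
      simp only [Prod.mk.injEq, Subtype.mk.injEq] at h
      exact Subtype.ext (hdinj (Prod.ext (Subtype.ext h.1) h.2))
  calc fix (ψ (g * a)) ^ 2 * Nat.card W₀
      ≤ Nat.card {v : V // v ∈ W₀ ∧ ψ g v = v} ^ 2 * fix (res g * φ a) ^ 2 * Nat.card W₀ := by
        rw [← mul_pow]; exact Nat.mul_le_mul_right _ (Nat.pow_le_pow_left h2 2)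
    _ ≤ Nat.card {v : V // v ∈ W₀ ∧ ψ g v = v} ^ 2 * Nat.card W₁ * Nat.card W₀ :=
        Nat.mul_le_mul_right _ (Nat.mul_le_mul_left _ ha)
    _ = Nat.card V * _ ^ 2 := by rw [hcardV]; ring

end CfsgLib.KGV.CosetFix
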