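import Mathlib.GroupTheory.Nilpotent
import Mathlib.GroupTheory.PGroup
import Mathlib.GroupTheory.QuotientGroup.Basic
import Mathlib.GroupTheory.Sylow

/-!
# Small fixed point subgroups in coprime nilpotent actions
-/

set_option autoImplicit false

namespace CfsgLib.KGV

universe u v

/-- The product of the squared fixed point numbers is at most `|V| ^ |A|`. -/
theorem prod_fix_sq_le {A : Type u} [Group A] [Fintype A] [Group.IsNilpotent A] {V : Type v} [CommGroup V]
    [Finite V] (φ : A →* MulAut V) (hcop : (Nat.card V).Coprime (Nat.card A))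
    (hfix : ∀ v : V, (∀ a, φ a v = v) → v = 1) :
    (∏ a : A, Nat.card {v : V // φ a v = v}) ^ 2 ≤ Nat.card V ^ Nat.card A := by
  classical
  suffices h : ∀ (m : ℕ) (V : Type v) [CommGroup V] [Finite V], Nat.card V = m →
      ∀ φ : A →* MulAut V, (Nat.card V).Coprime (Nat.card A) →
      (∀ v : V, (∀ a, φ a v = v) → v = 1) →
      (∏ a : A, Nat.card {v : V // φ a v = v}) ^ 2 ≤ Nat.card V ^ Nat.card A from
    h _ V rfl φ hcop hfix
  intro m
  induction m using Nat.strong_induction_on with
  | _ m ih =>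
  intro V _ _ hm φ hcop hfix
  by_cases hW : ∃ W : Subgroup V, W ≠ ⊥ ∧ W ≠ ⊤ ∧ ∀ a, ∀ v ∈ W, φ a v ∈ W
  · obtain ⟨W, hW0, hW1, hWinv⟩ := hW
    let ψ : A →* MulAut W :=
      { toFun := fun a =>
          { toFun := fun w => ⟨φ a w, hWinv a w w.2⟩
            invFun := fun w => ⟨φ a⁻¹ w, hWinv a⁻¹ w w.2⟩
            left_inv := fun w => Subtype.ext (by simp)
            right_inv := fun w => Subtype.ext (by simp)
            map_mul' := fun x y => Subtype.ext (by simp) }
        map_one' := MulEquiv.ext fun w => Subtype.ext (by simp)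
        map_mul' := fun a b => MulEquiv.ext fun w => Subtype.ext (by simp) }
    have hmapW : ∀ a, W.map (φ a : V →* V) = W := fun a => by
      refine le_antisymm ?_ fun w hw => ⟨φ a⁻¹ w, hWinv a⁻¹ w hw, by simp⟩
      rintro _ ⟨w, hw, rfl⟩
      exact hWinv a w hw
    let χ : A →* MulAut (V ⧸ W) :=
      { toFun := fun a => QuotientGroup.congr W W (φ a) (hmapW a)
        map_one' := MulEquiv.ext fun x => by
          induction x using QuotientGroup.induction_on with | H z => simp
        map_mul' := fun a b => MulEquiv.ext fun x => by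
          induction x using QuotientGroup.induction_on with | H z => simp }
    have hχ : ∀ (a : A) (z : V), χ a (z : V ⧸ W) = ((φ a z : V) : V ⧸ W) := fun a z => rfl
    have hcard : Nat.card V = Nat.card (V ⧸ W) * Nat.card W := W.card_eq_card_quotient_mul_card_subgroup
    have hW2 : 1 < Nat.card W := (Subgroup.one_lt_card_iff_ne_bot W).2 hW0
    have hQ2 : 1 < Nat.card (V ⧸ W) := by
      have h1 : W.index ≠ 1 := fun h => hW1 (Subgroup.index_eq_one.1 h)
      have h2 : 0 < W.index := Nat.pos_of_ne_zero Subgroup.index_ne_zero_of_finite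
      exact lt_of_le_of_ne h2 (Ne.symm h1)
    have hfibre : ∀ a, Nat.card {v : V // φ a v = v} ≤
        Nat.card {v : W // ψ a v = v} * Nat.card {x : V ⧸ W // χ a x = x} := by
      intro a
      let f : {v : V // φ a v = v} → {x : V ⧸ W // χ a x = x} := fun v =>
        ⟨((v : V) : V ⧸ W), by rw [hχ, v.2]⟩
      have : Nonempty {v : V // φ a v = v} := ⟨⟨1, map_one _⟩⟩
      let s := Function.invFun f
      have hs : ∀ v, f (s (f v)) = f v := fun v => Function.invFun_eq ⟨v, rfl⟩
      rw [← Nat.card_prod]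
      refine Nat.card_le_card_of_injective (fun v => ((⟨⟨(s (f v) : V)⁻¹ * v,
        QuotientGroup.eq.1 (congrArg Subtype.val (hs v))⟩, Subtype.ext ?_⟩ : {v : W // ψ a v = v}), f v)) ?_
      · change φ a ((s (f v) : V)⁻¹ * v) = (s (f v) : V)⁻¹ * v
        rw [map_mul, map_inv, (s (f v)).2, v.2]
      · intro v w h
        simp only [Prod.mk.injEq, Subtype.mk.injEq] at h
        obtain ⟨h1, h2⟩ := h
        rw [h2] at h1
        exact Subtype.ext (mul_left_cancel h1)
    have hdW : Nat.card W ∣ Nat.card V := W.card_subgroup_dvd_card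
    have hdQ : Nat.card (V ⧸ W) ∣ Nat.card V := Dvd.intro _ hcard.symm
    have hfQ : ∀ x : V ⧸ W, (∀ a, χ a x = x) → x = 1 := by
      intro x hx
      induction x using QuotientGroup.induction_on with
      | H z =>
      have hprod : ∏ a : A, φ a z = 1 := hfix _ fun b => by
        rw [map_prod]
        exact Fintype.prod_equiv (Equiv.mulLeft b) _ _ fun a => by simp
      have h1 : ((∏ a : A, φ a z : V) : V ⧸ W) = (z : V ⧸ W) ^ Nat.card A := by
        rw [← QuotientGroup.mk'_apply, map_prod, Nat.card_eq_fintype_card, ← Finset.card_univ,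
          ← Finset.prod_const]
        exact Finset.prod_congr rfl fun a _ => (hχ a z).symm.trans (hx a)
      rw [hprod, QuotientGroup.mk_one] at h1
      exact (powCoprime (hcop.coprime_dvd_left hdQ)).injective (h1.symm.trans (one_pow _).symm)
    have hi1 := ih _ (by rw [← hm, hcard]; exact lt_mul_of_one_lt_left Nat.card_pos hQ2) W rfl ψ
      (hcop.coprime_dvd_left hdW)
      (fun w hw => Subtype.ext (hfix w fun a => congrArg Subtype.val (hw a)))
    have hi2 := ih _ (by rw [← hm, hcard]; exact lt_mul_of_one_lt_right Nat.card_pos hW2) (V ⧸ W) rfl χ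
      (hcop.coprime_dvd_left hdQ) hfQ
    calc (∏ a : A, Nat.card {v : V // φ a v = v}) ^ 2
        ≤ (∏ a : A, Nat.card {v : W // ψ a v = v} * Nat.card {x : V ⧸ W // χ a x = x}) ^ 2 :=
          Nat.pow_le_pow_left (Finset.prod_le_prod' fun a _ => hfibre a) 2
      _ ≤ Nat.card W ^ Nat.card A * Nat.card (V ⧸ W) ^ Nat.card A := by
          rw [Finset.prod_mul_distrib, mul_pow]
          exact Nat.mul_le_mul hi1 hi2
      _ = Nat.card V ^ Nat.card A := by rw [← mul_pow, hcard, mul_comm]
  · push Not at hW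
    rcases subsingleton_or_nontrivial V with hV | hV
    · have h1 : ∀ a : A, Nat.card {v : V // φ a v = v} ≤ 1 := fun a =>
        Finite.card_le_one_iff_subsingleton.2 inferInstance
      exact (Nat.pow_le_pow_left (Finset.prod_le_one (fun a _ => Nat.zero_le _) fun a _ => h1 a) 2).trans
        (by rw [one_pow]; exact Nat.one_le_pow _ _ Nat.card_pos)
    -- a central element of the image
    have : Group.IsNilpotent φ.range := Group.nilpotent_of_surjective _ φ.rangeRestrict_surjective
    have : Nontrivial φ.range := by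
      obtain ⟨v, hv⟩ := exists_ne (1 : V)
      obtain ⟨a, ha⟩ : ∃ a, φ a v ≠ v := by
        by_contra h
        push Not at h
        exact hv (hfix v h)
      exact ⟨⟨⟨φ a, a, rfl⟩, 1, fun h => ha (by
        rw [show φ a = 1 from congrArg Subtype.val h]; rfl)⟩⟩
    obtain ⟨⟨z, a₀, rfl⟩, hz, hz1⟩ :=
      (Subgroup.bot_or_exists_ne_one (Subgroup.center φ.range)).resolve_left
        (Group.IsNilpotent.center_ne_bot _)
    have hcomm : ∀ a v, φ a (φ a₀ v) = φ a₀ (φ a v) := fun a v => by
      have h := congrArg Subtype.val (Subgroup.mem_center_iff.1 hz ⟨φ a, a, rfl⟩)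
      exact congrArg (fun e : MulAut V => e v) h
    have hC : ∀ v, φ a₀ v = v → v = 1 := by
      let W : Subgroup V := (φ a₀).toMonoidHom.eqLocus (MonoidHom.id V)
      have hmem : ∀ v, v ∈ W ↔ φ a₀ v = v := fun v => Iff.rfl
      intro v hv
      by_contra hne
      have h0 : W ≠ ⊥ := fun h => hne ((Subgroup.eq_bot_iff_forall W).1 h v ((hmem v).2 hv))
      by_cases htop : W = ⊤
      · exact hz1 (Subtype.ext (MulEquiv.ext fun w => (hmem w).1 (htop ▸ Subgroup.mem_top w)))
      · obtain ⟨a, w, hw, hnw⟩ := hW W h0 htop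
        exact hnw ((hmem _).2 (by rw [← hcomm, (hmem w).1 hw]))
    have hpair : ∀ a, Nat.card {v : V // φ a v = v} * Nat.card {v : V // φ (a * a₀) v = v} ≤
        Nat.card V := by
      intro a
      rw [← Nat.card_prod]
      refine Nat.card_le_card_of_injective (fun q => (q.1 : V) * (q.2 : V)) ?_
      rintro ⟨⟨u, hu⟩, ⟨w, hw⟩⟩ ⟨⟨u', hu'⟩, ⟨w', hw'⟩⟩ h
      have hd : u'⁻¹ * u = w' * w⁻¹ := by
        rw [inv_mul_eq_iff_eq_mul, ← mul_assoc, eq_mul_inv_iff_mul_eq]
        exact h
      have h1 : φ a (u'⁻¹ * u) = u'⁻¹ * u := by rw [map_mul, map_inv, hu, hu']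
      have h2 : φ (a * a₀) (w' * w⁻¹) = w' * w⁻¹ := by rw [map_mul, map_inv, hw', hw]
      rw [← hd, map_mul φ, MulAut.mul_apply] at h2
      have h3 : φ a₀ (u'⁻¹ * u) = u'⁻¹ * u := (φ a).injective (h2.trans h1.symm)
      have h4 := hC _ h3
      rw [hd] at h3
      have h5 := hC _ h3
      rw [inv_mul_eq_one] at h4
      rw [mul_inv_eq_one] at h5
      exact Prod.ext (Subtype.ext h4.symm) (Subtype.ext h5.symm)
    calc (∏ a : A, Nat.card {v : V // φ a v = v}) ^ 2
        = ∏ a : A, Nat.card {v : V // φ a v = v} * Nat.card {v : V // φ (a * a₀) v = v} := by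
          rw [Finset.prod_mul_distrib, sq,
            Fintype.prod_equiv (Equiv.mulRight a₀) (fun a => Nat.card {v : V // φ (a * a₀) v = v})
              (fun a => Nat.card {v : V // φ a v = v}) fun a => rfl]
      _ ≤ ∏ _a : A, Nat.card V := Finset.prod_le_prod' fun a _ => hpair a
      _ = Nat.card V ^ Nat.card A := by
          rw [Finset.prod_const, Finset.card_univ, Nat.card_eq_fintype_card (α := A)]

/-- Some element fixes at most the square root of `|V|` points. -/
theorem exists_small_fix {A : Type u} [Group A] [Finite A] [Group.IsNilpotent A] {V : Type v} [CommGroup V]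
    [Finite V] (φ : A →* MulAut V) (hcop : (Nat.card V).Coprime (Nat.card A))
    (hfix : ∀ v : V, (∀ a, φ a v = v) → v = 1) :
    ∃ a : A, Nat.card {v : V // φ a v = v} ^ 2 ≤ Nat.card V := by
  classical
  let : Fintype A := Fintype.ofFinite A
  by_contra h
  push Not at h
  have h1 := prod_fix_sq_le φ hcop hfix
  rw [← Finset.prod_pow] at h1
  refine absurd h1 (not_le.2 ?_)
  calc Nat.card V ^ Nat.card A = ∏ _a : A, Nat.card V := by
        rw [Finset.prod_const, Finset.card_univ, Nat.card_eq_fintype_card (α := A)]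
    _ < _ := Finset.prod_lt_prod_of_nonempty (fun _ _ => Nat.card_pos) (fun a _ => h a)
        Finset.univ_nonempty

end CfsgLib.KGV
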