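import Cfsg.Agent.Lib.KGV.IntVirt
import Cfsg.Agent.Lib.PermChar.Basic
import Mathlib.Analysis.SpecialFunctions.Complex.CircleAddChar
import Mathlib.RepresentationTheory.Basic

/-!
# Quadratic Gauss sums as virtual characters of a group of isometries
-/

set_option autoImplicit false

open scoped ComplexConjugate

namespace CfsgLib.KGV

universe u w

variable {p : ℕ} [Fact p.Prime] {n : ℕ}

/-- Divisibility by `1 - ε`, with `ε` the standard primitive `p`-th root of unity. -/
def PiDvd (n p : ℕ) [NeZero p] (x : ℂ) : Prop :=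
  ∃ r ∈ cycInt n, x = (1 - ZMod.stdAddChar (1 : ZMod p)) * r

theorem stdAddChar_pow_eq_one (hpn : p ∣ n) (x : ZMod p) : (ZMod.stdAddChar x : ℂ) ^ n = 1 := by
  rw [← AddChar.map_nsmul_eq_pow]
  obtain ⟨k, rfl⟩ := hpn
  simp

theorem stdAddChar_mem (hn : 0 < n) (hpn : p ∣ n) (x : ZMod p) :
    (ZMod.stdAddChar x : ℂ) ∈ cycInt n :=
  mem_cycInt_of_pow_eq_one hn (stdAddChar_pow_eq_one hpn x)

theorem conj_stdAddChar (x : ZMod p) : conj (ZMod.stdAddChar x : ℂ) = ZMod.stdAddChar (-x) := by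
  rw [AddChar.map_neg_eq_inv, Complex.inv_eq_conj]
  refine Complex.norm_eq_one_of_pow_eq_one (stdAddChar_pow_eq_one (n := p) dvd_rfl x) ?_
  exact (Fact.out : p.Prime).ne_zero

theorem PiDvd.add {x y : ℂ} (hx : PiDvd n p x) (hy : PiDvd n p y) : PiDvd n p (x + y) := by
  obtain ⟨a, ha, rfl⟩ := hx
  obtain ⟨b, hb, rfl⟩ := hy
  exact ⟨a + b, add_mem ha hb, (mul_add _ _ _).symm⟩

theorem PiDvd.mul_right {x y : ℂ} (hx : PiDvd n p x) (hy : y ∈ cycInt n) : PiDvd n p (x * y) := by
  obtain ⟨a, ha, rfl⟩ := hx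
  exact ⟨a * y, mul_mem ha hy, mul_assoc _ _ _⟩

theorem PiDvd.mul_left {x y : ℂ} (hx : PiDvd n p x) (hy : y ∈ cycInt n) : PiDvd n p (y * x) :=
  mul_comm x y ▸ hx.mul_right hy

theorem PiDvd.sum {ι : Type*} (s : Finset ι) (f : ι → ℂ) (hf : ∀ i ∈ s, PiDvd n p (f i)) :
    PiDvd n p (∑ i ∈ s, f i) :=
  Finset.sum_induction f _ (fun _ _ => PiDvd.add) ⟨0, zero_mem _, (mul_zero _).symm⟩ hf

theorem piDvd_one_sub (hn : 0 < n) (hpn : p ∣ n) (x : ZMod p) :
    PiDvd n p (1 - (ZMod.stdAddChar x : ℂ)) := by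
  refine ⟨∑ i ∈ Finset.range x.val, (ZMod.stdAddChar (1 : ZMod p) : ℂ) ^ i,
    Subring.sum_mem _ fun i _ => pow_mem (stdAddChar_mem hn hpn 1) i, ?_⟩
  rw [mul_neg_geom_sum, ← AddChar.map_nsmul_eq_pow, nsmul_one, ZMod.natCast_zmod_val]

theorem piDvd_natCast (hn : 0 < n) (hpn : p ∣ n) {m : ℕ} (hm : p ∣ m) : PiDvd n p (m : ℂ) := by
  obtain ⟨k, rfl⟩ := hm
  rw [Nat.cast_mul]
  refine PiDvd.mul_right ?_ (natCast_mem_cycInt k)
  have h := AddChar.sum_eq_zero_of_ne_one (ψ := (ZMod.stdAddChar : AddChar (ZMod p) ℂ)) (fun h1 => by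
    have h2 := congrArg (fun ψ : AddChar (ZMod p) ℂ => ψ 1) h1
    simp only [AddChar.one_apply] at h2
    exact one_ne_zero (ZMod.injective_stdAddChar (h2.trans (AddChar.map_zero_eq_one _).symm)))
  have : (p : ℂ) = ∑ x : ZMod p, (1 - (ZMod.stdAddChar x : ℂ)) := by
    rw [Finset.sum_sub_distrib, h, sub_zero]
    simp
  rw [this]
  exact PiDvd.sum _ _ fun x _ => piDvd_one_sub hn hpn x

/-- The only natural numbers divisible by `1 - ε` are the multiples of `p`. -/
theorem dvd_of_piDvd_natCast {m : ℕ} (h : PiDvd n p (m : ℂ)) : p ∣ m := by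
  by_contra hpm
  obtain ⟨r, hr, hmr⟩ := h
  set ε : ℂ := ZMod.stdAddChar (1 : ZMod p)
  have hεp : ε ^ p = 1 := stdAddChar_pow_eq_one dvd_rfl 1
  have hε : IsIntegral ℤ ε := IsIntegral.of_pow (Fact.out : p.Prime).pos (hεp ▸ isIntegral_one)
  let R := integralClosure ℤ ℂ
  obtain ⟨t, ht⟩ := exists_add_pow_prime_eq (Fact.out : p.Prime)
    (⟨1 - ε, isIntegral_one.sub hε⟩ : R) ⟨ε, hε⟩
  have ht' : (1 - ε + ε) ^ p = (1 - ε) ^ p + ε ^ p + (p : ℂ) * (1 - ε) * ε * (t : ℂ) := by
    simpa using congrArg Subtype.val ht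
  rw [sub_add_cancel, one_pow, hεp] at ht'
  have hkey : ((m ^ p : ℕ) : ℂ) / (p : ℂ) = -((1 - ε) * ε * (t : ℂ)) * r ^ p := by
    rw [div_eq_iff (Nat.cast_ne_zero.mpr (Fact.out : p.Prime).ne_zero), Nat.cast_pow, hmr, mul_pow]
    linear_combination -(r ^ p) * ht'
  refine hpm ((Fact.out : p.Prime).dvd_of_dvd_pow
    (CfsgLib.Char.dvd_of_isIntegral_natCast_div (n := m ^ p) (Fact.out : p.Prime).ne_zero ?_))
  rw [hkey]
  exact ((((isIntegral_one.sub hε).mul hε).mul t.2).neg).mul (hr.1.pow p)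

variable {C : Type u} [Group C] [Fintype C] {U : Type w} [AddCommGroup U] [Module (ZMod p) U]
  [Finite U]

/-- The existence of a virtual character with squared absolute values `|U : C_U(c)|` which is
divisible by `1 - ε` off the kernel. -/
def GoodTheta (n : ℕ) (ρ : Representation (ZMod p) C U) : Prop :=
  ∃ θ : C → ℂ, IntVirt n θ ∧ θ 1 = 1 ∧ ∀ c,
    θ c * conj (θ c) * (Nat.card {u : U // ρ c u = u} : ℂ) = Nat.card U ∧
    ((∃ u, ρ c u ≠ u) → PiDvd n p (θ c))

omit [Finite U] in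
theorem goodTheta_of_trivial (ρ : Representation (ZMod p) C U) (h : ∀ c u, ρ c u = u) :
    GoodTheta n ρ :=
  ⟨fun _ => 1, IntVirt.const (one_mem _), rfl, fun c => ⟨by
    rw [map_one, one_mul, one_mul]
    exact_mod_cast Nat.card_congr (Equiv.subtypeUnivEquiv (h c)),
    fun ⟨u, hu⟩ => absurd (h c u) hu⟩⟩

theorem goodTheta_of_mul_eq (hn : 0 < n) (hC : Nat.card C ∣ n) (hpC : ¬ p ∣ Nat.card C)
    (ρ : Representation (ZMod p) C U) {b θ : C → ℂ} (hb : IntVirt n b) {a : ℂ} (ha : a ∈ cycInt n)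
    (haa : a * conj a = (Nat.card U : ℂ)) (hθv : ∀ c, θ c ∈ cycInt n)
    (hmul : ∀ c, θ c * b c = a)
    (hbb : ∀ c, b c * conj (b c) = (Nat.card {u : U // ρ c u = u} : ℂ))
    (hone : θ 1 = 1)
    (hdvd : ∀ c, (∃ u, ρ c u ≠ u) → PiDvd n p (θ c)) : GoodTheta n ρ := by
  have : Module.Finite (ZMod p) U := Module.Finite.of_finite
  have hpow : ∀ c, ∃ k, Nat.card {u : U // ρ c u = u} = p ^ k := fun c => by
    refine ⟨Module.finrank (ZMod p) (LinearMap.ker (ρ c - 1)), ?_⟩
    rw [show Nat.card {u : U // ρ c u = u} = Nat.card (LinearMap.ker (ρ c - 1)) from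
      Nat.card_congr (Equiv.subtypeEquivRight fun u => by simp [sub_eq_zero]),
      Module.natCard_eq_pow_finrank (K := ZMod p), Nat.card_zmod]
  have hb0 : ∀ c, b c ≠ 0 := fun c h0 => by
    have : Nonempty {u : U // ρ c u = u} := ⟨⟨0, map_zero _⟩⟩
    have h1 := hbb c
    rw [h0, zero_mul] at h1
    exact (Nat.card_pos (α := {u : U // ρ c u = u})).ne' (Nat.cast_eq_zero.mp h1.symm)
  have hcl : Cfsg.IsClassFunction C θ := fun g x => by
    refine mul_right_cancel₀ (hb0 g) ?_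
    rw [hmul g]
    conv_lhs => rw [← hb.1 g x, hmul]
  refine ⟨θ, IntVirt.of_mul_eq_const hn hC Fact.out hpC hb hcl hθv ha hmul (fun c => ?_),
    hone, fun c => ⟨?_, hdvd c⟩⟩
  · obtain ⟨k, hk⟩ := hpow c
    exact ⟨k, by rw [hbb, hk, Nat.cast_pow]⟩
  · rw [← haa, ← hbb, ← hmul c, map_mul]
    ring

theorem gauss_norm {K : Type*} [AddCommGroup K] [Module (ZMod p) K] [Fintype K] (hp2 : p ≠ 2)
    (β : LinearMap.BilinForm (ZMod p) K) (hsym : ∀ u w, β u w = β w u)
    (hnd : ∀ u, (∀ w, β u w = 0) → u = 0) :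
    (∑ u, (ZMod.stdAddChar (β u u) : ℂ)) * conj (∑ u, (ZMod.stdAddChar (β u u) : ℂ)) =
      Fintype.card K := by
  classical
  rw [map_sum, Finset.sum_mul_sum, Finset.sum_comm]
  have h1 : ∀ w, ∑ u, (ZMod.stdAddChar (β u u) : ℂ) * conj (ZMod.stdAddChar (β w w) : ℂ) =
      ∑ t, (ZMod.stdAddChar (β t t) : ℂ) * (ZMod.stdAddChar (2 * β t w) : ℂ) := fun w => by
    refine (Fintype.sum_equiv (Equiv.addRight w) _ _ fun t => ?_).symm
    rw [conj_stdAddChar, ← AddChar.map_add_eq_mul, ← AddChar.map_add_eq_mul, Equiv.coe_addRight]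
    congr 1
    simp only [map_add, LinearMap.add_apply, hsym w t]
    ring
  simp only [h1]
  rw [Finset.sum_comm]
  have h2 : ∀ t, ∑ w, (ZMod.stdAddChar (2 * β t w) : ℂ) = if t = 0 then (Fintype.card K : ℂ) else 0 := by
    intro t
    split_ifs with ht
    · subst ht
      simp
    · let ψ : AddChar K ℂ :=
        { toFun := fun w => ZMod.stdAddChar (2 * β t w)
          map_zero_eq_one' := by simp
          map_add_eq_mul' := fun a b => by rw [map_add, mul_add, AddChar.map_add_eq_mul] }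
      refine AddChar.sum_eq_zero_of_ne_one (ψ := ψ) fun h => ht (hnd t fun w => ?_)
      have h3 : (ZMod.stdAddChar (2 * β t w) : ℂ) = ZMod.stdAddChar (0 : ZMod p) := by
        rw [AddChar.map_zero_eq_one]
        exact congrArg (fun ψ : AddChar K ℂ => ψ w) h
      refine (mul_eq_zero.mp (ZMod.injective_stdAddChar h3)).resolve_left fun h2 => hp2 ?_
      have h4 : ((2 : ℕ) : ZMod p) = 0 := by exact_mod_cast h2
      exact (Nat.prime_dvd_prime_iff_eq Fact.out Nat.prime_two).mp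
        ((ZMod.natCast_eq_zero_iff 2 p).mp h4)
  simp only [← Finset.mul_sum, h2]
  rw [Finset.sum_eq_single 0 (fun t _ ht => by rw [if_neg ht, mul_zero])
    (fun h => absurd (Finset.mem_univ _) h)]
  simp

theorem gauss_mem (hn : 0 < n) (hpn : p ∣ n) {K : Type*} [Fintype K] (f : K → ZMod p) :
    (∑ u, (ZMod.stdAddChar (f u) : ℂ)) ∈ cycInt n :=
  Subring.sum_mem _ fun u _ => stdAddChar_mem hn hpn _

omit [Fintype C] [Finite U] in
theorem mem_fix_iff (ρ : Representation (ZMod p) C U) (c : C) (u : U) :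
    u ∈ LinearMap.ker (ρ c - 1) ↔ ρ c u = u := by
  simp [sub_eq_zero]

omit [Fintype C] [Finite U] in
theorem fix_orth (ρ : Representation (ZMod p) C U) (β : LinearMap.BilinForm (ZMod p) U)
    (hinv : ∀ c u w, β (ρ c u) (ρ c w) = β u w) {c : C} {f x : U}
    (hf : f ∈ LinearMap.ker (ρ c - 1)) (hx : x ∈ LinearMap.range (ρ c - 1)) : β f x = 0 := by
  obtain ⟨y, rfl⟩ := hx
  simp only [LinearMap.sub_apply, Module.End.one_apply, map_sub]
  conv_lhs => arg 1; arg 1; rw [← (mem_fix_iff ρ c f).mp hf]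
  rw [hinv, sub_self]

theorem fix_isCompl (hpC : ¬ p ∣ Nat.card C) (ρ : Representation (ZMod p) C U) (c : C) :
    IsCompl (LinearMap.ker (ρ c - 1)) (LinearMap.range (ρ c - 1)) := by
  have : Module.Finite (ZMod p) U := Module.Finite.of_finite
  have hdisj : Disjoint (LinearMap.ker (ρ c - 1)) (LinearMap.range (ρ c - 1)) := by
    rw [Submodule.disjoint_def]
    rintro x hx ⟨y, hy⟩
    have hpow : ∀ k : ℕ, (ρ c ^ k) y = y + k • x := by
      intro k
      induction k with
      | zero => simp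
      | succ k ih =>
        rw [pow_succ', Module.End.mul_apply, ih, map_add, map_nsmul, (mem_fix_iff ρ c x).mp hx,
          succ_nsmul', ← add_assoc]
        congr 1
        rw [← hy]
        simp
    have h := hpow (Nat.card C)
    rw [← map_pow, pow_card_eq_one', map_one, Module.End.one_apply, left_eq_add,
      ← Nat.cast_smul_eq_nsmul (ZMod p)] at h
    exact (smul_eq_zero.mp h).resolve_left fun h0 => hpC ((ZMod.natCast_eq_zero_iff _ _).mp h0)
  refine ⟨hdisj, codisjoint_iff.mpr (Submodule.eq_top_of_finrank_eq ?_)⟩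
  have h1 := Submodule.finrank_sup_add_finrank_inf_eq (LinearMap.ker (ρ c - 1))
    (LinearMap.range (ρ c - 1))
  rw [hdisj.eq_bot, finrank_bot, add_zero] at h1
  rw [h1, add_comm]
  exact LinearMap.finrank_range_add_finrank_ker (ρ c - 1)

theorem fix_nondeg (hpC : ¬ p ∣ Nat.card C) (ρ : Representation (ZMod p) C U)
    (β : LinearMap.BilinForm (ZMod p) U) (hinv : ∀ c u w, β (ρ c u) (ρ c w) = β u w)
    (hnd : ∀ u, (∀ w, β u w = 0) → u = 0) (c : C) {u : U} (hu : u ∈ LinearMap.ker (ρ c - 1))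
    (h : ∀ w ∈ LinearMap.ker (ρ c - 1), β u w = 0) : u = 0 := by
  refine hnd u fun w => ?_
  obtain ⟨⟨f, x⟩, rfl⟩ := (Submodule.prodEquivOfIsCompl _ _ (fix_isCompl hpC ρ c)).surjective w
  rw [Submodule.coe_prodEquivOfIsCompl', map_add, fix_orth ρ β hinv hu x.2, add_zero]
  exact h f f.2

/-- The symmetric case. -/
theorem goodTheta_of_symmetric (hn : 0 < n) (hC : Nat.card C ∣ n) (hpn : p ∣ n)
    (hpC : ¬ p ∣ Nat.card C) (hp2 : p ≠ 2) (ρ : Representation (ZMod p) C U)
    (β : LinearMap.BilinForm (ZMod p) U) (hinv : ∀ c u w, β (ρ c u) (ρ c w) = β u w)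
    (hsym : ∀ u w, β u w = β w u) (hnd : ∀ u, (∀ w, β u w = 0) → u = 0) : GoodTheta n ρ := by
  classical
  let : Fintype U := Fintype.ofFinite U
  have : Module.Finite (ZMod p) U := Module.Finite.of_finite
  let F : C → Submodule (ZMod p) U := fun c => LinearMap.ker (ρ c - 1)
  let W : C → Submodule (ZMod p) U := fun c => LinearMap.range (ρ c - 1)
  have hFmem : ∀ c u, u ∈ F c ↔ ρ c u = u := fun c u => by simp [F, sub_eq_zero]
  have horth : ∀ c f x, f ∈ F c → x ∈ W c → β f x = 0 := fun c f x hf hx =>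
    fix_orth ρ β hinv hf hx
  have hcompl : ∀ c, IsCompl (F c) (W c) := fix_isCompl hpC ρ
  let b : C → ℂ := fun c => ∑ u : F c, (ZMod.stdAddChar (β (u : U) u) : ℂ)
  let θ : C → ℂ := fun c => ∑ u : W c, (ZMod.stdAddChar (β (u : U) u) : ℂ)
  refine goodTheta_of_mul_eq hn hC hpC ρ (b := b) (θ := θ) ?_ (gauss_mem hn hpn fun u => β u u)
    (by rw [gauss_norm hp2 β hsym hnd, Nat.card_eq_fintype_card]) (fun c => gauss_mem hn hpn _)
    (fun c => ?_) (fun c => ?_) ?_ (fun c hc => ?_)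
  · -- `b` is a combination of permutation characters
    let act : ∀ a : ZMod p, MulAction C {w : U // β w w = a} := fun a =>
      { smul := fun c w => ⟨ρ c w, by rw [hinv, w.2]⟩
        one_smul := fun w => Subtype.ext (by
          change ρ 1 (w : U) = w
          rw [map_one, Module.End.one_apply])
        mul_smul := fun c d w => Subtype.ext (by
          change ρ (c * d) (w : U) = ρ c (ρ d (w : U))
          rw [map_mul, Module.End.mul_apply]) }
    let π : ZMod p → C → ℂ := fun a => letI := act a; CfsgLib.PermChar.piFun C {w : U // β w w = a}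
    have hπ : ∀ a, IntVirt n (π a) := fun a =>
      letI := act a
      IntVirt.of_isCharacter CfsgLib.PermChar.isCharacter_piFun
    have hb : b = ∑ a : ZMod p, (ZMod.stdAddChar a : ℂ) • π a := by
      funext c
      rw [Finset.sum_apply]
      simp only [Pi.smul_apply, smul_eq_mul]
      change ∑ u : F c, _ = _
      rw [← Finset.sum_fiberwise Finset.univ (fun u : F c => β (u : U) u)]
      refine Finset.sum_congr rfl fun a _ => ?_
      rw [Finset.sum_congr rfl (g := fun _ => (ZMod.stdAddChar a : ℂ)) fun u hu => by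
        rw [(Finset.mem_filter.mp hu).2], Finset.sum_const, nsmul_eq_mul, mul_comm]
      congr 1
      let := act a
      change _ = (Nat.card (MulAction.fixedBy {w : U // β w w = a} c) : ℂ)
      rw [← Fintype.card_subtype, ← Nat.card_eq_fintype_card]
      exact_mod_cast Nat.card_congr (α := {u : F c // β (u : U) u = a})
        (β := MulAction.fixedBy {w : U // β w w = a} c)
        { toFun := fun u => ⟨⟨u.1.1, u.2⟩, Subtype.ext ((hFmem c u.1.1).mp u.1.2)⟩
          invFun := fun u => ⟨⟨u.1.1, (hFmem c _).mpr (congrArg Subtype.val u.2)⟩, u.1.2⟩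
          left_inv := fun u => rfl
          right_inv := fun u => rfl }
    rw [hb]
    exact IntVirt.sum _ fun a _ => (hπ a).smul (stdAddChar_mem hn hpn a)
  · simp only [θ, b]
    rw [Finset.sum_mul_sum, Finset.sum_comm, ← Fintype.sum_prod_type']
    refine Fintype.sum_equiv (Submodule.prodEquivOfIsCompl _ _ (hcompl c)).toEquiv _ _ fun z => ?_
    rw [← AddChar.map_add_eq_mul]
    congr 1
    simp only [LinearEquiv.coe_toEquiv, Submodule.coe_prodEquivOfIsCompl', map_add, LinearMap.add_apply,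
      horth c _ _ z.1.2 z.2.2, hsym (z.2 : U) (z.1 : U)]
    ring
  · rw [show Nat.card {u : U // ρ c u = u} = Fintype.card (F c) by
      rw [← Nat.card_eq_fintype_card]
      exact Nat.card_congr (Equiv.subtypeEquivRight fun u => (hFmem c u).symm)]
    refine gauss_norm hp2 (β.compl₁₂ (F c).subtype (F c).subtype) (fun u w => hsym _ _) fun u hu => ?_
    exact Subtype.ext (fix_nondeg hpC ρ β hinv hnd c u.2 fun w hw => hu ⟨w, hw⟩)
  · have hW : ∀ u : W 1, u = 0 := fun u => Subtype.ext (by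
      obtain ⟨y, hy⟩ := u.2
      rw [← hy]
      simp)
    change ∑ u : W 1, _ = _
    rw [Fintype.sum_eq_single 0 fun u hu => absurd (hW u) hu]
    simp
  · have hne : W c ≠ ⊥ := by
      obtain ⟨u, hu⟩ := hc
      rw [Submodule.ne_bot_iff]
      exact ⟨_, ⟨u, rfl⟩, by simpa [sub_eq_zero] using hu⟩
    have hcard : p ∣ Fintype.card (W c) := by
      rw [← Nat.card_eq_fintype_card, Module.natCard_eq_pow_finrank (K := ZMod p), Nat.card_zmod]
      exact dvd_pow_self p fun h => hne (Submodule.finrank_eq_zero.mp h)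
    have : θ c = (∑ u : W c, (1 - (ZMod.stdAddChar (β (u : U) u) : ℂ))) * (-1) +
        (Fintype.card (W c) : ℂ) := by
      rw [Finset.sum_sub_distrib]
      simp [θ]
    rw [this]
    exact ((PiDvd.sum _ _ fun u _ => piDvd_one_sub hn hpn _).mul_right (neg_mem (one_mem _))).add
      (piDvd_natCast hn hpn hcard)

end CfsgLib.KGV
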