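import Cfsg.Agent.Lib.KGV.GaloisMean
import Cfsg.Agent.Lib.Char.Complete
import Cfsg.Agent.Lib.Char.CentralOver
import Cfsg.Agent.Lib.Char.Virtual
import Mathlib.NumberTheory.Cyclotomic.Basic
import Mathlib.RingTheory.Localization.Integral

/-!
# Virtual characters with integral cyclotomic coefficients

`cycInt n` is the ring of algebraic integers in the `n`-th cyclotomic subfield of `ℂ`.
-/

set_option autoImplicit false

open Polynomial
open scoped ComplexConjugate IntermediateField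

namespace CfsgLib.KGV

universe u v

/-- The standard primitive `n`-th root of unity. -/
noncomputable def stdRoot (n : ℕ) : ℂ := Complex.exp (2 * Real.pi * Complex.I / n)

/-- The algebraic integers in the `n`-th cyclotomic subfield of `ℂ`. -/
noncomputable def cycInt (n : ℕ) : Subring ℂ :=
  (integralClosure ℤ ℂ).toSubring ⊓ (ℚ⟮stdRoot n⟯).toSubring

variable {n : ℕ}

theorem stdRoot_prim (hn : 0 < n) : IsPrimitiveRoot (stdRoot n) n :=
  Complex.isPrimitiveRoot_exp n hn.ne'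

theorem mem_cycInt {x : ℂ} : x ∈ cycInt n ↔ IsIntegral ℤ x ∧ x ∈ ℚ⟮stdRoot n⟯ := Iff.rfl

theorem mem_cycInt_of_pow_eq_one (hn : 0 < n) {x : ℂ} (hx : x ^ n = 1) : x ∈ cycInt n := by
  have : NeZero n := ⟨hn.ne'⟩
  obtain ⟨i, -, rfl⟩ := (stdRoot_prim hn).eq_pow_of_pow_eq_one hx
  exact ⟨((stdRoot_prim hn).isIntegral hn).pow i,
    pow_mem (IntermediateField.mem_adjoin_simple_self ℚ _) i⟩

theorem natCast_mem_cycInt (m : ℕ) : (m : ℂ) ∈ cycInt n := natCast_mem _ m

theorem mem_field_iff (hn : 0 < n) {x : ℂ} :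
    x ∈ ℚ⟮stdRoot n⟯ ↔ ∃ Q : ℚ[X], aeval (stdRoot n) Q = x := by
  rw [← IntermediateField.mem_toSubalgebra,
    IntermediateField.adjoin_simple_toSubalgebra_of_isAlgebraic
      ((stdRoot_prim hn).isIntegral hn).tower_top.isAlgebraic,
    Algebra.adjoin_singleton_eq_range_aeval, AlgHom.mem_range]

theorem conj_stdRoot (hn : 0 < n) : conj (stdRoot n) = stdRoot n ^ (n - 1) := by
  have h := (stdRoot_prim hn).pow_eq_one
  rw [← Complex.inv_eq_conj (Complex.norm_eq_one_of_pow_eq_one h hn.ne')]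
  refine inv_eq_of_mul_eq_one_right ?_
  rw [← pow_succ', Nat.sub_add_cancel hn, h]

theorem conj_aeval (Q : ℚ[X]) (z : ℂ) : conj (aeval z Q) = aeval (conj z) Q := by
  simp only [aeval_def, Polynomial.hom_eval₂]
  congr 1
  ext q
  simp

theorem conj_mem_cycInt (hn : 0 < n) {x : ℂ} (hx : x ∈ cycInt n) : conj x ∈ cycInt n := by
  refine ⟨hx.1.map ((starRingEnd ℂ).toIntAlgHom), ?_⟩
  obtain ⟨Q, rfl⟩ := (mem_field_iff hn).mp hx.2
  exact (mem_field_iff hn).mpr ⟨Q.comp (X ^ (n - 1)), by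
    rw [aeval_comp, map_pow, aeval_X, ← conj_stdRoot hn, conj_aeval]⟩

/-- An element of the field that becomes integral after multiplication by two coprime numbers. -/
theorem mem_cycInt_of_coprime {a b : ℕ} (hab : a.Coprime b) {x : ℂ} (ha : (a : ℂ) * x ∈ cycInt n)
    (hb : (b : ℂ) * x ∈ cycInt n) : x ∈ cycInt n := by
  have h := Nat.gcd_eq_gcd_ab a b
  rw [hab.gcd_eq_one] at h
  have h' : x = (a.gcdA b : ℂ) * ((a : ℂ) * x) + (a.gcdB b : ℂ) * ((b : ℂ) * x) := by
    have h2 : (1 : ℂ) = (a : ℂ) * (a.gcdA b : ℂ) + (b : ℂ) * (a.gcdB b : ℂ) := by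
      exact_mod_cast h
    calc x = 1 * x := (one_mul x).symm
      _ = _ := by rw [h2]; ring
  rw [h']
  exact add_mem (mul_mem (intCast_mem _ _) ha) (mul_mem (intCast_mem _ _) hb)

/-- Nonzero cyclotomic integers whose absolute squares add up to a rational number `r` are at most
`r` in number. -/
theorem card_le_of_sum_mul_conj (hn : 0 < n) {ι : Type*} (s : Finset ι) (a : ι → ℂ)
    (ha : ∀ i ∈ s, a i ∈ cycInt n) (hne : ∀ i ∈ s, a i ≠ 0) (r : ℚ)
    (hsum : ∑ i ∈ s, a i * conj (a i) = (r : ℂ)) : (s.card : ℝ) ≤ (r : ℝ) := by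
  classical
  set ζ := stdRoot n with hζdef
  have hζ := stdRoot_prim hn
  have hex : ∀ i, ∃ Q : ℚ[X], i ∈ s → aeval ζ Q = a i := fun i => by
    by_cases hi : i ∈ s
    · exact ((mem_field_iff hn).mp (ha i hi).2).imp fun Q hQ _ => hQ
    · exact ⟨0, fun h => absurd h hi⟩
  choose Q hQ using hex
  have hroot : ∀ (R : ℚ[X]), aeval ζ R = 0 → ∀ w ∈ primitiveRoots n ℂ, aeval w R = 0 := by
    intro R hR w hw
    have hd := minpoly.dvd ℚ ζ hR
    rw [← cyclotomic_eq_minpoly_rat hζ hn,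
      cyclotomic_eq_minpoly_rat ((mem_primitiveRoots hn).mp hw) hn] at hd
    obtain ⟨S, rfl⟩ := hd
    rw [map_mul, minpoly.aeval, zero_mul]
  have hconj : ∀ w ∈ primitiveRoots n ℂ, ∀ i, conj (aeval w (Q i)) = aeval w ((Q i).comp (X ^ (n - 1))) := by
    intro w hw i
    have h := ((mem_primitiveRoots hn).mp hw).pow_eq_one
    have hc : conj w = w ^ (n - 1) := by
      rw [← Complex.inv_eq_conj (Complex.norm_eq_one_of_pow_eq_one h hn.ne')]
      refine inv_eq_of_mul_eq_one_right ?_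
      rw [← pow_succ', Nat.sub_add_cancel hn, h]
    rw [aeval_comp, map_pow, aeval_X, ← hc, conj_aeval]
  have hsame : ∀ w ∈ primitiveRoots n ℂ, ∑ i ∈ s, ‖aeval w (Q i)‖ ^ 2 = (r : ℝ) := by
    intro w hw
    have hζmem : ζ ∈ primitiveRoots n ℂ := (mem_primitiveRoots hn).mpr hζ
    have h0 := hroot (∑ i ∈ s, Q i * (Q i).comp (X ^ (n - 1)) - C r) (by
      rw [map_sub, map_sum, aeval_C, sub_eq_zero]
      refine Eq.trans ?_ (hsum.trans (eq_ratCast (algebraMap ℚ ℂ) r).symm)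
      refine Finset.sum_congr rfl fun i hi => ?_
      rw [map_mul, ← hconj ζ hζmem, hQ i hi]) w hw
    rw [map_sub, map_sum, aeval_C, sub_eq_zero] at h0
    have h1 : ((∑ i ∈ s, ‖aeval w (Q i)‖ ^ 2 : ℝ) : ℂ) = ((r : ℝ) : ℂ) := by
      push_cast
      rw [← eq_ratCast (algebraMap ℚ ℂ) r, ← h0]
      refine Finset.sum_congr rfl fun i _ => ?_
      rw [map_mul, ← hconj w hw, Complex.mul_conj']
    exact_mod_cast h1
  have hone : ∀ i ∈ s, ((primitiveRoots n ℂ).card : ℝ) ≤
      ∑ w ∈ primitiveRoots n ℂ, ‖aeval w (Q i)‖ ^ 2 := by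
    intro i hi
    have hw0 : ∀ w ∈ primitiveRoots n ℂ, aeval w (Q i) ≠ 0 := by
      intro w hw h0
      have hd := minpoly.dvd ℚ w h0
      rw [← cyclotomic_eq_minpoly_rat ((mem_primitiveRoots hn).mp hw) hn,
        cyclotomic_eq_minpoly_rat hζ hn] at hd
      obtain ⟨S, hS⟩ := hd
      refine hne i hi ?_
      rw [← hQ i hi, hS, map_mul, minpoly.aeval, zero_mul]
    have hwint : ∀ w ∈ primitiveRoots n ℂ, IsIntegral ℤ (aeval w (Q i)) := by
      intro w hw
      obtain ⟨h, hmon, hh⟩ := (ha i hi).1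
      refine ⟨h, hmon, ?_⟩
      have h0 := hroot ((h.map (algebraMap ℤ ℚ)).comp (Q i)) (by
        rw [aeval_comp, hQ i hi, aeval_map_algebraMap]
        exact hh) w hw
      rw [aeval_comp, aeval_map_algebraMap] at h0
      exact h0
    refine card_le_sum_of_one_le_prod _ _
      (fun w hw => pow_pos (norm_pos_iff.mpr (hw0 w hw)) 2) ?_
    obtain ⟨N, hN, hNQ⟩ := IsLocalization.integerNormalization_spec (nonZeroDivisors ℤ) (Q i)
    obtain ⟨z, hz⟩ := exists_int_prod_aeval hn (IsLocalization.integerNormalization (nonZeroDivisors ℤ) (Q i))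
    have hN0 : (N : ℂ) ≠ 0 := Int.cast_ne_zero.mpr (nonZeroDivisors.ne_zero hN)
    have hval : ∀ w : ℂ, aeval w (IsLocalization.integerNormalization (nonZeroDivisors ℤ) (Q i)) =
        (N : ℂ) * aeval w (Q i) := fun w => by
      have := congrArg (aeval w) hNQ
      rw [aeval_map_algebraMap] at this
      rw [this, map_zsmul, zsmul_eq_mul]
    rw [Finset.prod_congr rfl fun w _ => hval w, Finset.prod_mul_distrib, Finset.prod_const] at hz
    set q : ℚ := (z : ℚ) / (N : ℚ) ^ (primitiveRoots n ℂ).card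
    have hq : ∏ w ∈ primitiveRoots n ℂ, aeval w (Q i) = (q : ℂ) := by
      simp only [q, Rat.cast_div, Rat.cast_pow, Rat.cast_intCast]
      rw [← hz, mul_div_cancel_left₀ _ (pow_ne_zero _ hN0)]
    obtain ⟨m, hm⟩ := CfsgLib.Char.exists_int_of_isIntegral_ratCast
      (hq ▸ IsIntegral.prod _ hwint)
    have hm0 : m ≠ 0 := by
      rintro rfl
      rw [Int.cast_zero] at hm
      rw [← hm, Rat.cast_zero] at hq
      exact (Finset.prod_ne_zero_iff.mpr hw0) hq
    rw [Finset.prod_pow, ← norm_prod, hq, ← hm, Rat.cast_intCast, Complex.norm_intCast]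
    exact one_le_pow₀ (by exact_mod_cast Int.one_le_abs hm0)
  have hphi : (0 : ℝ) < ((primitiveRoots n ℂ).card : ℝ) := by
    exact_mod_cast Finset.card_pos.mpr ⟨ζ, (mem_primitiveRoots hn).mpr hζ⟩
  refine le_of_mul_le_mul_right ?_ hphi
  calc (s.card : ℝ) * ((primitiveRoots n ℂ).card : ℝ)
      = ∑ i ∈ s, ((primitiveRoots n ℂ).card : ℝ) := by rw [Finset.sum_const, nsmul_eq_mul]
    _ ≤ ∑ i ∈ s, ∑ w ∈ primitiveRoots n ℂ, ‖aeval w (Q i)‖ ^ 2 := Finset.sum_le_sum hone
    _ = (r : ℝ) * ((primitiveRoots n ℂ).card : ℝ) := by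
      rw [Finset.sum_comm, Finset.sum_congr rfl hsame, Finset.sum_const, nsmul_eq_mul, mul_comm]

variable {C : Type u} [Group C] [Fintype C]

/-- Class functions with coefficients in `cycInt n`. -/
def IntVirt (n : ℕ) (f : C → ℂ) : Prop :=
  Cfsg.IsClassFunction C f ∧ ∀ ξ : Cfsg.IrrCharacter C, Cfsg.classInner f (ξ : C → ℂ) ∈ cycInt n

theorem character_mem_cycInt (hn : 0 < n) {χ : C → ℂ} (hχ : Cfsg.IsCharacter C χ) (g : C)
    (hg : g ^ n = 1) : χ g ∈ cycInt n := by
  obtain ⟨d, ρ, rfl⟩ := hχ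
  obtain ⟨μ, hμ, -, -, hpow⟩ := CfsgLib.Char.exists_eigenvalues ρ g
  have h := hpow 1
  simp only [pow_one] at h
  rw [h]
  refine Subring.sum_mem _ fun i _ => mem_cycInt_of_pow_eq_one hn ?_
  obtain ⟨c, hc⟩ := orderOf_dvd_of_pow_eq_one hg
  rw [hc, pow_mul, hμ, one_pow]

omit [Fintype C] in
theorem pow_eq_one_of_card_dvd (hC : Nat.card C ∣ n) (g : C) : g ^ n = 1 := by
  obtain ⟨c, rfl⟩ := hC
  rw [pow_mul, pow_card_eq_one', one_pow]

theorem IntVirt.of_isCharacter {χ : C → ℂ} (hχ : Cfsg.IsCharacter C χ) : IntVirt n χ :=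
  ⟨CfsgLib.Char.IsCharacter.isClassFunction hχ, fun ξ => by
    obtain ⟨m, hm⟩ := CfsgLib.Char.IsCharacter.exists_nat_classInner hχ ξ.2
    rw [hm]
    exact natCast_mem_cycInt m⟩

theorem IntVirt.smul {f : C → ℂ} (hf : IntVirt n f) {x : ℂ} (hx : x ∈ cycInt n) :
    IntVirt n (x • f) :=
  ⟨fun g y => by simp only [Pi.smul_apply, hf.1 g y], fun ξ => by
    rw [CfsgLib.Char.classInner_smul_left]
    exact mul_mem hx (hf.2 ξ)⟩

theorem IntVirt.const {x : ℂ} (hx : x ∈ cycInt n) : IntVirt n (fun _ : C => x) := by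
  have h := (IntVirt.of_isCharacter (n := n) (CfsgLib.Char.isCharacter_one (G := C))).smul hx
  rwa [show x • (1 : C → ℂ) = fun _ => x from funext fun g => by simp] at h

theorem IntVirt.add {f g : C → ℂ} (hf : IntVirt n f) (hg : IntVirt n g) : IntVirt n (f + g) :=
  ⟨fun a b => by simp only [Pi.add_apply, hf.1 a b, hg.1 a b], fun ξ => by
    rw [CfsgLib.Char.classInner_add_left]
    exact add_mem (hf.2 ξ) (hg.2 ξ)⟩

theorem IntVirt.sub {f g : C → ℂ} (hf : IntVirt n f) (hg : IntVirt n g) : IntVirt n (f - g) :=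
  ⟨fun a b => by simp only [Pi.sub_apply, hf.1 a b, hg.1 a b], fun ξ => by
    rw [CfsgLib.Char.classInner_sub_left]
    exact sub_mem (hf.2 ξ) (hg.2 ξ)⟩

theorem IntVirt.sum {ι : Type*} (s : Finset ι) {f : ι → C → ℂ} (hf : ∀ i ∈ s, IntVirt n (f i)) :
    IntVirt n (∑ i ∈ s, f i) :=
  ⟨fun a b => by
    simp only [Finset.sum_apply]
    exact Finset.sum_congr rfl fun i hi => (hf i hi).1 a b, fun ξ => by
    rw [CfsgLib.Char.classInner_sum_left]
    exact Subring.sum_mem _ fun i hi => (hf i hi).2 ξ⟩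

theorem IntVirt.mul {f g : C → ℂ} (hf : IntVirt n f) (hg : IntVirt n g) : IntVirt n (f * g) := by
  classical
  let : Fintype (Cfsg.IrrCharacter C) := Fintype.ofFinite _
  refine ⟨fun a b => by simp only [Pi.mul_apply, hf.1 a b, hg.1 a b], fun ξ => ?_⟩
  have hexp : f * g = ∑ a : Cfsg.IrrCharacter C, ∑ b : Cfsg.IrrCharacter C,
      (Cfsg.classInner f (a : C → ℂ) * Cfsg.classInner g (b : C → ℂ)) • ((a : C → ℂ) * (b : C → ℂ)) := by
    conv_lhs => rw [CfsgLib.Char.IsClassFunction.eq_sum_classInner hf.1,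
      CfsgLib.Char.IsClassFunction.eq_sum_classInner hg.1]
    rw [Finset.sum_mul_sum]
    exact Finset.sum_congr rfl fun a _ => Finset.sum_congr rfl fun b _ => smul_mul_smul_comm ..
  rw [hexp, CfsgLib.Char.classInner_sum_left]
  refine Subring.sum_mem _ fun a _ => ?_
  rw [CfsgLib.Char.classInner_sum_left]
  refine Subring.sum_mem _ fun b _ => ?_
  rw [CfsgLib.Char.classInner_smul_left]
  exact mul_mem (mul_mem (hf.2 a) (hg.2 b)) ((IntVirt.of_isCharacter
    (CfsgLib.Char.IsCharacter.mul (CfsgLib.Char.IsIrrCharacter.isCharacter a.2)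
      (CfsgLib.Char.IsIrrCharacter.isCharacter b.2))).2 ξ)

theorem IntVirt.apply_mem (hn : 0 < n) (hC : Nat.card C ∣ n) {f : C → ℂ} (hf : IntVirt n f) (g : C) :
    f g ∈ cycInt n := by
  classical
  let : Fintype (Cfsg.IrrCharacter C) := Fintype.ofFinite _
  rw [CfsgLib.Char.IsClassFunction.eq_sum_classInner hf.1, Finset.sum_apply]
  refine Subring.sum_mem _ fun ξ _ => ?_
  rw [Pi.smul_apply, smul_eq_mul]
  exact mul_mem (hf.2 ξ) (character_mem_cycInt hn (CfsgLib.Char.IsIrrCharacter.isCharacter ξ.2) g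
    (pow_eq_one_of_card_dvd hC g))

/-- A character restricted to a translate by a central element. -/
theorem IntVirt.slice (hn : 0 < n) {H : Type v} [Group H] [Finite H] {F : H → ℂ}
    (hF : Cfsg.IsCharacter H F) {z : H} (hz : z ∈ Subgroup.center H) (hzn : z ^ n = 1)
    (j : C →* H) : IntVirt n (fun c => F (z * j c)) := by
  classical
  let : Fintype H := Fintype.ofFinite H
  let : Fintype (Cfsg.IrrCharacter H) := Fintype.ofFinite _
  obtain ⟨m, hm⟩ := CfsgLib.Char.IsCharacter.exists_nat_combination hF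
  have hsc : ∀ ψ : Cfsg.IrrCharacter H, ∃ s ∈ cycInt n,
      ∀ h, (ψ : H → ℂ) (z * h) = s * (ψ : H → ℂ) h := by
    intro ψ
    obtain ⟨d, ρ, hρ, hρe⟩ := ψ.2
    obtain ⟨s, hs⟩ := CfsgLib.Char.exists_scalar_of_commute ρ (ρ z) fun h => by
      rw [← map_mul, ← map_mul, Subgroup.mem_center_iff.1 hz h]
    refine ⟨s, mem_cycInt_of_pow_eq_one hn ?_, fun h => ?_⟩
    · have hd := CfsgLib.Char.finrank_pos_of_isIrreducible ρ
      have hnt : Nontrivial (Fin d → ℂ) := Module.nontrivial_of_finrank_pos hd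
      have h1 : ρ (z ^ n) = (s ^ n) • (1 : Module.End ℂ (Fin d → ℂ)) := by
        rw [map_pow, hs, smul_pow, one_pow]
      rw [hzn, map_one] at h1
      exact smul_left_injective ℂ (one_ne_zero (α := Module.End ℂ (Fin d → ℂ)))
        (show s ^ n • (1 : Module.End ℂ (Fin d → ℂ)) = (1 : ℂ) • 1 by rw [← h1, one_smul])
    · rw [← hρe]
      simp [Representation.character, map_mul, hs]
  choose s hsR hs using hsc
  have hexp : (fun c => F (z * j c)) =
      ∑ ψ : Cfsg.IrrCharacter H, ((m ψ : ℂ) * s ψ) • ((ψ : H → ℂ) ∘ j) := by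
    funext c
    simp only [Finset.sum_apply, Pi.smul_apply, smul_eq_mul, Function.comp_apply, mul_assoc]
    conv_lhs => rw [hm]
    simp only [Finset.sum_apply, Pi.smul_apply, smul_eq_mul, hs]
  rw [hexp]
  exact IntVirt.sum _ fun ψ _ => (IntVirt.of_isCharacter (CfsgLib.Char.IsCharacter.comp
    (CfsgLib.Char.IsIrrCharacter.isCharacter ψ.2) j)).smul
      (mul_mem (natCast_mem_cycInt _) (hsR ψ))

/-- Division by a virtual character whose values are units outside `p`. -/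
theorem IntVirt.of_mul_eq_const (hn : 0 < n) (hC : Nat.card C ∣ n) {p : ℕ} (hp : p.Prime)
    (hpC : ¬ p ∣ Nat.card C) {b θ : C → ℂ} (hb : IntVirt n b) (hθ : Cfsg.IsClassFunction C θ)
    (hθv : ∀ c, θ c ∈ cycInt n) {a : ℂ} (ha : a ∈ cycInt n) (hmul : ∀ c, θ c * b c = a)
    (habs : ∀ c, ∃ k : ℕ, b c * conj (b c) = (p : ℂ) ^ k) : IntVirt n θ := by
  classical
  let : Fintype (ConjClasses C) := Fintype.ofFinite _
  let bK : ConjClasses C → ℂ := fun K => b K.out
  have hbK : ∀ c, bK (ConjClasses.mk c) = b c := fun c => by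
    obtain ⟨d, hd⟩ := isConj_iff.mp (ConjClasses.mk_eq_mk_iff_isConj.mp (Quotient.out_eq (ConjClasses.mk c)))
    change b (ConjClasses.mk c).out = b c
    rw [← hb.1 (ConjClasses.mk c).out d, hd]
  have hbKR : ∀ K, bK K ∈ cycInt n := fun K => hb.apply_mem hn hC _
  have hind : ∀ s : Finset (ConjClasses C), ∃ g, IntVirt n g ∧
      ∀ c, ∏ K ∈ s, (b c - bK K) = b c * g c + ∏ K ∈ s, (-bK K) := by
    intro s
    induction s using Finset.induction_on with
    | empty => exact ⟨fun _ => 0, IntVirt.const (zero_mem _), fun c => by simp⟩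
    | insert K s hK ih =>
      obtain ⟨g, hg, hgv⟩ := ih
      refine ⟨g * (b - fun _ => bK K) + fun _ => ∏ L ∈ s, (-bK L),
        (hg.mul (hb.sub (IntVirt.const (hbKR K)))).add
          (IntVirt.const (Subring.prod_mem _ fun L _ => neg_mem (hbKR L))), fun c => ?_⟩
      rw [Finset.prod_insert hK, Finset.prod_insert hK, hgv]
      simp only [Pi.add_apply, Pi.mul_apply, Pi.sub_apply]
      ring
  obtain ⟨g, hg, hgv⟩ := hind Finset.univ
  set P := ∏ K : ConjClasses C, (-bK K) with hPdef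
  have hPθ : ∀ c, θ c * P = -(a * g c) := fun c => by
    have h := hgv c
    rw [Finset.prod_eq_zero (Finset.mem_univ (ConjClasses.mk c)) (by rw [hbK, sub_self])] at h
    linear_combination -θ c * h - g c * hmul c
  choose k hk using habs
  have hP : P * conj P = ((p ^ ∑ K : ConjClasses C, k K.out : ℕ) : ℂ) := by
    rw [hPdef, map_prod, ← Finset.prod_mul_distrib, Nat.cast_pow, ← Finset.prod_pow_eq_pow_sum]
    exact Finset.prod_congr rfl fun K _ => by simp only [map_neg, neg_mul_neg, bK, hk]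
  set m := ∑ K : ConjClasses C, k K.out
  have hPR : conj P ∈ cycInt n :=
    conj_mem_cycInt hn (Subring.prod_mem _ fun K _ => neg_mem (hbKR K))
  have hpm : IntVirt n (((p ^ m : ℕ) : ℂ) • θ) := by
    have := hg.smul (x := -(conj P * a)) (neg_mem (mul_mem hPR ha))
    refine (show (-(conj P * a)) • g = ((p ^ m : ℕ) : ℂ) • θ from funext fun c => ?_) ▸ this
    rw [Pi.smul_apply, Pi.smul_apply, smul_eq_mul, smul_eq_mul, ← hP]
    linear_combination -conj P * hPθ c
  refine ⟨hθ, fun ξ => mem_cycInt_of_coprime (a := Nat.card C) (b := p ^ m)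
    (Nat.Coprime.pow_right m (hp.coprime_iff_not_dvd.mpr hpC).symm) ?_ ?_⟩
  · rw [Cfsg.classInner, mul_inv_cancel_left₀ (Nat.cast_ne_zero.mpr Nat.card_pos.ne')]
    exact Subring.sum_mem _ fun c _ => mul_mem (hθv c) (conj_mem_cycInt hn
      (character_mem_cycInt hn (CfsgLib.Char.IsIrrCharacter.isCharacter ξ.2) c
        (pow_eq_one_of_card_dvd hC c)))
  · rw [← CfsgLib.Char.classInner_smul_left]
    exact hpm.2 ξ

end CfsgLib.KGV
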