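import Cfsg.Agent.Lib.Golay.M24

/-!
# Exhaustive searches inside `M24`

An element of `M24` is determined up to 48 (resp. 960) choices by the images of five (resp. four)
base points; permutations are handled as functions on bit positions during kernel evaluation.
-/

set_option autoImplicit false

namespace CfsgLib.M24Calc

open Cfsg CfsgLib.Golay
open scoped Pointwise

/-- `f` describes `σ` on bit positions. -/
def IsFun (σ : Equiv.Perm GolayPt) (f : ℕ → ℕ) : Prop := ∀ p, f (bit p) = bit (σ p)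

theorem IsFun.one : IsFun 1 id := fun _ => rfl

theorem IsFun.mul {σ τ : Equiv.Perm GolayPt} {f g : ℕ → ℕ} (hf : IsFun σ f) (hg : IsFun τ g) :
    IsFun (σ * τ) (fun j => f (g j)) := fun p => by
  show f (g (bit p)) = _
  rw [hg, hf, Equiv.Perm.mul_apply]

/-- Equality test on bit positions. -/
noncomputable def eqF (f g : ℕ → ℕ) : Bool := allLt 24 fun j => Nat.beq (f j) (g j)

theorem eq_of_eqF {σ τ : Equiv.Perm GolayPt} {f g : ℕ → ℕ} (hf : IsFun σ f) (hg : IsFun τ g)
    (h : eqF f g = true) : σ = τ :=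
  Equiv.ext fun p => bit_injective (by
    rw [← hf, ← hg]; exact Nat.eq_of_beq_eq_true (allLt_spec h _ (bit_lt p)))

theorem allLt_of_forall {f : ℕ → Bool} : ∀ {k : ℕ}, (∀ i < k, f i = true) → allLt k f = true
  | 0, _ => rfl
  | k + 1, h => Bool.and_eq_true_iff.2
      ⟨h k k.lt_succ_self, allLt_of_forall fun i hi => h i (Nat.lt_succ_of_lt hi)⟩

theorem eqF_of_eq {σ τ : Equiv.Perm GolayPt} {f g : ℕ → ℕ} (hf : IsFun σ f) (hg : IsFun τ g)
    (h : σ = τ) : eqF f g = true := allLt_of_forall fun i hi => by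
  have h1 := hf (pt i)
  have h2 := hg (pt i)
  rw [bit_pt hi] at h1 h2
  rw [h1, h2, h]
  exact Nat.beq_refl _

/-- Commutation test. -/
noncomputable def commF (f g : ℕ → ℕ) : Bool := eqF (fun j => f (g j)) (fun j => g (f j))

theorem commute_of_commF {σ τ : Equiv.Perm GolayPt} {f g : ℕ → ℕ} (hf : IsFun σ f)
    (hg : IsFun τ g) (h : commF f g = true) : Commute σ τ := eq_of_eqF (hf.mul hg) (hg.mul hf) h

theorem commF_of_commute {σ τ : Equiv.Perm GolayPt} {f g : ℕ → ℕ} (hf : IsFun σ f)
    (hg : IsFun τ g) (h : Commute σ τ) : commF f g = true :=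
  eqF_of_eq (hf.mul hg) (hg.mul hf) h

/-- The mask of the fixed points. -/
def fixMask (f : ℕ → ℕ) : ℕ := bitsOf (fun j => Nat.beq (f j) j) 24

theorem toSet_fixMask {σ : Equiv.Perm GolayPt} {f : ℕ → ℕ} (hf : IsFun σ f) :
    toSet (fixMask f) = Finset.univ.filter fun p => σ p = p := by
  ext p
  rw [mem_toSet, fixMask, testBit_bitsOf]
  simp [bit_lt, hf p, bit_injective.eq_iff]

/-! ### Codes -/

/-- Validity of a code. -/
noncomputable def okc (c : ℕ) : Bool :=
  allLt 24 (fun j => Nat.blt (app c j) 24) &&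
    allLt 24 (fun i => allLt i fun j => !Nat.beq (app c i) (app c j))

open scoped Classical in
/-- The permutation of a code. -/
noncomputable def ofCode (c : ℕ) : Equiv.Perm GolayPt :=
  if h : Function.Bijective (fun p => pt (app c (bit p))) then Equiv.ofBijective _ h else 1

theorem isFun_ofCode {c : ℕ} (h : okc c = true) : IsFun (ofCode c) (app c) := by
  rw [okc, Bool.and_eq_true] at h
  have hlt : ∀ p, app c (bit p) < 24 := fun p => by
    have := allLt_spec h.1 _ (bit_lt p)
    rwa [Nat.blt_eq] at this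
  have hinj : Function.Injective (fun p => pt (app c (bit p))) := by
    intro p q hpq
    have he : app c (bit p) = app c (bit q) := by
      rw [← bit_pt (hlt p), ← bit_pt (hlt q)]
      exact congrArg bit hpq
    by_contra hne
    rcases lt_trichotomy (bit p) (bit q) with hl | hl | hl
    · have := allLt_spec (allLt_spec h.2 _ (bit_lt q)) _ hl
      rw [he, Nat.beq_refl] at this
      exact Bool.false_ne_true this
    · exact hne (bit_injective hl)
    · have := allLt_spec (allLt_spec h.2 _ (bit_lt p)) _ hl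
      rw [he, Nat.beq_refl] at this
      exact Bool.false_ne_true this
  have hbij := Finite.injective_iff_bijective.1 hinj
  intro p
  rw [ofCode, dif_pos hbij, Equiv.ofBijective_apply, bit_pt (hlt p)]

/-- A valid code of an element of `M24`. -/
noncomputable def good (c : ℕ) : Bool := okc c && inM24 c

theorem isFun_of_good {c : ℕ} (h : good c = true) : IsFun (ofCode c) (app c) :=
  isFun_ofCode (Bool.and_eq_true_iff.1 h).1

theorem mem_of_good {c : ℕ} (h : good c = true) : ofCode c ∈ M24 :=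
  mem_M24_of_inM24 (isFun_of_good h) (Bool.and_eq_true_iff.1 h).2

/-! ### The last three levels of the chain -/

/-- Transversal at the fifth base point. -/
def L4 : List ℕ := (Data.trans24.getD 4 []).map slpAt

/-- Transversal at the sixth base point. -/
def L5 : List ℕ := (Data.trans24.getD 5 []).map slpAt

/-- Transversal at the seventh base point. -/
def L6 : List ℕ := (Data.trans24.getD 6 []).map slpAt

theorem L_checks :
    levelCheck (fun c => L4.any (Nat.beq c)) [some 2, some 1, some 0, none] (some 3) 8388600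
      (Data.trans24.getD 4 []) = true ∧
    levelCheck (fun c => L5.any (Nat.beq c)) [some 3, some 2, some 1, some 0, none] (some 5) 147488
      (Data.trans24.getD 5 []) = true ∧
    levelCheck (fun c => L6.any (Nat.beq c)) [some 5, some 3, some 2, some 1, some 0, none] (some 4)
      8241104 (Data.trans24.getD 6 []) = true := by
  decide +kernel

theorem step {L : List ℕ} {fixed : List GolayPt} {b : GolayPt} {Δ : ℕ} {idx : List ℕ}
    (h : levelCheck (fun c => L.any (Nat.beq c)) fixed b Δ idx = true)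
    (hup : ∀ g ∈ fixPts M24 fixed, g b ∈ toSet Δ) {g : Equiv.Perm GolayPt}
    (hg : g ∈ fixPts M24 fixed) :
    ∃ c ∈ L, ∃ σ r, IsFun σ (app c) ∧ r ∈ fixPts M24 (b :: fixed) ∧ g = σ * r := by
  obtain ⟨σ, c, hσ, hc, hext, hfix, hb⟩ := levelCheck_spec h (hup g hg)
  obtain ⟨d, hd, hdc⟩ := List.any_eq_true.1 hext
  obtain rfl := Nat.eq_of_beq_eq_true hdc
  refine ⟨c, hd, σ, σ⁻¹ * g, hc, ?_, by group⟩
  rw [fixPts_cons, Subgroup.mem_inf, MulAction.mem_stabilizer_iff, Equiv.Perm.smul_def,
    Equiv.Perm.mul_apply, ← hb, ← Equiv.Perm.mul_apply, inv_mul_cancel]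
  exact ⟨mul_mem (inv_mem ⟨genGroup_le hσ, hfix⟩) hg, rfl⟩

theorem enum6 {g : Equiv.Perm GolayPt}
    (hg : g ∈ fixPts M24 [some 5, some 3, some 2, some 1, some 0, none]) :
    ∃ b ∈ L6, IsFun g (app b) := by
  obtain ⟨b, hb, σ, r, hσ, hr, rfl⟩ := step L_checks.2.2 (fun g hg => up6 hg) hg
  rw [fixPts_base7, Subgroup.mem_bot] at hr
  exact ⟨b, hb, by rw [hr, mul_one]; exact hσ⟩

theorem enum5 {g : Equiv.Perm GolayPt}
    (hg : g ∈ fixPts M24 [some 3, some 2, some 1, some 0, none]) :
    ∃ a ∈ L5, ∃ b ∈ L6, IsFun g (fun j => app a (app b j)) := by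
  obtain ⟨a, ha, σ, r, hσ, hr, rfl⟩ := step L_checks.2.1 (fun g hg => up5 hg) hg
  obtain ⟨b, hb, hbf⟩ := enum6 hr
  exact ⟨a, ha, b, hb, hσ.mul hbf⟩

theorem enum4 {g : Equiv.Perm GolayPt} (hg : g ∈ fixPts M24 [some 2, some 1, some 0, none]) :
    ∃ c ∈ L4, ∃ a ∈ L5, ∃ b ∈ L6, IsFun g (fun j => app c (app a (app b j))) := by
  obtain ⟨c, hc, σ, r, hσ, hr, rfl⟩ :=
    step L_checks.1 (fun g hg => up_compl mask_eqs.2.2.2.2.1 (by decide) g hg) hg
  obtain ⟨a, ha, b, hb, hab⟩ := enum5 hr
  exact ⟨c, hc, a, ha, b, hb, hσ.mul hab⟩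

/-- All elements agreeing with `t` on five base points pass `P`. -/
noncomputable def scan5 (t : ℕ) (P : (ℕ → ℕ) → Bool) : Bool :=
  L5.all fun a => L6.all fun b => P fun j => app t (app a (app b j))

/-- All elements agreeing with `t` on four base points pass `P`. -/
noncomputable def scan4 (t : ℕ) (P : (ℕ → ℕ) → Bool) : Bool :=
  L4.all fun c => L5.all fun a => L6.all fun b => P fun j => app t (app c (app a (app b j)))

theorem inv_mul_mem_fixPts {l : List GolayPt} {g σ : Equiv.Perm GolayPt} (hg : g ∈ M24)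
    (hσ : σ ∈ M24) (h : ∀ x ∈ l, g x = σ x) : σ⁻¹ * g ∈ fixPts M24 l :=
  ⟨mul_mem (inv_mem hσ) hg, fun x hx => by
    rw [Equiv.Perm.mul_apply, h x hx, ← Equiv.Perm.mul_apply, inv_mul_cancel]; rfl⟩

theorem scan5_spec {t : ℕ} {P : (ℕ → ℕ) → Bool} (ht : good t = true) (hs : scan5 t P = true)
    {g : Equiv.Perm GolayPt} (hg : g ∈ M24)
    (h : ∀ x ∈ [some 3, some 2, some 1, some 0, (none : GolayPt)], g x = ofCode t x) :
    ∃ f, IsFun g f ∧ P f = true := by
  obtain ⟨a, ha, b, hb, hab⟩ := enum5 (inv_mul_mem_fixPts hg (mem_of_good ht) h)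
  refine ⟨_, ?_, List.all_eq_true.1 (List.all_eq_true.1 hs a ha) b hb⟩
  have := (isFun_of_good ht).mul hab
  rwa [mul_inv_cancel_left] at this

theorem scan4_spec {t : ℕ} {P : (ℕ → ℕ) → Bool} (ht : good t = true) (hs : scan4 t P = true)
    {g : Equiv.Perm GolayPt} (hg : g ∈ M24)
    (h : ∀ x ∈ [some 2, some 1, some 0, (none : GolayPt)], g x = ofCode t x) :
    ∃ f, IsFun g f ∧ P f = true := by
  obtain ⟨c, hc, a, ha, b, hb, hab⟩ := enum4 (inv_mul_mem_fixPts hg (mem_of_good ht) h)
  refine ⟨_, ?_, List.all_eq_true.1 (List.all_eq_true.1 (List.all_eq_true.1 hs c hc) a ha) b hb⟩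
  have := (isFun_of_good ht).mul hab
  rwa [mul_inv_cancel_left] at this

/-- An element fixing a set into which some element of `M24` maps seven base points is trivial. -/
theorem eq_one_of_fix {t S : ℕ} (ht : good t = true)
    (hS : [4, 5, 3, 2, 1, 0, 23].all (fun j => S.testBit (app t j)) = true)
    {g : Equiv.Perm GolayPt} (hg : g ∈ M24) (h : ∀ p ∈ toSet S, g p = p) : g = 1 := by
  set σ := ofCode t with hσ
  have h1 : σ⁻¹ * g * σ ∈ fixPts M24 [some 4, some 5, some 3, some 2, some 1, some 0, none] := by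
    refine ⟨mul_mem (mul_mem (inv_mem (mem_of_good ht)) hg) (mem_of_good ht), fun x hx => ?_⟩
    have hb : bit x ∈ [4, 5, 3, 2, 1, 0, 23] := by
      have : ∀ y : GolayPt, y ∈ [some 4, some 5, some 3, some 2, some 1, some 0, (none : GolayPt)] →
          bit y ∈ [4, 5, 3, 2, 1, 0, 23] := by decide +kernel
      exact this x hx
    have h2 := List.all_eq_true.1 hS _ hb
    rw [isFun_of_good ht x] at h2
    rw [Equiv.Perm.mul_apply, Equiv.Perm.mul_apply, h _ (mem_toSet.2 h2), ← Equiv.Perm.mul_apply,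
      inv_mul_cancel]
    rfl
  rw [fixPts_base7, Subgroup.mem_bot] at h1
  calc g = σ * (σ⁻¹ * g * σ) * σ⁻¹ := by group
    _ = 1 := by rw [h1]; group

/-- Moving five base points anywhere. -/
theorem exists_to_base5 (xs : List GolayPt) (hn : xs.Nodup) (hl : xs.length = 5) :
    ∃ g ∈ M24, base5.map g = xs :=
  exists_map_M24 (by decide) hn (by simp [base5, hl]) (by simp [base5])

end CfsgLib.M24Calc
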