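import Cfsg.Agent.Lib.KGV.M24Calc
import Cfsg.Agent.Lib.KGV.M24LocalData

/-!
# Involutions of `M24`: self-centralizing normal 2-subgroups of their centralizers

An involution with a fixed point fixes an octad and the pointwise stabiliser of that octad works;
the involutions without fixed points form one class, handled with an explicit group of order 64.
-/

set_option autoImplicit false

namespace CfsgLib.M24Calc

open Cfsg CfsgLib.Golay
open scoped Pointwise

/-- A normal 2-subgroup of the centraliser of `z` in `M24` containing its own centraliser there,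
inside the pointwise stabiliser of the fixed points of `z`. -/
structure LocalWitness (z : Equiv.Perm GolayPt) (Q : Subgroup (Equiv.Perm GolayPt)) : Prop where
  le : Q ≤ M24
  sq : ∀ e ∈ Q, e * e = 1
  comm : ∀ e ∈ Q, Commute e z
  fixes : ∀ e ∈ Q, ∀ x, z x = x → e x = x
  norm : ∀ c ∈ M24, Commute c z → ∀ e ∈ Q, c * e * c⁻¹ ∈ Q
  self : ∀ c ∈ M24, Commute c z → (∀ e ∈ Q, Commute c e) → c ∈ Q

theorem LocalWitness.conj {z t : Equiv.Perm GolayPt} {Q : Subgroup (Equiv.Perm GolayPt)}
    (h : LocalWitness z Q) (ht : t ∈ M24) :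
    LocalWitness (t * z * t⁻¹) (Q.map (MulAut.conj t).toMonoidHom) := by
  have hmem : ∀ {e : Equiv.Perm GolayPt}, e ∈ Q.map (MulAut.conj t).toMonoidHom ↔
      t⁻¹ * e * t ∈ Q := fun {e} => by
    constructor
    · rintro ⟨a, ha, rfl⟩
      simpa [mul_assoc] using ha
    · intro he
      exact ⟨_, he, by simp [mul_assoc]⟩
  have hback : ∀ c : Equiv.Perm GolayPt, Commute c (t * z * t⁻¹) → Commute (t⁻¹ * c * t) z := by
    intro c hc
    have h1 := hc.map (MulAut.conj t⁻¹)
    simpa [MulAut.conj_apply, mul_assoc] using h1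
  constructor
  · intro e he
    have := mul_mem (mul_mem ht (h.le (hmem.1 he))) (inv_mem ht)
    simpa [mul_assoc] using this
  · intro e he
    have := h.sq _ (hmem.1 he)
    calc e * e = t * ((t⁻¹ * e * t) * (t⁻¹ * e * t)) * t⁻¹ := by group
      _ = 1 := by rw [this]; group
  · intro e he
    have := (h.comm _ (hmem.1 he)).map (MulAut.conj t)
    simpa [MulAut.conj_apply, mul_assoc] using this
  · intro e he x hx
    have h1 : z (t⁻¹ x) = t⁻¹ x := by
      apply t.injective
      simpa using hx
    have h2 := h.fixes _ (hmem.1 he) _ h1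
    have h3 := congrArg t h2
    simpa using h3
  · intro c hc hcz e he
    rw [hmem]
    have := h.norm _ (mul_mem (mul_mem (inv_mem ht) hc) ht) (hback c hcz) _ (hmem.1 he)
    simpa [mul_assoc] using this
  · intro c hc hcz hce
    rw [hmem]
    refine h.self _ (mul_mem (mul_mem (inv_mem ht) hc) ht) (hback c hcz) fun e he => ?_
    have := (hce (t * e * t⁻¹) (hmem.2 (by simpa [mul_assoc] using he))).map (MulAut.conj t⁻¹)
    simpa [MulAut.conj_apply, mul_assoc] using this

theorem conj_sq {z t : Equiv.Perm GolayPt} (hz : z * z = 1) :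
    (t⁻¹ * z * t) * (t⁻¹ * z * t) = 1 := by
  calc (t⁻¹ * z * t) * (t⁻¹ * z * t) = t⁻¹ * (z * z) * t := by group
    _ = 1 := by rw [hz]; group

theorem exists_witness_of_conj {z t : Equiv.Perm GolayPt} (ht : t ∈ M24)
    (h : ∃ Q, LocalWitness (t⁻¹ * z * t) Q) : ∃ Q, LocalWitness z Q := by
  obtain ⟨Q, hQ⟩ := h
  refine ⟨Q.map (MulAut.conj t).toMonoidHom, ?_⟩
  have := hQ.conj ht
  rwa [show t * (t⁻¹ * z * t) * t⁻¹ = z by group] at this

/-! ### Involutions with a fixed point -/

theorem octad_checks :
    (L6.all fun a => Nat.beq (fixMask (app a) &&& 8536111) 8536111 &&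
      eqF (fun j => app a (app a j)) id && L6.all fun b => commF (app a) (app b)) = true ∧
    good LocalData.tOut = true ∧
    [4, 5, 3, 2, 1, 0, 23].all (fun j => Nat.testBit 8241104 (app LocalData.tOut j)) = true ∧
    good LocalData.tAvoid = true ∧
    [4, 5, 3, 2, 1, 0, 23].all (fun j => Nat.testBit 16777212 (app LocalData.tAvoid j)) = true := by
  decide +kernel

theorem exists_witness_octad {v : Equiv.Perm GolayPt} (hv : v ∈ M24)
    (hfix : (Finset.univ.filter fun p => v p = p) = octad0) : ∃ Q, LocalWitness v Q := by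
  obtain ⟨hL, hgood, hout, -, -⟩ := octad_checks
  have hoct : ∀ x ∈ [some 5, some 3, some 2, some 1, some 0, (none : GolayPt)], x ∈ octad0 := by
    decide +kernel
  have hmem : ∀ g : Equiv.Perm GolayPt, g ∈ fixPts M24 octad0.toList ↔
      g ∈ fixPts M24 [some 5, some 3, some 2, some 1, some 0, none] := by
    intro g
    refine ⟨fun h => ⟨h.1, fun x hx => h.2 x (Finset.mem_toList.2 (hoct x hx))⟩, fun h => ?_⟩
    obtain ⟨b, hb, hbf⟩ := enum6 h
    refine ⟨h.1, fun x hx => ?_⟩
    have h1 := List.all_eq_true.1 hL b hb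
    simp only [Bool.and_eq_true, Nat.beq_eq] at h1
    have h2 : x ∈ toSet (fixMask (app b) &&& 8536111) := by
      rw [h1.1.1]; exact Finset.mem_toList.1 hx
    rw [toSet_and, toSet_fixMask hbf, Finset.mem_inter, Finset.mem_filter] at h2
    exact h2.1.2
  set Q := fixPts M24 octad0.toList with hQ
  have hab : ∀ e ∈ Q, ∀ f ∈ Q, Commute e f := by
    intro e he f hf
    obtain ⟨a, ha, haf⟩ := enum6 ((hmem e).1 he)
    obtain ⟨b, hb, hbf⟩ := enum6 ((hmem f).1 hf)
    have h1 := List.all_eq_true.1 hL a ha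
    simp only [Bool.and_eq_true, List.all_eq_true] at h1
    exact commute_of_commF haf hbf (h1.2 b hb)
  have hvfix : ∀ x, v x = x ↔ x ∈ octad0 := fun x => by rw [← hfix]; simp
  have hvQ : v ∈ Q := ⟨hv, fun x hx => (hvfix x).2 (Finset.mem_toList.1 hx)⟩
  refine ⟨Q, ⟨fun e he => he.1, fun e he => ?_, fun e he => hab e he v hvQ,
    fun e he x hx => he.2 x (Finset.mem_toList.2 ((hvfix x).1 hx)), fun c hc hcv e he => ?_, ?_⟩⟩
  · obtain ⟨a, ha, haf⟩ := enum6 ((hmem e).1 he)
    have h1 := List.all_eq_true.1 hL a ha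
    simp only [Bool.and_eq_true] at h1
    exact eq_of_eqF (haf.mul haf) IsFun.one h1.1.2
  · refine ⟨mul_mem (mul_mem hc he.1) (inv_mem hc), fun x hx => ?_⟩
    have hx' : v (c⁻¹ x) = c⁻¹ x := by
      have h1 : v (c⁻¹ x) = c⁻¹ (v x) := congrArg (fun σ => σ x) hcv.inv_left.eq.symm
      rw [h1, (hvfix x).2 (Finset.mem_toList.1 hx)]
    rw [Equiv.Perm.mul_apply, Equiv.Perm.mul_apply,
      he.2 _ (Finset.mem_toList.2 ((hvfix _).1 hx'))]
    simp
  · intro c hc _ hce
    have horb : ∀ x ∈ toSet 8241104, ∃ e ∈ Q, e (some 4) = x := by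
      intro x hx
      obtain ⟨t, ht, -, htx⟩ := low_of_levelCheck level24_checks.2.2.2.2.2.2 x hx
      exact ⟨t, (hmem t).2 ht, htx⟩
    have h4 : c (some 4) ∈ toSet 8241104 := by
      rw [mask_eqs.2.2.2.2.2.2, Finset.mem_filter]
      refine ⟨Finset.mem_univ _, fun hO => ?_⟩
      obtain ⟨p, hp, hp4⟩ : ∃ p ∈ toSet 8241104, p ≠ (some 4 : GolayPt) := by decide +kernel
      obtain ⟨e, he, hep⟩ := horb p hp
      have h1 : c (e (some 4)) = e (c (some 4)) := congrArg (fun σ => σ (some 4)) (hce e he).eq
      rw [he.2 _ (Finset.mem_toList.2 hO), hep] at h1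
      exact hp4 (c.injective h1)
    obtain ⟨e, he, hec⟩ := horb _ h4
    have hc' : ∀ f ∈ Q, Commute (e⁻¹ * c) f := fun f hf => ((hab e he f hf).inv_left).mul_left (hce f hf)
    have h1 : e⁻¹ * c = 1 := by
      refine eq_one_of_fix hgood hout (mul_mem (inv_mem he.1) hc) fun x hx => ?_
      obtain ⟨f, hf, rfl⟩ := horb x hx
      have h2 : (e⁻¹ * c) (f (some 4)) = f ((e⁻¹ * c) (some 4)) :=
        congrArg (fun σ => σ (some 4)) (hc' f hf).eq
      rw [h2, Equiv.Perm.mul_apply, ← hec]
      simp
    rw [← inv_mul_eq_one.1 h1]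
    exact he

theorem scanA_check : good LocalData.tA = true ∧
    app LocalData.tA 23 = 23 ∧ app LocalData.tA 0 = 1 ∧ app LocalData.tA 1 = 0 ∧
    app LocalData.tA 2 = 3 ∧ app LocalData.tA 3 = 2 ∧
    scan5 LocalData.tA (fun f => !eqF (fun j => f (f j)) id ||
      (Nat.beq (pc24 (fixMask f)) 8 && memb (fixMask f))) = true := by
  decide +kernel

theorem exists_witness_of_fixed {z : Equiv.Perm GolayPt} (hz : z ∈ M24) (hsq : z * z = 1)
    (hne : z ≠ 1) {x : GolayPt} (hx : z x = x) : ∃ Q, LocalWitness z Q := by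
  have hzz : ∀ p, z (z p) = p := fun p => by rw [← Equiv.Perm.mul_apply, hsq]; rfl
  obtain ⟨a, ha⟩ : ∃ a, z a ≠ a := by
    by_contra h
    push Not at h
    exact hne (Equiv.ext h)
  have hax : a ≠ x := fun h => ha (h ▸ hx)
  have hzax : z a ≠ x := fun h => hax (z.injective (h.trans hx.symm))
  obtain ⟨b, hb, hba, hbza⟩ : ∃ b, z b ≠ b ∧ b ≠ a ∧ b ≠ z a := by
    by_contra h
    push Not at h
    obtain ⟨-, -, -, hgood, havoid⟩ := octad_checks
    obtain ⟨c, d, hn⟩ : ∃ c d, [x, a, z a, c, d].Nodup := by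
      obtain ⟨c, -, hc⟩ := Finset.exists_mem_notMem_of_card_lt_card
        (s := ({x, a, z a} : Finset GolayPt)) (t := Finset.univ)
        (lt_of_le_of_lt Finset.card_le_three (by decide))
      obtain ⟨d, -, hd⟩ := Finset.exists_mem_notMem_of_card_lt_card
        (s := ({x, a, z a, c} : Finset GolayPt)) (t := Finset.univ)
        (lt_of_le_of_lt Finset.card_le_four (by decide))
      simp only [Finset.mem_insert, Finset.mem_singleton, not_or] at hc hd
      exact ⟨c, d, by simp [hax.symm, hzax.symm, (Ne.symm ha), Ne.symm hc.1, Ne.symm hc.2.1,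
        Ne.symm hc.2.2, Ne.symm hd.1, Ne.symm hd.2.1, Ne.symm hd.2.2.1, Ne.symm hd.2.2.2]⟩
    obtain ⟨t, ht, htm⟩ := exists_to_base5 [x, a, z a, c, d] hn rfl
    simp only [base5, List.map_cons, List.map_nil, List.cons.injEq, and_true] at htm
    have h1 : t⁻¹ * z * t = 1 := by
      refine eq_one_of_fix hgood havoid (mul_mem (mul_mem (inv_mem ht) hz) ht) fun p hp => ?_
      have hp' : p ≠ some 0 ∧ p ≠ some 1 := by revert hp; revert p; decide +kernel
      have h2 : z (t p) = t p := by
        by_contra h3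
        by_cases h4 : t p = a
        · exact hp'.1 (t.injective (h4.trans htm.2.1.symm))
        · exact hp'.2 (t.injective ((h _ h3 h4).trans htm.2.2.1.symm))
      simp [Equiv.Perm.mul_apply, h2]
    exact hne (by
      calc z = t * (t⁻¹ * z * t) * t⁻¹ := by group
        _ = 1 := by rw [h1]; group)
  have hn : [x, a, z a, b, z b].Nodup := by
    have e1 : b ≠ x := fun h => hb (h ▸ hx)
    have e2 : z b ≠ x := fun h => e1 (z.injective (h.trans hx.symm))
    have e3 : z b ≠ a := fun h => hbza (by rw [← h, hzz])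
    have e4 : z b ≠ z a := fun h => hba (z.injective h)
    simp [hax.symm, hzax.symm, Ne.symm ha, e1.symm, e2.symm, e3.symm, e4.symm, hba.symm,
      hbza.symm, Ne.symm hb]
  obtain ⟨t, ht, htm⟩ := exists_to_base5 _ hn rfl
  simp only [base5, List.map_cons, List.map_nil, List.cons.injEq, and_true] at htm
  obtain ⟨t0, t1, t2, t3, t4⟩ := htm
  refine exists_witness_of_conj ht ?_
  set u := t⁻¹ * z * t with hu
  have hum : u ∈ M24 := mul_mem (mul_mem (inv_mem ht) hz) ht
  have heval : ∀ p q, z (t p) = t q → u p = q := fun p q h => by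
    rw [hu, Equiv.Perm.mul_apply, Equiv.Perm.mul_apply, h]; simp
  obtain ⟨hg, c0, c1, c2, c3, c4, hs⟩ := scanA_check
  have hA : ∀ p, bit (ofCode LocalData.tA p) = app LocalData.tA (bit p) := fun p =>
    (isFun_of_good hg p).symm
  obtain ⟨f, hf, hP⟩ := scan5_spec hg hs hum fun p hp => by
    refine bit_injective ?_
    rw [hA]
    simp only [List.mem_cons, List.not_mem_nil, or_false] at hp
    rcases hp with rfl | rfl | rfl | rfl | rfl
    · rw [show bit (some 3 : GolayPt) = 3 from rfl, c4,
        heval _ (some 2) (by rw [t4, t3, hzz])]; rfl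
    · rw [show bit (some 2 : GolayPt) = 2 from rfl, c3,
        heval _ (some 3) (by rw [t4, t3])]; rfl
    · rw [show bit (some 1 : GolayPt) = 1 from rfl, c2,
        heval _ (some 0) (by rw [t2, t1, hzz])]; rfl
    · rw [show bit (some 0 : GolayPt) = 0 from rfl, c1,
        heval _ (some 1) (by rw [t2, t1])]; rfl
    · rw [show bit (none : GolayPt) = 23 from rfl, c0,
        heval _ none (by rw [t0, hx])]; rfl
  rw [eqF_of_eq (hf.mul hf) IsFun.one (conj_sq hsq)] at hP
  simp only [Bool.not_true, Bool.false_or, Bool.and_eq_true, Nat.beq_eq, pc24_eq] at hP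
  have ho : toSet (fixMask f) ∈ octads :=
    ⟨(toSet_mem_supports (bitsOf_lt _ _)).2 hP.2, by rw [card_toSet]; exact hP.1⟩
  obtain ⟨s, hs', hso⟩ := exists_smul_octad octad0_mem ho
  refine exists_witness_of_conj hs' (exists_witness_octad
    (mul_mem (mul_mem (inv_mem hs') hum) hs') ?_)
  rw [toSet_fixMask hf] at hso
  ext p
  have h1 : s p ∈ s • octad0 ↔ p ∈ octad0 := by
    rw [← Equiv.Perm.smul_def, Finset.smul_mem_smul_finset_iff]
  rw [hso] at h1
  simp only [Finset.mem_filter, Finset.mem_univ, true_and] at h1 ⊢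
  rw [← h1, Equiv.Perm.mul_apply, Equiv.Perm.mul_apply]
  exact ⟨fun h => by conv_rhs => rw [← h]
                     simp, fun h => by rw [h]; simp⟩

/-! ### Involutions without fixed points -/

/-- Conjugation by `f` maps the generators into the group. -/
noncomputable def normTest (f : ℕ → ℕ) : Bool :=
  LocalData.qGens.all fun g =>
    LocalData.qList.any fun q => eqF (fun j => f (app g j)) (fun j => app q (f j))

theorem qlist_good : (LocalData.qList.all fun q => good q &&
    eqF (fun j => app q (app q j)) id && commF (app q) (app LocalData.zB)) = true ∧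
    LocalData.qGens.all (fun g => LocalData.qList.any (Nat.beq g)) = true ∧
    good LocalData.zB = true := by
  decide +kernel

theorem qlist_mul : (LocalData.qList.all fun a => LocalData.qList.all fun b =>
    LocalData.qList.any fun c => eqF (fun j => app a (app b j)) (app c)) = true := by
  decide +kernel

theorem qlist_gen : (allLt LocalData.qList.length fun m =>
    if m = 0 then eqF (app (LocalData.qList.getD m 0)) id else
      (List.range m).any fun i => LocalData.qGens.any fun g =>
        eqF (app (LocalData.qList.getD m 0)) (fun j => app (LocalData.qList.getD i 0) (app g j)))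
    = true := by
  decide +kernel

theorem qlist_orbit : (allLt 24 fun y =>
    !((LocalData.qGens.filter fun g => Nat.beq (app g 23) 23).all fun g => Nat.beq (app g y) y) ||
      LocalData.qList.any fun q => Nat.beq (app q 23) y) = true := by
  decide +kernel

theorem transversal_check : (allLt 24 fun y => LocalData.tT.any fun t =>
    good t && Nat.beq (app t 23) y && commF (app t) (app LocalData.zB) && normTest (app t)) = true := by
  decide +kernel

theorem pair_check : app LocalData.zB 23 = 0 ∧ app LocalData.zB 1 = 2 ∧ (allLt 23 fun y =>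
    Nat.beq y 0 || LocalData.tC.any fun t => good t && Nat.beq (app t 23) 23 &&
      Nat.beq (app t 0) 0 && Nat.beq (app t 1) y && Nat.beq (app t 2) (app LocalData.zB y)) = true := by
  decide +kernel

theorem scanC_check : (LocalData.tC.all fun t => scan4 t fun f =>
    !commF f (app LocalData.zB) || (normTest f &&
      (!(LocalData.qGens.all fun g => commF f (app g)) ||
        LocalData.qList.any fun q => eqF f (app q)))) = true := by
  decide +kernel

theorem scanB_check : good LocalData.tB = true ∧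
    app LocalData.tB 23 = 0 ∧ app LocalData.tB 0 = 23 ∧ app LocalData.tB 1 = 2 ∧
    app LocalData.tB 2 = 1 ∧ LocalData.conjB.all good = true ∧
    scan4 LocalData.tB (fun f => !eqF (fun j => f (f j)) id || !Nat.beq (fixMask f) 0 ||
      LocalData.conjB.any fun w =>
        eqF (fun j => app w (app LocalData.zB j)) (fun j => f (app w j))) = true := by
  decide +kernel

theorem exists_witness_zB : ∃ Q, LocalWitness (ofCode LocalData.zB) Q := by
  obtain ⟨hq, hgens, hzg⟩ := qlist_good
  set z := ofCode LocalData.zB with hzdef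
  have hzf : IsFun z (app LocalData.zB) := isFun_of_good hzg
  have hqc : ∀ q ∈ LocalData.qList, good q = true ∧
      ofCode q * ofCode q = 1 ∧ Commute (ofCode q) z := fun q hq' => by
    have h := List.all_eq_true.1 hq q hq'
    simp only [Bool.and_eq_true] at h
    exact ⟨h.1.1, eq_of_eqF ((isFun_of_good h.1.1).mul (isFun_of_good h.1.1)) IsFun.one h.1.2,
      commute_of_commF (isFun_of_good h.1.1) hzf h.2⟩
  have hlen : 0 < LocalData.qList.length := by decide +kernel
  let Q : Subgroup (Equiv.Perm GolayPt) :=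
    { carrier := {σ | ∃ q ∈ LocalData.qList, σ = ofCode q}
      one_mem' := by
        refine ⟨LocalData.qList[0], List.getElem_mem hlen, ?_⟩
        have h := allLt_spec qlist_gen 0 hlen
        simp only [if_pos] at h
        rw [List.getD_eq_getElem _ _ hlen] at h
        exact (eq_of_eqF (isFun_of_good (hqc _ (List.getElem_mem hlen)).1) IsFun.one h).symm
      mul_mem' := by
        rintro _ _ ⟨a, ha, rfl⟩ ⟨b, hb, rfl⟩
        obtain ⟨c, hc, he⟩ := List.any_eq_true.1
          (List.all_eq_true.1 (List.all_eq_true.1 qlist_mul a ha) b hb)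
        exact ⟨c, hc, eq_of_eqF ((isFun_of_good (hqc a ha).1).mul (isFun_of_good (hqc b hb).1))
          (isFun_of_good (hqc c hc).1) he⟩
      inv_mem' := by
        rintro _ ⟨a, ha, rfl⟩
        exact ⟨a, ha, inv_eq_of_mul_eq_one_right (hqc a ha).2.1⟩ }
  have hgenQ : ∀ g ∈ LocalData.qGens, g ∈ LocalData.qList := fun g hg => by
    obtain ⟨q, hq', he⟩ := List.any_eq_true.1 (List.all_eq_true.1 hgens g hg)
    rwa [Nat.eq_of_beq_eq_true he]
  have hclos : ∀ m (hm : m < LocalData.qList.length),
      ofCode LocalData.qList[m] ∈ Subgroup.closure {σ | ∃ g ∈ LocalData.qGens, σ = ofCode g} := by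
    intro m
    induction m using Nat.strong_induction_on with
    | _ m ih =>
      intro hm
      have h := allLt_spec qlist_gen m hm
      rw [List.getD_eq_getElem _ _ hm] at h
      by_cases h0 : m = 0
      · rw [if_pos h0] at h
        rw [eq_of_eqF (isFun_of_good (hqc _ (List.getElem_mem hm)).1) IsFun.one h]
        exact one_mem _
      · rw [if_neg h0] at h
        obtain ⟨i, hi, h1⟩ := List.any_eq_true.1 h
        obtain ⟨g, hg, h2⟩ := List.any_eq_true.1 h1
        have hi' := List.mem_range.1 hi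
        rw [List.getD_eq_getElem _ _ (hi'.trans hm)] at h2
        rw [eq_of_eqF (isFun_of_good (hqc _ (List.getElem_mem hm)).1)
          ((isFun_of_good (hqc _ (List.getElem_mem _)).1).mul
            (isFun_of_good (hqc g (hgenQ g hg)).1)) h2]
        exact mul_mem (ih i hi' _) (Subgroup.subset_closure ⟨g, hg, rfl⟩)
  have hnormTest : ∀ (c : Equiv.Perm GolayPt) (f : ℕ → ℕ), IsFun c f → normTest f = true →
      ∀ e ∈ Q, c * e * c⁻¹ ∈ Q := by
    intro c f hf hn e ⟨q, hq', he⟩
    subst he
    obtain ⟨m, hm, rfl⟩ := List.getElem_of_mem hq'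
    have hle : Subgroup.closure {σ | ∃ g ∈ LocalData.qGens, σ = ofCode g} ≤
        Q.comap (MulAut.conj c).toMonoidHom := by
      rw [Subgroup.closure_le]
      rintro _ ⟨g, hg, rfl⟩
      obtain ⟨r, hr, h2⟩ := List.any_eq_true.1 (List.all_eq_true.1 hn g hg)
      refine ⟨r, hr, ?_⟩
      have := eq_of_eqF (hf.mul (isFun_of_good (hqc g (hgenQ g hg)).1))
        ((isFun_of_good (hqc r hr).1).mul hf) h2
      simp [MulAut.conj_apply, this]
    exact hle (hclos m hm)
  obtain ⟨z0, z1, hpair⟩ := pair_check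
  have hzn : z none = some 0 := bit_injective (by rw [← hzf none]; exact z0)
  have hz12 : z (some 1) = some 2 := bit_injective (by rw [← hzf (some 1)]; exact z1)
  have hstab : ∀ c ∈ M24, Commute c z → c none = none → ∃ f, IsFun c f ∧ normTest f = true ∧
      ((∀ e ∈ Q, Commute c e) → c ∈ Q) := by
    intro c hc hcz hn
    have hc0 : c (some 0) = some 0 := by
      rw [← hzn, ← Equiv.Perm.mul_apply, hcz.eq, Equiv.Perm.mul_apply, hn]
    have hy : bit (c (some 1)) < 23 ∧ bit (c (some 1)) ≠ 0 := by
      have h1 : c (some 1) ≠ none := fun h => absurd (c.injective (h.trans hn.symm)) (by decide)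
      have h2 : c (some 1) ≠ some 0 := fun h => absurd (c.injective (h.trans hc0.symm)) (by decide)
      revert h1 h2
      generalize c (some 1) = p
      revert p
      decide
    have h := allLt_spec hpair _ hy.1
    rw [Bool.or_eq_true] at h
    rcases h with h | h
    · exact absurd (Nat.eq_of_beq_eq_true h) hy.2
    obtain ⟨t, ht, h2⟩ := List.any_eq_true.1 h
    simp only [Bool.and_eq_true, Nat.beq_eq] at h2
    obtain ⟨⟨⟨⟨hg, e0⟩, e1⟩, e2⟩, e3⟩ := h2
    have htf := isFun_of_good hg
    obtain ⟨f, hf, hP⟩ := scan4_spec hg (List.all_eq_true.1 scanC_check t ht) hc fun p hp => by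
      refine bit_injective ?_
      rw [← htf p]
      simp only [List.mem_cons, List.not_mem_nil, or_false] at hp
      rcases hp with rfl | rfl | rfl | rfl
      · rw [show bit (some 2 : GolayPt) = 2 from rfl, e3, ← hz12, ← Equiv.Perm.mul_apply, hcz.eq,
          Equiv.Perm.mul_apply, hzf]
      · rw [show bit (some 1 : GolayPt) = 1 from rfl, e2]
      · rw [hc0]; exact e1.symm
      · rw [hn]; exact e0.symm
    rw [commF_of_commute hf hzf hcz] at hP
    simp only [Bool.not_true, Bool.false_or, Bool.and_eq_true] at hP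
    refine ⟨f, hf, hP.1, fun hce => ?_⟩
    have hall : (LocalData.qGens.all fun g => commF f (app g)) = true :=
      List.all_eq_true.2 fun g hg' => commF_of_commute hf (isFun_of_good (hqc g (hgenQ g hg')).1)
        (hce _ ⟨g, hgenQ g hg', rfl⟩)
    have h3 := hP.2
    rw [hall] at h3
    simp only [Bool.not_true, Bool.false_or] at h3
    obtain ⟨q, hq', h4⟩ := List.any_eq_true.1 h3
    exact ⟨q, hq', eq_of_eqF hf (isFun_of_good (hqc q hq').1) h4⟩
  refine ⟨Q, ⟨?_, ?_, ?_, fun e he x hx => ?_, ?_, ?_⟩⟩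
  · rintro _ ⟨q, hq', rfl⟩; exact mem_of_good (hqc q hq').1
  · rintro _ ⟨q, hq', rfl⟩; exact (hqc q hq').2.1
  · rintro _ ⟨q, hq', rfl⟩; exact (hqc q hq').2.2
  · exfalso
    have : ∀ p, app LocalData.zB (bit p) ≠ bit p := by decide +kernel
    exact this x (by rw [hzf x, hx])
  · intro c hc hcz e he
    obtain ⟨T, -, h1⟩ := List.any_eq_true.1 (allLt_spec transversal_check _ (bit_lt (c none)))
    simp only [Bool.and_eq_true, Nat.beq_eq] at h1
    obtain ⟨⟨⟨hg, e0⟩, hcm⟩, hn⟩ := h1
    have hT : ofCode T none = c none := bit_injective (by rw [← isFun_of_good hg none]; exact e0)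
    have hTz := commute_of_commF (isFun_of_good hg) hzf hcm
    obtain ⟨f, hf, hnf, -⟩ := hstab ((ofCode T)⁻¹ * c) (mul_mem (inv_mem (mem_of_good hg)) hc)
      (hTz.inv_left.mul_left hcz) (by rw [Equiv.Perm.mul_apply, ← hT]; simp)
    have h2 := hnormTest _ _ (isFun_of_good hg) hn _ (hnormTest _ _ hf hnf e he)
    simpa [mul_assoc] using h2
  · intro c hc hcz hce
    have h := allLt_spec qlist_orbit _ (bit_lt (c none))
    have hall : ((LocalData.qGens.filter fun g => Nat.beq (app g 23) 23).all
        fun g => Nat.beq (app g (bit (c none))) (bit (c none))) = true := by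
      refine List.all_eq_true.2 fun g hg => ?_
      obtain ⟨hg1, hg2⟩ := List.mem_filter.1 hg
      have hgf := isFun_of_good (hqc g (hgenQ g hg1)).1
      have hgn : ofCode g none = none :=
        bit_injective (by rw [← hgf none]; exact Nat.eq_of_beq_eq_true hg2)
      rw [hgf, ← Equiv.Perm.mul_apply, ← (hce _ ⟨g, hgenQ g hg1, rfl⟩).eq, Equiv.Perm.mul_apply,
        hgn]
      exact Nat.beq_refl _
    rw [hall] at h
    simp only [Bool.not_true, Bool.false_or] at h
    obtain ⟨q, hq', h1⟩ := List.any_eq_true.1 h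
    have hqn : ofCode q none = c none :=
      bit_injective (by rw [← isFun_of_good (hqc q hq').1 none]; exact Nat.eq_of_beq_eq_true h1)
    obtain ⟨-, -, -, hin⟩ := hstab ((ofCode q)⁻¹ * c)
      (mul_mem (inv_mem (mem_of_good (hqc q hq').1)) hc)
      ((hqc q hq').2.2.inv_left.mul_left hcz) (by rw [Equiv.Perm.mul_apply, ← hqn]; simp)
    have hQab : ∀ e ∈ Q, ∀ e' ∈ Q, Commute e e' := by
      have hinv : ∀ e ∈ Q, e⁻¹ = e := by
        rintro _ ⟨a, ha, rfl⟩
        exact inv_eq_of_mul_eq_one_right (hqc a ha).2.1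
      intro e he e' he'
      have h5 := hinv _ (Q.mul_mem he he')
      rw [mul_inv_rev, hinv e he, hinv e' he'] at h5
      exact h5.symm
    have h6 := hin fun e he =>
      ((hQab _ ⟨q, hq', rfl⟩ e he).inv_left).mul_left (hce e he)
    simpa using Q.mul_mem ⟨q, hq', rfl⟩ h6

theorem exists_witness_of_fpf {z : Equiv.Perm GolayPt} (hz : z ∈ M24) (hsq : z * z = 1)
    (hne : ∀ p, z p ≠ p) : ∃ Q, LocalWitness z Q := by
  have hzz : ∀ p, z (z p) = p := fun p => by rw [← Equiv.Perm.mul_apply, hsq]; rfl
  let a : GolayPt := none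
  obtain ⟨b, -, hb⟩ := Finset.exists_mem_notMem_of_card_lt_card
    (s := ({a, z a} : Finset GolayPt)) (t := Finset.univ)
    (lt_of_le_of_lt Finset.card_le_two (by decide))
  simp only [Finset.mem_insert, Finset.mem_singleton, not_or] at hb
  obtain ⟨c, -, hc⟩ := Finset.exists_mem_notMem_of_card_lt_card
    (s := ({a, z a, b, z b} : Finset GolayPt)) (t := Finset.univ)
    (lt_of_le_of_lt Finset.card_le_four (by decide))
  simp only [Finset.mem_insert, Finset.mem_singleton, not_or] at hc
  have hn : [a, z a, b, z b, c].Nodup := by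
    have e3 : z b ≠ a := fun h => hb.2 (by rw [← h, hzz])
    have e4 : z b ≠ z a := fun h => hb.1 (z.injective h)
    simp [(hne a).symm, Ne.symm hb.1, Ne.symm hb.2, e3.symm, e4.symm, (hne b).symm, Ne.symm hc.1,
      Ne.symm hc.2.1, Ne.symm hc.2.2.1, Ne.symm hc.2.2.2]
  obtain ⟨t, ht, htm⟩ := exists_to_base5 _ hn rfl
  simp only [base5, List.map_cons, List.map_nil, List.cons.injEq, and_true] at htm
  obtain ⟨t0, t1, t2, t3, -⟩ := htm
  refine exists_witness_of_conj ht ?_
  set u := t⁻¹ * z * t with hu
  have hum : u ∈ M24 := mul_mem (mul_mem (inv_mem ht) hz) ht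
  have heval : ∀ p q, z (t p) = t q → u p = q := fun p q h => by
    rw [hu, Equiv.Perm.mul_apply, Equiv.Perm.mul_apply, h]; simp
  obtain ⟨hg, c0, c1, c2, c3, hW, hs⟩ := scanB_check
  have hB : ∀ p, bit (ofCode LocalData.tB p) = app LocalData.tB (bit p) := fun p =>
    (isFun_of_good hg p).symm
  obtain ⟨f, hf, hP⟩ := scan4_spec hg hs hum fun p hp => by
    refine bit_injective ?_
    rw [hB]
    simp only [List.mem_cons, List.not_mem_nil, or_false] at hp
    rcases hp with rfl | rfl | rfl | rfl
    · rw [show bit (some 2 : GolayPt) = 2 from rfl, c3,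
        heval _ (some 1) (by rw [t3, t2, hzz])]; rfl
    · rw [show bit (some 1 : GolayPt) = 1 from rfl, c2,
        heval _ (some 2) (by rw [t3, t2])]; rfl
    · rw [show bit (some 0 : GolayPt) = 0 from rfl, c1,
        heval _ none (by rw [t1, t0, hzz])]; rfl
    · rw [show bit (none : GolayPt) = 23 from rfl, c0,
        heval _ (some 0) (by rw [t0, t1])]; rfl
  have hm : fixMask f = 0 := by
    refine toSet_inj (bitsOf_lt _ _) (by norm_num) ?_
    rw [toSet_fixMask hf]
    ext p
    simp only [Finset.mem_filter, Finset.mem_univ, true_and, mem_toSet, Nat.zero_testBit,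
      Bool.false_eq_true, iff_false]
    intro h
    refine hne (t p) ?_
    have h2 := congrArg t h
    simpa [hu] using h2
  rw [eqF_of_eq (hf.mul hf) IsFun.one (conj_sq hsq), hm] at hP
  simp only [Bool.not_true, Bool.false_or, Nat.beq_refl] at hP
  obtain ⟨w, hw, h1⟩ := List.any_eq_true.1 hP
  have hwg := List.all_eq_true.1 hW w hw
  have h2 := eq_of_eqF ((isFun_of_good hwg).mul (isFun_of_good qlist_good.2.2))
    (hf.mul (isFun_of_good hwg)) h1
  refine exists_witness_of_conj (mem_of_good hwg) ?_
  rw [mul_assoc (ofCode w)⁻¹, ← h2, inv_mul_cancel_left]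
  exact exists_witness_zB

/-- Every involution of `M24` has a local witness. -/
theorem exists_witness {z : Equiv.Perm GolayPt} (hz : z ∈ M24) (hsq : z * z = 1) (hne : z ≠ 1) :
    ∃ Q, LocalWitness z Q := by
  by_cases h : ∃ x, z x = x
  · obtain ⟨x, hx⟩ := h
    exact exists_witness_of_fixed hz hsq hne hx
  · exact exists_witness_of_fpf hz hsq (not_exists.1 h)

end CfsgLib.M24Calc
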