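import Mathlib.Data.Nat.Notation

/-!
# Witness permutations for element orders in M24 and M22

Each number codes a permutation of 24 points, 8 bits per point.
-/

set_option autoImplicit false

namespace CfsgLib.M24Calc.OrderData

/-- An element of order 5. -/
def g24_5 : Nat := 0x1306120b041110150e0f070c140d0a1609050817030201

/-- An element of order 4 normalising it. -/
def n24_5 : Nat := 0xd070815140e100b11160f09120c0a0613050403011702

/-- An involution centralising the element of order 5. -/
def v24_5 : Nat := 0x80d0b010f020e051311160615000717090c10030412140a

/-- A second involution centralising the element of order 5. -/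
def w24_5 : Nat := 0xf04000c08071011170503140a0b021312010e160d090615

/-- An element of order 7. -/
def g24_7 : Nat := 0xf0c160a1211130617100d150b091404070e0805030201

/-- An element of order 3 normalising it. -/
def n24_7 : Nat := 0x80a070b121113160e0d15100c090f0406031401170502

/-- An involution centralising the element of order 7. -/
def v24_7 : Nat := 0x70315021311121005060d0c0b0a0901170e0f0016140804

/-- An element of order 11. -/
def g24_11 : Nat := 0x1716150b130a050d0c0e100f1412080906071104030201

/-- An element of order 5 normalising it. -/
def n24_11 : Nat := 0x140317050d02090e0b070c130a120810060f1611011504

/-- An element of order 23. -/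
def g24_23 : Nat := 0x13120614170a10090c0f050e0b16110d15070804030201

/-- An element of order 11 normalising it. -/
def n24_23 : Nat := 0x506090d120f100a15081714160e070313010c0b110402

/-- An element of order 5. -/
def g22_5 : Nat := 0x170f0e121110090d13080b0c140a16060105150704030200

/-- An element of order 4 normalising it. -/
def n22_5 : Nat := 0x17110b151308090516120e0a060c0f0d0414100207030100

/-- An element of order 7. -/
def g22_7 : Nat := 0x1714120e130b0906110810070f01050d0a16150c04030200

/-- An element of order 3 normalising it. -/
def n22_7 : Nat := 0x17080b1013110f0612160d020507090e0414150a0c030100

/-- An element of order 11. -/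
def g22_11 : Nat := 0x1711070c0f0a090514080112131006160b0d150e04030200

/-- An element of order 5 normalising it. -/
def n22_11 : Nat := 0x170312140a0b1605070811100f0c0d0615041302090e0100

end CfsgLib.M24Calc.OrderData
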