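import Cfsg.Agent.Lib.Blocks.Defect

/-!
# A local criterion for a group to have a single p-block

If the centralizer of every element of order `p` has a normal `p`-subgroup containing its own
centralizer there, and no irreducible character has full `p`-part in its degree, then all
irreducible characters lie in one `p`-block.
-/

set_option autoImplicit false

namespace CfsgLib.KGV

open Cfsg CfsgLib.Blocks
open scoped Classical

universe u v

section Idem

variable {H : Type u} [Group H] [Finite H] {F : Type v} [Field F] {p : ℕ} [Fact p.Prime] [CharP F p]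

omit [Finite H] [Fact p.Prime] [CharP F p] in
theorem cosetSum_eq [Finite H] (Q : Subgroup H) [Fintype Q] (a : MonoidAlgebra F H) (g : H) :
    cosetSum Q a g = ∑ q : Q, a.coeff (g * q) := by
  unfold cosetSum
  convert rfl

/-- A nonzero central idempotent is the identity when a normal `p`-subgroup contains its
centralizer. -/
theorem central_idem_eq_one (Q : Subgroup H) [Q.Normal] (hQ : IsPGroup p Q)
    (hC : Subgroup.centralizer (Q : Set H) ≤ Q) {e : MonoidAlgebra F H}
    (hec : e ∈ Subalgebra.center F (MonoidAlgebra F H)) (he : IsIdempotentElem e) (hne : e ≠ 0) :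
    e = 1 := by
  haveI := Fintype.ofFinite Q
  set c : F := cosetSum Q e 1 with hc
  set a : MonoidAlgebra F H := e - algebraMap F _ c with ha
  have hac : a ∈ Subalgebra.center F (MonoidAlgebra F H) :=
    sub_mem hec (Subalgebra.algebraMap_mem _ c)
  have hout : ∀ g : H, g ∉ Q → cosetSum Q e g = 0 := by
    intro g hg
    let e' : MonoidAlgebra F H :=
      ofFun fun x => if x ∈ Subgroup.centralizer (Q : Set H) then 0 else e.coeff x
    have hfix := (conjFixed_of_mem_center (P := Q) hec)
    have he' : ConjFixed Q e' := by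
      intro u hu x
      simp only [e', coeff_ofFun]
      exact if_congr (conj_mem_centralizer_iff (Subgroup.le_normalizer hu) x) rfl (hfix u hu x)
    have h0 := cosetSum_eq_zero_of_centralizer (p := p) hQ he'
      (fun x hx => by simp [e', hx]) g
    rw [← h0]
    simp only [cosetSum_eq]
    refine Finset.sum_congr rfl fun q _ => ?_
    have : g * (q : H) ∉ Subgroup.centralizer (Q : Set H) := fun h => hg (by
      simpa using mul_mem (hC h) (inv_mem q.2))
    simp [e', this]
  have hcoset : ∀ g, cosetSum Q a g = 0 := by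
    intro g
    have h1 : cosetSum Q a g = cosetSum Q e g - if g ∈ Q then c else 0 := by
      simp only [cosetSum_eq]
      have h2 : (∑ q : Q, (algebraMap F (MonoidAlgebra F H) c).coeff (g * q)) =
          if g ∈ Q then c else 0 := by
        split_ifs with hg
        · rw [Finset.sum_eq_single (⟨g⁻¹, inv_mem hg⟩ : Q)]
          · simp
          · intro q _ hq
            have : g * (q : H) ≠ 1 := fun h => hq (Subtype.ext (eq_inv_of_mul_eq_one_right h))
            simp [Finsupp.single_eq_of_ne this]
          · simp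
        · refine Finset.sum_eq_zero fun q _ => ?_
          have : g * (q : H) ≠ 1 := fun h => hg (by
            rw [eq_inv_of_mul_eq_one_left h]; exact inv_mem q.2)
          simp [Finsupp.single_eq_of_ne this]
      rw [← h2, ← Finset.sum_sub_distrib]
      exact Finset.sum_congr rfl fun q _ => by simp [a]
    rw [h1]
    split_ifs with hg
    · have : cosetSum Q e g = c := by
        rw [hc]
        simp only [cosetSum_eq]
        exact Fintype.sum_equiv (Equiv.mulLeft (⟨g, hg⟩ : Q)) _ _ fun q => by simp
      rw [this, sub_self]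
    · rw [hout g hg, sub_zero]
  have hnil := isNilpotent_of_cosetSum hQ hac hcoset
  set b : MonoidAlgebra F H := algebraMap F _ c with hb
  have hcomm : Commute a (e + b - 1) := (Subalgebra.mem_center_iff.1 hac (e + b - 1)).symm
  have heq : a * (e + b - 1) = algebraMap F (MonoidAlgebra F H) (c - c ^ 2) := by
    have hcom2 : b * e = e * b := Algebra.commutes c e
    have h3 : a * (e + b - 1) = e * e - b * b - e + b + (e * b - b * e) := by
      rw [ha]; noncomm_ring
    rw [h3, he.eq, hcom2, sub_self, add_zero, map_sub, map_pow, sq]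
    abel
  have hc0 : c - c ^ 2 = 0 := by
    have h1 := hcomm.isNilpotent_mul_right hnil
    rw [heq] at h1
    exact ((IsNilpotent.map_iff (algebraMap F (MonoidAlgebra F H)).injective).1 h1).eq_zero
  rcases mul_eq_zero.1 (show c * (1 - c) = 0 by rw [← hc0]; ring) with h | h
  · exfalso
    rw [ha, show b = 0 by rw [hb, h, map_zero], sub_zero] at hnil
    obtain ⟨n, hn⟩ := hnil
    exact hne (by rw [← he.pow_succ_eq n, pow_succ, hn, zero_mul])
  · have h1 : c = 1 := (sub_eq_zero.1 h).symm
    rw [ha, show b = 1 by rw [hb, h1, map_one]] at hnil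
    obtain ⟨n, hn⟩ := hnil.neg
    rw [neg_sub] at hn
    have hi := he.one_sub
    have : 1 - e = 0 := by rw [← hi.pow_succ_eq n, pow_succ, hn, zero_mul]
    exact (sub_eq_zero.1 this).symm

end Idem

variable {G : Type u} [Group G] [Finite G] {p : ℕ} {M : Ideal AlgInt}

/-- The principal block idempotent has nonzero Brauer image at every p-subgroup. -/
theorem brTo_principal_ne_zero [M.IsMaximal] [Fact p.Prime] (hM : IsPModular p M) {P H : Subgroup G}
    (hP : IsPGroup p P) (hH : Subgroup.centralizer (P : Set G) ≤ H) :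
    brTo P H (blockIdem (isPBlock_principalBlock (G := G) (M := M)) :
      MonoidAlgebra (ResField M) G) ≠ 0 := by
  haveI := Fintype.ofFinite G
  haveI : CharP (ResField M) p := charP_resField hM.1 hM.2.2
  set B := principalBlock M G with hBdef
  have hB : IsPBlock M B := isPBlock_principalBlock
  set ε := (blockIdem hB : MonoidAlgebra (ResField M) G)
  have h1 : ∑ g : G, blockCoeff B g = 1 := by
    have := (CfsgLib.BlockReg.sum_blockCoeff_mul_char B CfsgLib.Char.principalIrr).1
      principalIrr_mem_principalBlock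
    simpa using this
  have hsum : ∑ g : G, ε.coeff g = 1 := by
    simp only [ε, coeff_blockIdem]
    rw [← map_sum, ← map_one (red M)]
    congr 1
    apply Subtype.ext
    rw [AddSubmonoidClass.coe_finsetSum]
    exact h1
  rw [brTo_ne_zero_iff hH]
  by_contra hcon
  push Not at hcon
  letI : MulAction P G := MulAction.compHom G
    ((ConjAct.toConjAct : G ≃* ConjAct G).toMonoidHom.comp P.subtype)
  have hsm : ∀ (u : P) (x : G), u • x = (u : G) * x * (u : G)⁻¹ := fun u x =>
    ConjAct.smul_def (ConjAct.toConjAct (u : G)) x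
  rw [sum_eq_sum_fixed hP (fun g => ε.coeff g) (fun u x => by
    rw [hsm]; exact conjFixed_of_mem_center (blockIdem hB).2 _ u.2 x)] at hsum
  rw [Finset.sum_eq_zero fun x hx => ?_] at hsum
  · exact zero_ne_one hsum
  refine hcon x ?_
  rw [Subgroup.mem_centralizer_iff]
  intro u hu
  have h2 := (Finset.mem_filter.1 hx).2 ⟨u, hu⟩
  rw [hsm] at h2
  calc u * x = u * x * u⁻¹ * u := by group
    _ = x * u := by rw [h2]

/-- The local criterion for a single p-block. -/
theorem sameBlock_of_local [Fact p.Prime] (hM : IsPModular p M)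
    (hloc : ∀ z : G, orderOf z = p → ∃ Q : Subgroup G, IsPGroup p Q ∧
      Q ≤ Subgroup.centralizer ({z} : Set G) ∧
      Subgroup.centralizer ({z} : Set G) ≤ Subgroup.normalizer (Q : Set G) ∧
      Subgroup.centralizer ({z} : Set G) ⊓ Subgroup.centralizer (Q : Set G) ≤ Q)
    (hdz : ∀ χ : IrrCharacter G,
      ¬ p ^ (Nat.card G).factorization p ∣ charDegree (χ : G → ℂ))
    (χ ψ : IrrCharacter G) : SameBlock M (χ : G → ℂ) (ψ : G → ℂ) := by
  haveI : M.IsMaximal := hM.2.1
  haveI : CharP (ResField M) p := charP_resField hM.1 hM.2.2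
  set B₀ := principalBlock M G
  have hB₀ : IsPBlock M B₀ := isPBlock_principalBlock
  suffices hall : ∀ B : Set (IrrCharacter G), IsPBlock M B → B = B₀ by
    have h1 := hall _ (CfsgLib.BlockReg.isPBlock_blockOf χ)
    have h2 := hall _ (CfsgLib.BlockReg.isPBlock_blockOf ψ)
    have : ψ ∈ blockOf M (χ : G → ℂ) := by
      rw [h1, ← h2]; exact CfsgLib.BlockReg.sameBlock_refl hM _
    exact this
  intro B hB
  by_contra hne
  obtain ⟨D, hD⟩ := exists_defectGroup hM hB
  have hDp := isPGroup_defectGroup hD
  have hDcard := card_defectGroup hM hB hD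
  have hd : blockDefect p B ≠ 0 := by
    intro h0
    obtain ⟨η, hη, hmin⟩ := CfsgLib.BlockReg.exists_minExp (p := p)
      (CfsgLib.BlockReg.block_nonempty hM hB)
    rw [CfsgLib.BlockReg.blockDefect_eq, Nat.sub_eq_zero_iff_le, ← hmin] at h0
    exact hdz η ((Nat.pow_dvd_pow p h0).trans (Nat.ordProj_dvd _ _))
  have hdvd : p ∣ Nat.card D := hDcard ▸ dvd_pow_self p hd
  obtain ⟨z, hz⟩ := exists_prime_orderOf_dvd_card' p hdvd
  set P := Subgroup.zpowers (z : G) with hPdef
  set H := Subgroup.centralizer ({(z : G)} : Set G) with hHdef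
  have hPD : P ≤ D := Subgroup.zpowers_le.2 z.2
  have hP : IsPGroup p P := hDp.to_le hPD
  have hCP : Subgroup.centralizer (P : Set G) = H := by
    refine le_antisymm (Subgroup.centralizer_le (by simp [P])) fun h hh => ?_
    rw [Subgroup.mem_centralizer_iff]
    intro u hu
    obtain ⟨k, rfl⟩ := Subgroup.mem_zpowers_iff.1 hu
    exact Commute.zpow_left (Subgroup.mem_centralizer_singleton_iff.1 hh).symm k
  have hHN : H ≤ Subgroup.normalizer (P : Set G) :=
    hCP ▸ Subgroup.centralizer_le_normalizer _
  obtain ⟨Q, hQp, hQH, hQn, hQC⟩ := hloc z (by rw [Subgroup.orderOf_coe, hz])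
  haveI : (Q.subgroupOf H).Normal := (Subgroup.normal_subgroupOf_iff_le_normalizer hQH).2 hQn
  have hQ' : IsPGroup p (Q.subgroupOf H) :=
    hQp.of_equiv (Subgroup.subgroupOfEquivOfLe hQH).symm
  have hC' : Subgroup.centralizer ((Q.subgroupOf H : Subgroup H) : Set H) ≤ Q.subgroupOf H := by
    intro c hc
    refine hQC (Subgroup.mem_inf.2 ⟨c.2, ?_⟩)
    rw [Subgroup.mem_centralizer_iff]
    intro q hq
    exact congrArg Subtype.val (Subgroup.mem_centralizer_iff.1 hc ⟨q, hQH hq⟩ hq)
  have key : ∀ (B' : Set (IrrCharacter G)) (hB' : IsPBlock M B'),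
      brTo P H (blockIdem hB' : MonoidAlgebra (ResField M) G) ≠ 0 →
        brTo P H (blockIdem hB' : MonoidAlgebra (ResField M) G) = 1 := by
    intro B' hB' hne'
    refine central_idem_eq_one (Q.subgroupOf H) hQ' hC'
      (brTo_mem_center hHN (blockIdem hB').2) ?_ hne'
    have hid : IsIdempotentElem (blockIdem hB' : MonoidAlgebra (ResField M) G) :=
      congrArg Subtype.val (isIdempotentElem_blockIdem hB').eq
    unfold IsIdempotentElem
    rw [← brTo_mul hP hCP.le (conjFixed_of_mem_center (blockIdem hB').2)
      (conjFixed_of_mem_center (blockIdem hB').2), hid.eq]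
  have hB1 := key B hB ((brTo_blockIdem_ne_zero_iff hM hB hD hP hCP.le).2
    ⟨1, fun u hu => by obtain ⟨w, hw, rfl⟩ := hu; simpa using hPD hw⟩)
  have hB01 := key B₀ hB₀ (brTo_principal_ne_zero hM hP hCP.le)
  have hz0 : blockIdem hB * blockIdem hB₀ = 0 := by
    have h2 : blockIdemR hB * blockIdemR hB₀ = 0 := lamR_ext fun η => by
      rw [map_mul, lamR_blockIdemR, lamR_blockIdemR, map_zero]
      by_cases h : η ∈ B
      · have : η ∉ B₀ := fun h' => hne (IsPBlock.eq_of_mem hB hB₀ h h')
        simp [blockInd, this]
      · simp [blockInd, h]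
    show mapCenter (red M) _ * mapCenter (red M) _ = 0
    rw [← map_mul, h2, map_zero]
  have hmul := brTo_mul (R := ResField M) hP hCP.le (conjFixed_of_mem_center (blockIdem hB).2)
    (conjFixed_of_mem_center (blockIdem hB₀).2)
  rw [hB1, hB01, mul_one, show (blockIdem hB : MonoidAlgebra (ResField M) G) *
    (blockIdem hB₀ : MonoidAlgebra (ResField M) G) = 0 from congrArg Subtype.val hz0,
    brTo_zero] at hmul
  exact zero_ne_one hmul

end CfsgLib.KGV
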