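import Cfsg.Agent.Lib.KGV.M24Local
import Cfsg.Agent.Lib.KGV.SingleBlock
import Cfsg.Agent.Lib.KGV.DefectZeroBound
import Cfsg.Agent.Lib.KGV.M24OrderData

/-!
# Subgroups of `M24` with a single 2-block: certificates

Bounds for centralisers of elements of prime order and the transfer of the local witnesses.
-/

set_option autoImplicit false

namespace CfsgLib.M24Calc

open Cfsg CfsgLib.Golay
open scoped Pointwise

variable {Γ : Subgroup (Equiv.Perm GolayPt)}

/-- The code as an element of a subgroup. -/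
noncomputable def elem (Γ : Subgroup (Equiv.Perm GolayPt)) {c : ℕ} (h : ofCode c ∈ Γ) : Γ :=
  ⟨ofCode c, h⟩

/-- Iterate of a coded permutation. -/
noncomputable def iter (c : ℕ) (k : ℕ) : ℕ → ℕ :=
  Nat.rec id (fun _ f j => app c (f j)) k

theorem isFun_iter {c : ℕ} (h : good c = true) : ∀ k, IsFun (ofCode c ^ k) (iter c k)
  | 0 => by rw [pow_zero]; exact IsFun.one
  | k + 1 => by rw [pow_succ']; exact (isFun_of_good h).mul (isFun_iter h k)

/-- Test that `c` has order `r`. -/
noncomputable def orderTest (c r : ℕ) : Bool :=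
  Nat.blt 0 r && eqF (iter c r) id && allLt r fun i => Nat.beq i 0 || !eqF (iter c i) id

theorem orderOf_of_test {c r : ℕ} (h : good c = true) (ht : orderTest c r = true) :
    orderOf (ofCode c) = r := by
  simp only [orderTest, Bool.and_eq_true, Nat.blt_eq] at ht
  rw [orderOf_eq_iff ht.1.1]
  refine ⟨eq_of_eqF (isFun_iter h r) IsFun.one ht.1.2, fun m hm hm0 he => ?_⟩
  have h1 := allLt_spec ht.2 m hm
  rw [eqF_of_eq (isFun_iter h m) IsFun.one he] at h1
  simp only [Bool.not_true, Bool.or_false, Nat.beq_eq] at h1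
  omega

/-- The number of listed elements of the stabiliser of five base points commuting with `c`. -/
noncomputable def commCount (c : ℕ) : ℕ :=
  ((L5.flatMap fun a => L6.map fun b => (a, b)).filter fun ab =>
    commF (fun j => app ab.1 (app ab.2 j)) (app c)).length

theorem card_centralizer_le {g : ℕ} (hg : good g = true) (hgΓ : ofCode g ∈ Γ) (hΓ : Γ ≤ M24)
    (x : GolayPt) (hx : ofCode g x ≠ x)
    (hbase : ∀ c : Γ, Commute c (elem Γ hgΓ) → (c : Equiv.Perm GolayPt) x = x →
      ∀ p ∈ [some 3, some 2, some 1, some 0, (none : GolayPt)], (c : Equiv.Perm GolayPt) p = p)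
    {m k : ℕ} (hm : pc24 (16777215 ^^^ fixMask (app g)) ≤ m) (hk : commCount g ≤ k) :
    Nat.card (Subgroup.centralizer ({elem Γ hgΓ} : Set Γ)) ≤ m * k := by
  classical
  set C := Subgroup.centralizer ({elem Γ hgΓ} : Set Γ)
  rw [← Subgroup.card_mul_index (MulAction.stabilizer C x), mul_comm, MulAction.index_stabilizer]
  have hcomm : ∀ c : C, Commute (c : Γ) (elem Γ hgΓ) := fun c =>
    Subgroup.mem_centralizer_singleton_iff.1 c.2
  refine Nat.mul_le_mul (le_trans ?_ hm) (le_trans ?_ hk)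
  · have hsub : MulAction.orbit C x ⊆
        ((Finset.univ.filter fun p => ofCode g p ≠ p : Finset GolayPt) : Set GolayPt) := by
      rintro _ ⟨c, rfl⟩
      simp only [Finset.coe_filter, Finset.mem_univ, true_and, Set.mem_ofPred_eq]
      intro h
      have h2 : (c : Γ).1 (ofCode g x) = ofCode g ((c : Γ).1 x) :=
        congrArg (fun σ : Γ => σ.1 x) (hcomm c).eq
      refine hx ((c : Γ).1.injective ?_)
      rw [h2]
      exact h
    refine le_trans (Set.ncard_le_ncard hsub) ?_
    rw [Set.ncard_coe_finset, pc24_eq, ← card_toSet]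
    refine le_of_eq (congrArg _ ?_)
    ext p
    rw [mem_toSet, Nat.testBit_xor, fixMask, testBit_bitsOf]
    have h1 : Nat.testBit 16777215 (bit p) = true := by revert p; decide +kernel
    simp only [h1, bit_lt, isFun_of_good hg p, Finset.mem_filter, Finset.mem_univ, true_and,
      decide_true, Bool.true_and]
    rw [Bool.true_xor, Bool.not_eq_true', ← Bool.not_eq_true, Nat.beq_eq]
    exact not_congr bit_injective.eq_iff.symm
  · let l := (L5.flatMap fun a => L6.map fun b => (a, b)).filter fun ab =>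
      commF (fun j => app ab.1 (app ab.2 j)) (app g)
    have hmem : ∀ c : MulAction.stabilizer C x, ∃ i : Fin l.length,
        IsFun ((c : C) : Γ).1 (fun j => app (l.get i).1 (app (l.get i).2 j)) := by
      intro c
      obtain ⟨a, ha, b, hb, hab⟩ := enum5 ⟨hΓ ((c : C) : Γ).2,
        hbase _ (hcomm c) (MulAction.mem_stabilizer_iff.1 c.2)⟩
      have hin : (a, b) ∈ l := List.mem_filter.2 ⟨List.mem_flatMap.2 ⟨a, ha, List.mem_map.2
        ⟨b, hb, rfl⟩⟩, commF_of_commute hab (isFun_of_good hg)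
          (congrArg Subtype.val (hcomm c).eq)⟩
      obtain ⟨i, hi⟩ := List.get_of_mem hin
      exact ⟨i, by rw [hi]; exact hab⟩
    choose f hf using hmem
    refine le_trans (Nat.card_le_card_of_injective f fun c d hcd => ?_) (by simp [commCount, l])
    apply Subtype.ext; apply Subtype.ext; apply Subtype.ext
    exact eq_of_eqF (hf c) (hf d) (by rw [hcd]; exact eqF_of_eq (hf d) (hf d) rfl)

/-- Test that the powers `k ^ i` cover all residues modulo `q` up to sign. -/
noncomputable def semiTest (q k : ℕ) : Bool :=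
  allLt q fun j => Nat.beq j 0 ||
    (List.range q).any fun i => Nat.beq (k ^ i % q) j || Nat.beq (k ^ i % q + j) q

theorem powersSemiRational {q k : ℕ} {g n : Γ} (hg : orderOf g = q) (hn : n * g * n⁻¹ = g ^ k)
    (hq : 0 < q) (ht : semiTest q k = true) : CfsgLib.KGV.PowersSemiRational q g := by
  have hpow : ∀ i, IsConj g (g ^ k ^ i) := by
    intro i
    induction i with
    | zero => rw [pow_zero, pow_one]
    | succ i ih =>
      refine ih.trans (isConj_iff.2 ⟨n, ?_⟩)
      rw [← conj_pow, hn, ← pow_mul, pow_succ']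
  intro j hj
  have h := allLt_spec ht (j % q) (Nat.mod_lt _ hq)
  rw [Bool.or_eq_true] at h
  rcases h with h | h
  · exact absurd (Nat.dvd_of_mod_eq_zero (Nat.eq_of_beq_eq_true h)) hj
  obtain ⟨i, -, h1⟩ := List.any_eq_true.1 h
  have hgj : g ^ j = g ^ (j % q) := by rw [← hg, pow_mod_orderOf]
  have hgi : g ^ (k ^ i) = g ^ (k ^ i % q) := by rw [← hg, pow_mod_orderOf]
  rw [Bool.or_eq_true] at h1
  rcases h1 with h1 | h1
  · left
    rw [hgj, ← Nat.eq_of_beq_eq_true h1, ← hgi]
    exact hpow i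
  · right
    have h2 : (g ^ (k ^ i))⁻¹ = g ^ j := by
      rw [inv_eq_iff_mul_eq_one, hgj, hgi, ← pow_add, Nat.eq_of_beq_eq_true h1, ← hg,
        pow_orderOf_eq_one]
    rw [← h2]
    obtain ⟨c, hc⟩ := isConj_iff.1 (hpow i)
    exact isConj_iff.2 ⟨c, by rw [← hc]; group⟩

theorem dvd_card_normalizer {q k r : ℕ} {g n : Γ} (hg : orderOf g = q) (hr : orderOf n = r)
    (hn : n * g * n⁻¹ = g ^ k) (hcop : Nat.Coprime q r) :
    q * r ∣ Nat.card (Subgroup.normalizer ((Subgroup.zpowers g : Subgroup Γ) : Set Γ)) := by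
  set N := Subgroup.normalizer ((Subgroup.zpowers g : Subgroup Γ) : Set Γ)
  have hgN : g ∈ N := Subgroup.le_normalizer (Subgroup.mem_zpowers g)
  have hnN : n ∈ N := by
    refine Subgroup.mem_normalizer_iff.2 fun x => ⟨fun hx => ?_, fun hx => ?_⟩
    · obtain ⟨i, rfl⟩ := Subgroup.mem_zpowers_iff.1 hx
      rw [← conj_zpow, hn]
      exact zpow_mem (pow_mem (Subgroup.mem_zpowers g) _) _
    · have hle : (Subgroup.zpowers g).map (MulAut.conj n).toMonoidHom = Subgroup.zpowers g := by
        refine Subgroup.eq_of_le_of_card_ge ?_ (le_of_eq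
          (Subgroup.card_map_of_injective (MulAut.conj n).injective).symm)
        rintro _ ⟨y, hy, rfl⟩
        obtain ⟨i, rfl⟩ := Subgroup.mem_zpowers_iff.1 hy
        show n * g ^ i * n⁻¹ ∈ _
        rw [← conj_zpow, hn]
        exact zpow_mem (pow_mem (Subgroup.mem_zpowers g) _) _
      rw [← hle] at hx
      obtain ⟨y, hy, hyx⟩ := hx
      have : y = x := (MulAut.conj n).injective hyx
      exact this ▸ hy
  exact hcop.mul_dvd_of_dvd_of_dvd (hg ▸ Subgroup.orderOf_dvd_natCard _ hgN)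
    (hr ▸ Subgroup.orderOf_dvd_natCard _ hnN)

/-- The local hypothesis for a subgroup of `M24` containing the witnesses. -/
theorem local_of_witness (hΓ : Γ ≤ M24)
    (hQ : ∀ z ∈ Γ, orderOf z = 2 → ∀ e ∈ M24, (∀ x, z x = x → e x = x) → e ∈ Γ)
    (z : Γ) (hz : orderOf z = 2) : ∃ Q : Subgroup Γ, IsPGroup 2 Q ∧
      Q ≤ Subgroup.centralizer ({z} : Set Γ) ∧
      Subgroup.centralizer ({z} : Set Γ) ≤ Subgroup.normalizer (Q : Set Γ) ∧
      Subgroup.centralizer ({z} : Set Γ) ⊓ Subgroup.centralizer (Q : Set Γ) ≤ Q := by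
  have hz' : orderOf (z : Equiv.Perm GolayPt) = 2 := by rw [Subgroup.orderOf_coe, hz]
  have hsq : (z : Equiv.Perm GolayPt) * z = 1 := by
    rw [← pow_two, ← hz', pow_orderOf_eq_one]
  have hne : (z : Equiv.Perm GolayPt) ≠ 1 := fun h => by simp [h] at hz'
  obtain ⟨Q, hw⟩ := exists_witness (hΓ z.2) hsq hne
  have hQΓ : Q ≤ Γ := fun e he => hQ z z.2 hz' e (hw.le he) (hw.fixes e he)
  refine ⟨Q.subgroupOf Γ, ?_, ?_, ?_, ?_⟩
  · rintro ⟨e, he⟩
    exact ⟨1, Subtype.ext (Subtype.ext (by simpa [pow_two] using hw.sq _ he))⟩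
  · intro e he
    rw [Subgroup.mem_centralizer_singleton_iff]
    exact Subtype.ext (hw.comm _ he).eq
  · intro c hc
    have hcz : Commute (c : Equiv.Perm GolayPt) z :=
      congrArg Subtype.val (Subgroup.mem_centralizer_singleton_iff.1 hc)
    refine Subgroup.mem_normalizer_iff.2 fun e => ⟨fun he => ?_, fun he => ?_⟩
    · exact hw.norm _ (hΓ c.2) hcz _ he
    · have h1 := hw.norm _ (inv_mem (hΓ c.2)) hcz.inv_left _ he
      rw [Subgroup.mem_subgroupOf]
      simpa [mul_assoc] using h1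
  · intro c hc
    obtain ⟨hc1, hc2⟩ := Subgroup.mem_inf.1 hc
    refine hw.self _ (hΓ c.2) (congrArg Subtype.val (Subgroup.mem_centralizer_singleton_iff.1 hc1))
      fun e he => ?_
    exact (congrArg Subtype.val (Subgroup.mem_centralizer_iff.1 hc2 ⟨e, hQΓ he⟩ he)).symm

theorem vanish_of_defect (p n : ℕ) [Fact p.Prime] (hn : p ^ n ∣ Nat.card Γ)
    (hn' : ¬ p ^ (n + 1) ∣ Nat.card Γ) (χ : IrrCharacter Γ)
    (hd : p ^ n ∣ charDegree (χ : Γ → ℂ)) (x : Γ) (hx : p ∣ orderOf x) : (χ : Γ → ℂ) x = 0 := by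
  obtain ⟨m, ρ, hirr, hρ⟩ := χ.2
  haveI := hirr
  have h1 : charDegree (χ : Γ → ℂ) = Module.finrank ℂ (Fin m → ℂ) := by
    rw [← hρ]
    exact CfsgLib.Char.degree_character ρ
  rw [← hρ]
  exact CfsgLib.Char.character_eq_zero_of_defect_zero ρ Fact.out hn hn' (h1 ▸ hd) x hx

end CfsgLib.M24Calc
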