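import Cfsg.Agent.Lib.Char.Basic
import Cfsg.Agent.Lib.Char.Integral
import Mathlib.RingTheory.IntegralClosure.Algebra.Basic
import Mathlib.RingTheory.Ideal.Quotient.Basic
import Mathlib.Algebra.CharP.Lemmas
import Mathlib.Algebra.CharP.Quotient

/-!
# Character values at `p`-elements are congruent to the degree
-/

set_option autoImplicit false

open Module

namespace CfsgLib.KGV

/-- A character of degree prime to `p` does not vanish at a `p`-element. -/
theorem character_apply_ne_zero {X : Type*} [Group X] [Finite X] {W : Type*} [AddCommGroup W]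
    [Module ℂ W] [FiniteDimensional ℂ W] (ρ : Representation ℂ X W) {p : ℕ} [hp : Fact p.Prime]
    {v : X} {k : ℕ} (hv : v ^ p ^ k = 1) (hdeg : ¬ p ∣ finrank ℂ W) : ρ.character v ≠ 0 := by
  obtain ⟨μ, hμ, -, -, hpow⟩ := CfsgLib.Char.exists_eigenvalues ρ v
  have hsum : ρ.character v = ∑ i, μ i := by simpa using hpow 1
  intro h0
  let R := integralClosure ℤ ℂ
  have hint : ∀ i, μ i ∈ R := fun i =>
    IsIntegral.of_pow (orderOf_pos v) (by rw [hμ i]; exact isIntegral_one)
  let I : Ideal R := Ideal.span {(p : R)}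
  by_cases hI : I = ⊤
  · -- `p` would be a unit among the algebraic integers
    obtain ⟨c, hc⟩ := Ideal.mem_span_singleton'.mp (hI ▸ Submodule.mem_top : (1 : R) ∈ I)
    have hpc : ((1 : ℕ) : ℂ) / (p : ℂ) = (c : ℂ) := by
      rw [div_eq_iff (Nat.cast_ne_zero.mpr hp.out.ne_zero), Nat.cast_one]
      simpa using (congrArg (Subtype.val) hc).symm
    have hd := CfsgLib.Char.dvd_of_isIntegral_natCast_div hp.out.ne_zero (hpc ▸ c.2)
    exact hp.out.ne_one (Nat.dvd_one.mp hd)
  · have : CharP (R ⧸ I) p := by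
      refine CharP.quotient R p fun hu => hI ?_
      exact Ideal.span_singleton_eq_top.mpr hu
    let f : Fin (finrank ℂ W) → R ⧸ I := fun i => Ideal.Quotient.mk I ⟨μ i, hint i⟩
    have h1 : ∀ i, f i ^ p ^ k = 1 := fun i => by
      rw [← map_pow, ← map_one (Ideal.Quotient.mk I)]
      congr 1
      apply Subtype.ext
      obtain ⟨c, hc⟩ := orderOf_dvd_of_pow_eq_one hv
      simp only [SubmonoidClass.coe_pow, OneMemClass.coe_one]
      rw [hc, pow_mul, hμ i, one_pow]
    have hs : ∑ i, f i = 0 := by
      rw [← map_sum, ← map_zero (Ideal.Quotient.mk I)]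
      congr 1
      apply Subtype.ext
      rw [AddSubmonoidClass.coe_finset_sum, ZeroMemClass.coe_zero]
      exact hsum.symm.trans h0
    have h2 := sum_pow_char_pow p k Finset.univ f
    rw [hs, zero_pow (pow_ne_zero _ hp.out.ne_zero), Finset.sum_congr rfl (fun i _ => h1 i),
      Finset.sum_const, Finset.card_univ, Fintype.card_fin, nsmul_one] at h2
    exact hdeg ((CharP.cast_eq_zero_iff (R ⧸ I) p _).mp h2.symm)

end CfsgLib.KGV
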