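import Cfsg.Agent.Lib.KGV.RamifiedTrace
import Cfsg.Agent.Lib.CharDeep.HallComplement
import Cfsg.Agent.Lib.CharTools.Basic
import Cfsg.Agent.Lib.Char.Twist
import Cfsg.Agent.Lib.Char.Virtual
import Cfsg.Agent.Lib.Char.CentralOver

/-!
# Odd multiplicities, signed irreducible characters, central scalars
-/

set_option autoImplicit false

namespace CfsgLib.KGV.Parity

open Cfsg CfsgLib CfsgLib.Char
open scoped ComplexConjugate

universe u v

/-- The multiplicity of `b` in `a` is odd. -/
def OddMult {G : Type u} [Group G] [Fintype G] (a b : G → ℂ) : Prop :=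
  ∃ m : ℕ, Cfsg.classInner a b = (m : ℂ) ∧ Odd m

theorem OddMult.ne_zero {G : Type u} [Group G] [Fintype G] {a b : G → ℂ} (h : OddMult a b) :
    Cfsg.classInner a b ≠ 0 := by
  obtain ⟨m, hm, ho⟩ := h
  rw [hm, Nat.cast_ne_zero]
  exact ho.pos.ne'

/-- Pulling back along a surjection does not change multiplicities. -/
theorem oddMult_comp {G : Type u} {K : Type v} [Group G] [Group K] [Fintype G] [Fintype K]
    (π : G →* K) (hπ : Function.Surjective π) (a b : K → ℂ) :
    OddMult (fun g => a (π g)) (fun g => b (π g)) ↔ OddMult a b := by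
  simp only [OddMult, CharTools.classInner_comp_surjective π hπ]

variable {G : Type u} [Group G] [Fintype G]

/-- A generalized character of norm one is irreducible up to sign. -/
theorem exists_sign_irr {f : G → ℂ} (hf : Cfsg.IsGeneralizedCharacter G f)
    (h1 : Cfsg.classInner f f = 1) :
    ∃ (ψ : IrrCharacter G) (ε : ℤ), (ε = 1 ∨ ε = -1) ∧ f = fun x => (ε : ℂ) * (ψ : G → ℂ) x := by
  obtain ⟨z, hz⟩ := IsGeneralizedCharacter.exists_int_apply_one hf
  obtain ⟨d, rfl | rfl⟩ := Int.eq_nat_or_neg z
  · refine ⟨⟨f, CharDeep.HallCompl.isIrr_of_norm_one hf h1 (d := d) (by simpa using hz)⟩, 1, Or.inl rfl, ?_⟩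
    funext x
    simp
  · refine ⟨⟨-f, CharDeep.HallCompl.isIrr_of_norm_one (IsGeneralizedCharacter.neg hf) ?_ (d := d)
      (by simp [hz])⟩, -1, Or.inr rfl, ?_⟩
    · rw [classInner_neg_left, classInner_neg_right, neg_neg, h1]
    · funext x
      simp

/-- An irreducible character trivial on the kernel of a surjection comes from below. -/
theorem exists_below {K : Type v} [Group K] (π : G →* K) (hπ : Function.Surjective π) {f : G → ℂ}
    (hf : IsIrrCharacter G f) (hker : ∀ k, π k = 1 → f k = f 1) :
    ∃ η : IrrCharacter K, ∀ g, (η : K → ℂ) (π g) = f g := by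
  obtain ⟨η, hη, he⟩ := CharTwist.exists_irr_quotient hf π.ker fun k hk => hker k hk
  let e := QuotientGroup.quotientKerEquivOfSurjective π hπ
  refine ⟨⟨η ∘ e.symm, CharTwist.isIrrCharacter_comp_equiv hη e.symm⟩, fun g => ?_⟩
  rw [he]
  exact congrArg η (e.injective (by rw [e.apply_symm_apply]; rfl))

/-- A constituent of a pulled-back character is pulled back. -/
theorem constituent_comp {K : Type v} [Group K] [Fintype K] (π : G →* K)
    (hπ : Function.Surjective π) {a : K → ℂ} (ha : IsCharacter K a) {f : G → ℂ}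
    (hf : IsIrrCharacter G f) (h : Cfsg.classInner (fun g => a (π g)) f ≠ 0) :
    ∃ η : IrrCharacter K, f = (fun g => (η : K → ℂ) (π g)) ∧
      Cfsg.classInner a (η : K → ℂ) = Cfsg.classInner (fun g => a (π g)) f := by
  obtain ⟨m, hm⟩ := IsCharacter.exists_nat_combination ha
  obtain ⟨η, hη⟩ : ∃ η : IrrCharacter K,
      Cfsg.classInner (fun g => (η : K → ℂ) (π g)) f ≠ 0 := by
    by_contra hcon
    push Not at hcon
    refine h ?_
    have e : (fun g => a (π g)) = ∑ η : IrrCharacter K, (m η : ℂ) • fun g => (η : K → ℂ) (π g) := by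
      funext g
      have := congrFun hm (π g)
      simpa [Finset.sum_apply] using this
    rw [e, classInner_sum_left]
    exact Finset.sum_eq_zero fun η _ => by rw [classInner_smul_left, hcon η, mul_zero]
  have he : (fun g => (η : K → ℂ) (π g)) = f :=
    eq_of_classInner_ne_zero (CharTools.isIrrCharacter_comp π hπ η.2) hf hη
  exact ⟨η, he.symm, by rw [← he, CharTools.classInner_comp_surjective π hπ]⟩

/-- A translation scales both entries of an inner product. -/
theorem scalar_mul_conj_eq_one {a b : G → ℂ} {z : G} {α β : ℂ} (ha : ∀ x, a (x * z) = α * a x)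
    (hb : ∀ x, b (x * z) = β * b x) (h : Cfsg.classInner a b ≠ 0) : α * conj β = 1 := by
  have e : Cfsg.classInner a b = (α * conj β) * Cfsg.classInner a b := by
    simp only [Cfsg.classInner]
    rw [mul_left_comm (α * conj β), Finset.mul_sum (a := α * conj β)]
    congr 1
    refine (Fintype.sum_equiv (Equiv.mulRight z) _ _ fun x => ?_).symm
    rw [Equiv.coe_mulRight, ha, hb, map_mul]
    ring
  exact mul_right_cancel₀ h (e.symm.trans (one_mul _).symm)

/-- A central scalar of a character passes to its constituents. -/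
theorem constituent_scalar {a b : G → ℂ} (hb : IsIrrCharacter G b) {z : G}
    (hz : z ∈ Subgroup.center G) {α : ℂ} (ha : ∀ x, a (x * z) = α * a x)
    (h : Cfsg.classInner a b ≠ 0) : b z = b 1 * α ∧ ∀ x, b (x * z) = α * b x := by
  have hb1 : b 1 ≠ 0 := IsIrrCharacter.apply_one_ne_zero hb
  have hbz : ∀ x, b (x * z) = b z / b 1 * b x := fun x => by
    rw [div_mul_eq_mul_div, eq_div_iff hb1, CharOver.apply_mul_central hb hz x, mul_comm]
  have h1 := scalar_mul_conj_eq_one ha hbz h
  have h2 := scalar_mul_conj_eq_one hbz hbz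
    (by rw [classInner_irr_self hb]; exact one_ne_zero)
  have he : α = b z / b 1 := by linear_combination (b z / b 1) * h1 - α * h2
  refine ⟨?_, fun x => by rw [he]; exact hbz x⟩
  rw [he, mul_div_cancel₀ _ hb1]

/-- An irreducible representation whose character vanishes off the centre: an intertwiner of an
automorphism without fixed points modulo the centre has trace of norm one. -/
theorem trace_mul_trace_inv {t : ℕ} (τ : Representation ℂ G (Fin t → ℂ)) [τ.IsIrreducible]
    (hvan : ∀ x, τ.character x ≠ 0 → x ∈ Subgroup.center G) (β : MulAut G)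
    (hβz : ∀ z ∈ Subgroup.center G, β z = z)
    (hβ : ∀ n, n * (β n)⁻¹ ∈ Subgroup.center G → n ∈ Subgroup.center G)
    (A : (Module.End ℂ (Fin t → ℂ))ˣ) (hA : ∀ n, τ (β n) * A.val = A.val * τ n) :
    LinearMap.trace ℂ _ A.val * LinearMap.trace ℂ _ A⁻¹.val = 1 := by
  classical
  have h2 := congrArg (fun Y => LinearMap.trace ℂ _ (Y * A⁻¹.val)) (Ramified.sum_conj_eq τ A.val)
  simp only [smul_mul_assoc, one_mul, map_smul, smul_eq_mul, Finset.sum_mul] at h2
  have h3 : ∀ x, LinearMap.trace ℂ _ (τ x * A.val * τ x⁻¹ * A⁻¹.val) =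
      if x ∈ Subgroup.center G then (t : ℂ) else 0 := fun x => by
    rw [mul_assoc (τ x), ← hA, ← mul_assoc, mul_assoc, Units.mul_inv, mul_one, ← map_mul, map_inv]
    split_ifs with hx
    · rw [hβz x hx, mul_inv_cancel, map_one, LinearMap.trace_one, Module.finrank_fin_fun]
    · by_contra hne
      exact hx (hβ x (hvan _ hne))
  rw [map_sum, Finset.sum_congr rfl fun x _ => h3 x, Finset.sum_ite, Finset.sum_const_zero,
    add_zero, Finset.sum_const, nsmul_eq_mul,
    show (Finset.univ.filter fun x => x ∈ Subgroup.center G).card =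
      Nat.card (Subgroup.center G) by rw [Nat.card_eq_fintype_card, Fintype.card_subtype]] at h2
  have h5 : (t : ℂ) ^ 2 * Nat.card (Subgroup.center G) = Nat.card G := by
    exact_mod_cast Ramified.degree_sq_eq τ hvan
  have h6 : (Nat.card G : ℂ) ≠ 0 := Nat.cast_ne_zero.2 Nat.card_pos.ne'
  refine mul_left_cancel₀ h6 ?_
  linear_combination -h2 + h5

end CfsgLib.KGV.Parity
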