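import Cfsg.Agent.Lib.Glauberman.PGroup
import Mathlib.GroupTheory.Commutator.Basic

/-!
# The quadratic function of a coprime action whose fixed points are the centre

For a group of odd order with central commutators the rule `a ∘ b = a b ⁅b, a⁆ ^ ((n + 1) / 2)`
gives an abelian group; the norm of the action on it, suitably powered, retracts onto the centre.
-/

set_option autoImplicit false

namespace CfsgLib.KGV.Parity

open CfsgLib.Glauberman
open scoped commutatorElement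

universe u v

variable {X : Type u} [Group X]

theorem comm_left {x z y : X} (h : ⁅z, y⁆ ∈ Subgroup.center X) :
    ⁅x * z, y⁆ = ⁅x, y⁆ * ⁅z, y⁆ := by
  have e : ⁅x * z, y⁆ = x * ⁅z, y⁆ * x⁻¹ * ⁅x, y⁆ := by
    simp only [commutatorElement_def]
    group
  rw [e, Subgroup.mem_center_iff.1 h x, mul_inv_cancel_right, ← Subgroup.mem_center_iff.1 h]

theorem comm_right {x z y : X} (h : ⁅x, y⁆ ∈ Subgroup.center X) :
    ⁅x, z * y⁆ = ⁅x, z⁆ * ⁅x, y⁆ := by
  have e : ⁅x, z * y⁆ = ⁅x, z⁆ * (z * ⁅x, y⁆ * z⁻¹) := by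
    simp only [commutatorElement_def]
    group
  rw [e, Subgroup.mem_center_iff.1 h z, mul_inv_cancel_right]

/-- An exponent inverse to one prime to the order. -/
theorem exists_inv_exp [Finite X] {n : ℕ} (h : n.Coprime (Nat.card X)) :
    ∃ k : ℕ, ∀ x : X, x ^ (n * k) = x := by
  rcases Nat.lt_or_ge 1 (Nat.card X) with h1 | h1
  · obtain ⟨k, -, hk⟩ := Nat.exists_mul_mod_eq_one_of_coprime h h1
    exact ⟨k, fun x => by rw [← pow_mod_natCard, hk, pow_one]⟩
  · have h0 : 0 < Nat.card X := Nat.card_pos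
    have := (Nat.card_eq_one_iff_unique.1 (show Nat.card X = 1 by omega)).1
    exact ⟨0, fun x => Subsingleton.elim _ _⟩

/-- The quadratic function. -/
theorem exists_quadratic_fixed [Finite X] (hX : Odd (Nat.card X)) {S : Type v} [Group S]
    [Finite S] (φ : S →* MulAut X) (hcop : (Nat.card S).Coprime (Nat.card X))
    (hfix : fixedSub φ = Subgroup.center X) (hcomm : ∀ a b : X, ⁅a, b⁆ ∈ Subgroup.center X) :
    ∃ f : X → X, (∀ x, f x ∈ Subgroup.center X) ∧ (∀ x y, f (x * y) = f x * f y * ⁅x, y⁆) ∧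
      (∀ z ∈ Subgroup.center X, f z = z ^ 2) ∧
      ∀ α : MulAut X, (∀ s x, α (φ s x) = φ s (α x)) → (∀ z ∈ Subgroup.center X, α z = z) →
        ∀ x, f (α x) = f x := by
  classical
  obtain ⟨m, hm⟩ := hX
  set e := m + 1 with he
  have hsq : ∀ x y : X, (⁅x, y⁆ ^ e) ^ 2 = ⁅x, y⁆ := fun x y => by
    rw [← pow_mul, show e * 2 = Nat.card X + 1 by omega, pow_succ, pow_card_eq_one', one_mul]
  have hcen : ∀ x y : X, ∀ n : ℕ, ⁅x, y⁆ ^ n ∈ Subgroup.center X := fun x y n =>
    Subgroup.pow_mem _ (hcomm x y) n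
  have hcml : ∀ x y : X, ∀ c ∈ Subgroup.center X, ⁅x * c, y⁆ = ⁅x, y⁆ := fun x y c hc => by
    rw [comm_left (hcomm c y), commutatorElement_eq_one_iff_mul_comm.2
      (Subgroup.mem_center_iff.1 hc y).symm, mul_one]
  have hcmr : ∀ x y : X, ∀ c ∈ Subgroup.center X, ⁅x, y * c⁆ = ⁅x, y⁆ := fun x y c hc => by
    rw [comm_right (hcomm x c), commutatorElement_eq_one_iff_mul_comm.2
      (Subgroup.mem_center_iff.1 hc x), mul_one]
  let B := {x : X // True}
  let bmul : B → B → B := fun a b => ⟨a.1 * b.1 * ⁅b.1, a.1⁆ ^ e, trivial⟩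
  let cg : CommGroup B :=
    { mul := bmul
      one := ⟨1, trivial⟩
      inv := fun a => ⟨a.1⁻¹, trivial⟩
      mul_assoc := fun a b c => Subtype.ext (by
        change a.1 * b.1 * ⁅b.1, a.1⁆ ^ e * c.1 * ⁅c.1, a.1 * b.1 * ⁅b.1, a.1⁆ ^ e⁆ ^ e =
          a.1 * (b.1 * c.1 * ⁅c.1, b.1⁆ ^ e) * ⁅b.1 * c.1 * ⁅c.1, b.1⁆ ^ e, a.1⁆ ^ e
        rw [hcmr _ _ _ (hcen _ _ e), hcml _ _ _ (hcen _ _ e), comm_left (hcomm _ _),
          comm_right (hcomm _ _)]
        have k2 : ∀ u v w : X, ∀ n : ℕ, Commute (⁅u, v⁆ ^ n) w := fun u v w n =>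
          (Subgroup.mem_center_iff.1 (hcen u v n) w).symm
        have k3 : ∀ u v w x : X, Commute ⁅u, v⁆ ⁅w, x⁆ := fun u v w x => by
          simpa using k2 u v ⁅w, x⁆ 1
        rw [(k3 _ _ _ _).mul_pow, (k3 _ _ _ _).mul_pow]
        rw [show a.1 * b.1 * ⁅b.1, a.1⁆ ^ e * c.1 = a.1 * b.1 * c.1 * ⁅b.1, a.1⁆ ^ e by
          rw [mul_assoc (a.1 * b.1), (k2 b.1 a.1 c.1 e).eq, ← mul_assoc]]
        simp only [mul_assoc]
        congr 3
        rw [← mul_assoc (⁅c.1, b.1⁆ ^ e), (k2 c.1 b.1 _ e).eq, mul_assoc,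
          (k2 c.1 b.1 (⁅c.1, a.1⁆ ^ e) e).eq])
      one_mul := fun a => Subtype.ext (by
        change 1 * a.1 * ⁅a.1, (1 : X)⁆ ^ e = a.1
        rw [commutatorElement_one_right, one_pow, one_mul, mul_one])
      mul_one := fun a => Subtype.ext (by
        change a.1 * 1 * ⁅(1 : X), a.1⁆ ^ e = a.1
        rw [commutatorElement_one_left, one_pow, mul_one, mul_one])
      inv_mul_cancel := fun a => Subtype.ext (by
        change a.1⁻¹ * a.1 * ⁅a.1, a.1⁻¹⁆ ^ e = 1
        rw [commutatorElement_eq_one_iff_mul_comm.2 (by simp), one_pow, mul_one, inv_mul_cancel])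
      mul_comm := fun a b => Subtype.ext (by
        change a.1 * b.1 * ⁅b.1, a.1⁆ ^ e = b.1 * a.1 * ⁅a.1, b.1⁆ ^ e
        have h1 : a.1 * b.1 = b.1 * a.1 * ⁅a.1, b.1⁆ := by
          rw [Subgroup.mem_center_iff.1 (hcomm a.1 b.1) (b.1 * a.1)]
          simp only [commutatorElement_def]
          group
        rw [h1, mul_assoc (b.1 * a.1), ← commutatorElement_inv a.1 b.1, inv_pow]
        congr 1
        rw [mul_inv_eq_iff_eq_mul, ← pow_add]
        calc ⁅a.1, b.1⁆ = (⁅a.1, b.1⁆ ^ e) ^ 2 := (hsq _ _).symm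
          _ = _ := by rw [← pow_mul]; congr 1; omega) }
  let := cg
  have hBmul : ∀ a b : B, (a * b).1 = a.1 * b.1 * ⁅b.1, a.1⁆ ^ e := fun a b => rfl
  have hBcen : ∀ a b : B, b.1 ∈ Subgroup.center X → (a * b).1 = a.1 * b.1 := fun a b hb => by
    rw [hBmul, commutatorElement_eq_one_iff_mul_comm.2 (Subgroup.mem_center_iff.1 hb a.1).symm,
      one_pow, mul_one]
  have hBpow : ∀ (a : B) (n : ℕ), (a ^ n).1 = a.1 ^ n := by
    intro a n
    induction n with
    | zero => rw [pow_zero, pow_zero]; rfl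
    | succ n ih =>
      rw [pow_succ, hBmul, ih,
        commutatorElement_eq_one_iff_mul_comm.2 ((Commute.refl a.1).pow_right n).eq, one_pow, mul_one,
        pow_succ]
  let lift : MulAut X → (B →* B) := fun α => MonoidHom.mk' (fun b => ⟨α b.1, trivial⟩) fun a b =>
    Subtype.ext (by
      change α (a * b).1 = _
      rw [hBmul, map_mul, map_mul, map_pow, map_commutatorElement]
      rfl)
  have hlift : ∀ α b, (lift α b).1 = α b.1 := fun α b => rfl
  let : Fintype S := Fintype.ofFinite S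
  let ν : B →* B := ∏ s : S, lift (φ s)
  have hν : ∀ b, ν b = ∏ s : S, lift (φ s) b := fun b => MonoidHom.finsetProd_apply _ _ _
  have hνfix : ∀ b, (ν b).1 ∈ Subgroup.center X := fun b => by
    rw [← hfix, mem_fixedSub]
    intro t
    have h1 : lift (φ t) (ν b) = ν b := by
      rw [hν, map_prod]
      refine Fintype.prod_equiv (Equiv.mulLeft t) _ _ fun s => Subtype.ext ?_
      rw [Equiv.coe_mulLeft, hlift, hlift, hlift, map_mul, MulAut.mul_apply]
    exact congrArg Subtype.val h1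
  obtain ⟨k, hk⟩ := exists_inv_exp hcop
  let π : B →* B := (powMonoidHom k).comp ν
  have hπfix : ∀ b, (π b).1 ∈ Subgroup.center X := fun b => by
    change (ν b ^ k).1 ∈ _
    rw [hBpow]
    exact pow_mem (hνfix b) k
  have hπz : ∀ b : B, b.1 ∈ Subgroup.center X → π b = b := fun b hb => Subtype.ext (by
    change (ν b ^ k).1 = b.1
    rw [hν, Finset.prod_congr rfl fun s _ => show lift (φ s) b = b from
        Subtype.ext ((mem_fixedSub φ).1 (hfix.symm ▸ hb) s),
      Finset.prod_const, Finset.card_univ, ← pow_mul, hBpow, ← Nat.card_eq_fintype_card, hk])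
  refine ⟨fun x => (π ⟨x, trivial⟩).1 ^ 2, fun x => pow_mem (hπfix _) 2, fun x y => ?_,
    fun z hz => by simp only [hπz ⟨z, trivial⟩ hz], fun α hα hαz x => ?_⟩
  · let a : B := ⟨x, trivial⟩
    let b : B := ⟨y, trivial⟩
    let c : B := ⟨⁅x, y⁆ ^ e, trivial⟩
    have hxy : (⟨x * y, trivial⟩ : B) = a * b * c := Subtype.ext (by
      rw [hBcen _ c (hcen _ _ e), hBmul]
      change x * y = x * y * ⁅y, x⁆ ^ e * ⁅x, y⁆ ^ e
      rw [← commutatorElement_inv x y, inv_pow, inv_mul_cancel_right])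
    change (π ⟨x * y, trivial⟩).1 ^ 2 = (π a).1 ^ 2 * (π b).1 ^ 2 * ⁅x, y⁆
    rw [hxy, map_mul, map_mul, hπz c (hcen _ _ e), hBcen _ c (hcen _ _ e), hBcen _ _ (hπfix b)]
    have k1 : Commute (π a).1 (π b).1 := Subgroup.mem_center_iff.1 (hπfix b) _
    have k2 : Commute ((π a).1 * (π b).1) c.1 := Subgroup.mem_center_iff.1 (hcen x y e) _
    rw [k2.mul_pow, k1.mul_pow, hsq]
  · refine congrArg (fun u : X => u ^ 2) ?_
    have h1 : π (lift α ⟨x, trivial⟩) = lift α (π ⟨x, trivial⟩) := by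
      change ν (lift α ⟨x, trivial⟩) ^ k = lift α (ν ⟨x, trivial⟩ ^ k)
      rw [map_pow, hν, hν, map_prod]
      congr 1
      refine Finset.prod_congr rfl fun s _ => Subtype.ext ?_
      rw [hlift, hlift, hlift, hlift, hα]
    change (π (lift α ⟨x, trivial⟩)).1 = _
    rw [h1, hlift, hαz _ (hπfix _)]

end CfsgLib.KGV.Parity
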