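import Cfsg.Agent.Lib.KGV.ParityRamified
import Cfsg.Agent.Lib.KGV.ParityQuadratic
import Cfsg.Agent.Lib.Glauberman.LayerBelow
import Cfsg.Agent.Lib.Solvable.CoprimeMulAction

/-!
# Parity correspondence over a central intersection

`K` is normal and invariant, the fixed points `C` supplement it, `K ⊓ C` is central and contains
the commutators of `K`.  The norm-trivial part of the centre of `K` lies in the kernel of every
invariant character over a faithful character of `K ⊓ C`; modulo it the section is fully ramified.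
-/

set_option autoImplicit false

namespace CfsgLib.KGV.Parity

open Cfsg CfsgLib CfsgLib.Char CfsgLib.Glauberman
open scoped commutatorElement

universe u

variable {G : Type u} [Group G] {S : Type u} [Group S]

/-- The hypotheses on the section. -/
structure Sect (φ : S →* MulAut G) (K : Subgroup G) : Prop where
  odd : Odd (Nat.card G)
  cop : (Nat.card G).Coprime (Nat.card S)
  solv : Group.IsSolvable G
  sup : K ⊔ fixedSub φ = ⊤
  inv : ∀ (s : S), ∀ x ∈ K, φ s x ∈ K
  cent : K ⊓ fixedSub φ ≤ Subgroup.center G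
  comm : ∀ a ∈ K, ∀ b ∈ K, ⁅a, b⁆ ∈ K ⊓ fixedSub φ

/-- The character `χ` of `G` lies over `lam` on `Z`. -/
def Over' (Z : Subgroup G) (lam : G → ℂ) (χ : G → ℂ) : Prop := ∀ z ∈ Z, χ z = χ 1 * lam z

/-- The character `ψ` of the fixed points lies over `lam` on their part in `K`. -/
def OverC (φ : S →* MulAut G) (K : Subgroup G) (lam : G → ℂ) (ψ : fixedSub φ → ℂ) : Prop :=
  ∀ c : fixedSub φ, (c : G) ∈ K → ψ c = ψ 1 * lam c

/-- A fixed point in an invariant coset. -/
theorem exists_fixed_coset [Finite G] [Finite S] (φ : S →* MulAut G)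
    (hcop : (Nat.card G).Coprime (Nat.card S)) (hsolv : Group.IsSolvable G) {D : Subgroup G}
    (hD : ∀ (s : S), ∀ d ∈ D, φ s d ∈ D) {x : G} (hx : ∀ s : S, x⁻¹ * φ s x ∈ D) :
    ∃ d ∈ D, x * d ∈ fixedSub φ :=
  letI : MulDistribMulAction S G := MulDistribMulAction.compHom G φ
  Solvable.exists_smul_fixed_mem_coset (A := S) (K := G) hcop.symm (Or.inr hsolv) hD hx

/-- An element of order prime to the exponent is trivial. -/
theorem eq_one_of_pow_coprime [Finite G] {x : G} {n : ℕ} (h : x ^ n = 1)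
    (hcop : (Nat.card G).Coprime n) : x = 1 := by
  rw [← orderOf_eq_one_iff]
  exact Nat.eq_one_of_dvd_coprimes hcop (orderOf_dvd_natCard x) (orderOf_dvd_of_pow_eq_one h)

variable {φ : S →* MulAut G} {K : Subgroup G} [K.Normal] [Fintype G] [Finite S]
  [Fintype (fixedSub φ)] {lam : G → ℂ}

/-- The correspondence over a central intersection. -/
theorem Sect.parity (h : Sect φ K)
    (hlam : ∀ z ∈ K ⊓ fixedSub φ, lam z = 1 → z = 1) :
    (∀ χ : IrrCharacter G, Inv φ (χ : G → ℂ) → Over' (K ⊓ fixedSub φ) lam χ →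
      ∃! ψ : IrrCharacter (fixedSub φ),
        OddMult (fun c : fixedSub φ => (χ : G → ℂ) c) (ψ : fixedSub φ → ℂ)) ∧
    (∀ χ χ' : IrrCharacter G, Inv φ (χ : G → ℂ) → Inv φ (χ' : G → ℂ) →
      Over' (K ⊓ fixedSub φ) lam χ → Over' (K ⊓ fixedSub φ) lam χ' →
      ∀ ψ : IrrCharacter (fixedSub φ),
      OddMult (fun c : fixedSub φ => (χ : G → ℂ) c) (ψ : fixedSub φ → ℂ) →
      OddMult (fun c : fixedSub φ => (χ' : G → ℂ) c) (ψ : fixedSub φ → ℂ) → χ = χ') ∧
    (∀ ψ : IrrCharacter (fixedSub φ), OverC φ K lam ψ →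
      ∃ χ : IrrCharacter G, Inv φ (χ : G → ℂ) ∧ Over' (K ⊓ fixedSub φ) lam χ ∧
        OddMult (fun c : fixedSub φ => (χ : G → ℂ) c) (ψ : fixedSub φ → ℂ)) := by
  classical
  have := h.solv
  let : Fintype S := Fintype.ofFinite S
  let C := fixedSub φ
  have hC : ∀ {g : G}, g ∈ C ↔ ∀ s, φ s g = g := mem_fixedSub φ
  have hφC : ∀ (s : S) (g : G), g ∈ C → φ s g = g := fun s g hg => hC.1 hg s
  let R := K ⊓ Subgroup.centralizer (K : Set G)
  have hRn : R.Normal := inferInstance
  have hRinv : ∀ (s : S), ∀ x ∈ R, φ s x ∈ R := fun s x hx =>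
    ⟨h.inv s x hx.1, Subgroup.mem_centralizer_iff.2 fun y hy => by
      have h1 := Subgroup.mem_centralizer_iff.1 hx.2 (φ s⁻¹ y) (h.inv s⁻¹ y hy)
      have h2 := congrArg (φ s) h1
      rwa [map_mul, map_mul, ← MulAut.mul_apply, ← map_mul, mul_inv_cancel, map_one,
        MulAut.one_apply] at h2⟩
  let : CommGroup R := { Subgroup.toGroup R with
    mul_comm := fun a b => Subtype.ext (Subgroup.mem_centralizer_iff.1 b.2.2 a a.2.1) }
  let φR := restrSub φ R hRinv
  let N : R →* R := ∏ s : S, (φR s).toMonoidHom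
  have hN : ∀ x, N x = ∏ s : S, φR s x := fun x => MonoidHom.finsetProd_apply _ _ _
  have hNfix : ∀ x, ((N x : R) : G) ∈ C := fun x => hC.2 fun t => by
    refine congrArg Subtype.val (?_ : φR t (N x) = N x)
    rw [hN, map_prod]
    refine Fintype.prod_equiv (Equiv.mulLeft t) _ _ fun s => ?_
    rw [Equiv.coe_mulLeft, map_mul, MulAut.mul_apply]
  have hNz : ∀ x : R, (x : G) ∈ C → N x = x ^ Nat.card S := fun x hx => by
    rw [hN, Finset.prod_congr rfl fun s _ => show φR s x = x from Subtype.ext (hφC s _ hx),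
      Finset.prod_const, Finset.card_univ, Nat.card_eq_fintype_card]
  let D := N.ker.map R.subtype
  have hDR : D ≤ R := Subgroup.map_subtype_le _
  have hDmem : ∀ x : R, (x : G) ∈ D ↔ N x = 1 := fun x =>
    ⟨fun ⟨y, hy, e⟩ => by rw [← Subtype.ext e]; exact hy, fun hx => ⟨x, hx, rfl⟩⟩
  have hDC : ∀ d ∈ D, d ∈ C → d = 1 := by
    rintro _ ⟨y, hy, rfl⟩ hdC
    have h1 : y ^ Nat.card S = 1 := (hNz y hdC).symm.trans hy
    exact eq_one_of_pow_coprime (congrArg Subtype.val h1) h.cop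
  have hDinv : ∀ (s : S), ∀ d ∈ D, φ s d ∈ D := by
    rintro t _ ⟨y, hy, rfl⟩
    refine (hDmem (φR t y)).2 ?_
    have e : N (φR t y) = N y := by
      rw [hN, hN]
      refine Fintype.prod_equiv (Equiv.mulRight t) _ _ fun s => ?_
      rw [Equiv.coe_mulRight, map_mul, MulAut.mul_apply]
    exact e.trans hy
  have hDn : D.Normal := by
    rw [← Subgroup.normalizer_eq_top_iff, eq_top_iff, ← h.sup, sup_le_iff,
      Subgroup.le_normalizer_iff, Subgroup.le_normalizer_iff]
    refine ⟨fun k hk d hd => ?_, fun c hc d hd => ?_⟩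
    · rw [Subgroup.mem_centralizer_iff.1 (hDR hd).2 k hk, mul_inv_cancel_right]
      exact hd
    · obtain ⟨y, hy, rfl⟩ := hd
      refine (hDmem (MulAut.conjNormal (H := R) c y)).2 ?_
      have e : N (MulAut.conjNormal (H := R) c y) = MulAut.conjNormal (H := R) c (N y) := by
        rw [hN, hN, map_prod]
        refine Finset.prod_congr rfl fun s _ => Subtype.ext ?_
        rw [MulAut.conjNormal_apply]
        change φ s ((MulAut.conjNormal (H := R) c y : R) : G) = c * φ s (y : G) * c⁻¹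
        rw [MulAut.conjNormal_apply, map_mul, map_mul, map_inv, hφC s c hc]
      rw [e, show N y = 1 from hy, map_one]
  -- invariant characters over `lam` are trivial on `D`
  let : Fintype D := Fintype.ofFinite D
  have hDtriv : ∀ χ : IrrCharacter G, Inv φ (χ : G → ℂ) → ∀ d ∈ D, (χ : G → ℂ) d = (χ : G → ℂ) 1 := by
    intro χ hχ d hd
    obtain ⟨θ, hθ, hθs⟩ := exists_fixed_below φ D hχ hDinv
      (h.cop.coprime_dvd_left D.index_dvd_card) (Or.inl inferInstance)
    obtain ⟨h1, hm, -⟩ := CharOver.abelian_irr (G := D) (fun a b => Subtype.ext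
      (Subgroup.mem_centralizer_iff.1 (hDR b.2).2 a (hDR a.2).1)) θ.2
    let ν : D →* ℂ := { toFun := (θ : D → ℂ), map_one' := h1, map_mul' := hm }
    have hθ1 : ∀ x : D, (θ : D → ℂ) x = 1 := by
      intro x
      obtain ⟨y, hy, hyx⟩ := x.2
      let g : S → D := fun s => ⟨φ s (x : G), hDinv s _ x.2⟩
      let : CommGroup D := { Subgroup.toGroup D with
        mul_comm := fun a b => Subtype.ext
          (Subgroup.mem_centralizer_iff.1 (hDR b.2).2 a (hDR a.2).1) }
      let i : D →* R := Subgroup.inclusion hDR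
      have hprod : ∏ s : S, g s = 1 := by
        refine Subgroup.inclusion_injective hDR (?_ : i (∏ s : S, g s) = i 1)
        rw [map_one, map_prod, ← (show N y = 1 from hy), hN]
        refine Finset.prod_congr rfl fun s _ => Subtype.ext ?_
        change φ s (x : G) = φ s (y : G)
        rw [← hyx]
        rfl
      have h2 : ν x ^ Nat.card S = 1 := by
        calc ν x ^ Nat.card S = ∏ _s : S, ν x := by
              rw [Finset.prod_const, Finset.card_univ, Nat.card_eq_fintype_card]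
          _ = ∏ s : S, ν (g s) := Finset.prod_congr rfl fun s _ => (hθs s x (g s) rfl).symm
          _ = ν (∏ s : S, g s) := (map_prod ν g _).symm
          _ = 1 := by rw [hprod, map_one]
      have h3 : ν x ^ Nat.card G = 1 := by
        obtain ⟨j, hj⟩ := Subgroup.card_subgroup_dvd_card D
        rw [← map_pow, hj, pow_mul, pow_card_eq_one', one_pow, map_one]
      have h4 := pow_gcd_eq_one.2 ⟨h3, h2⟩
      rw [h.cop.gcd_eq_one, pow_one] at h4
      exact h4
    obtain ⟨e, -, he⟩ := CharDeep.Cliff.res_eq_smul D χ.2 θ.2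
      (fun g => funext fun n => by simp only [CharTwist.conjFun, hθ1]) hθ
    have e1 := congrFun he ⟨d, hd⟩
    have e2 := congrFun he 1
    simp only [Pi.smul_apply, hθ1, Subgroup.coe_one] at e1 e2
    rw [e1, e2]
  -- the quotient
  let Q := G ⧸ D
  let : Fintype Q := Fintype.ofFinite Q
  let q := QuotientGroup.mk' D
  have hq : Function.Surjective q := QuotientGroup.mk'_surjective D
  have hqeq : ∀ {x y : G}, q x = q y → x⁻¹ * y ∈ D := fun h => QuotientGroup.eq.1 h
  have hmap : ∀ s, D.map (φ s : G →* G) = D := fun s => by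
    refine le_antisymm (by rintro _ ⟨d, hd, rfl⟩; exact hDinv s d hd) fun d hd =>
      ⟨φ s⁻¹ d, hDinv s⁻¹ d hd, ?_⟩
    change φ s (φ s⁻¹ d) = d
    rw [← MulAut.mul_apply, ← map_mul, mul_inv_cancel, map_one, MulAut.one_apply]
  let φQ : S →* MulAut Q :=
    { toFun := fun s => QuotientGroup.congr D D (φ s) (hmap s)
      map_one' := MulEquiv.ext fun z => by
        induction z using QuotientGroup.induction_on with | H x =>
        change ((φ 1 x : G) : Q) = _
        rw [map_one]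
        rfl
      map_mul' := fun s t => MulEquiv.ext fun z => by
        induction z using QuotientGroup.induction_on with | H x =>
        change ((φ (s * t) x : G) : Q) = ((φ s (φ t x) : G) : Q)
        rw [map_mul]
        rfl }
  have hφQ : ∀ s x, φQ s (q x) = q (φ s x) := fun s x => rfl
  let CQ := fixedSub φQ
  let KQ := K.map q
  have hKQn : KQ.Normal := (‹K.Normal›).map q hq
  have hCQ : ∀ y ∈ CQ, ∀ x, q x = y → ∃ d ∈ D, x * d ∈ C := fun y hy x hx =>
    exists_fixed_coset φ h.cop h.solv hDinv fun s => hqeq (by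
      rw [← hφQ, hx]; exact ((mem_fixedSub φQ).1 hy s).symm)
  have hCQ' : ∀ {c : G}, c ∈ C → q c ∈ CQ := fun hc => (mem_fixedSub φQ).2 fun s => by
    rw [hφQ, hφC s _ hc]
  have hqD : ∀ {d : G}, d ∈ D → q d = 1 := fun hd => (QuotientGroup.eq_one_iff _).2 hd
  -- the centre of `KQ`
  have hZ : ∀ z : KQ, (z : Q) ∈ CQ → ∃ x ∈ K ⊓ C, q x = (z : Q) := by
    rintro ⟨_, x, hxK, rfl⟩ hzC
    obtain ⟨d, hd, hxd⟩ := hCQ _ hzC x rfl
    exact ⟨x * d, ⟨mul_mem hxK (hDR hd).1, hxd⟩, by rw [map_mul, hqD hd, mul_one]⟩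
  have hcenC : ∀ z : KQ, z ∈ Subgroup.center KQ → (z : Q) ∈ CQ := by
    rintro ⟨_, x, hxK, rfl⟩ hz
    have hxR : x ∈ R := by
      refine ⟨hxK, Subgroup.mem_centralizer_iff.2 fun y hy => ?_⟩
      have h1 : ⁅y, x⁆ ∈ D := by
        refine (QuotientGroup.eq_one_iff _).1 (show q ⁅y, x⁆ = 1 from ?_)
        rw [map_commutatorElement, commutatorElement_eq_one_iff_mul_comm]
        exact congrArg Subtype.val (Subgroup.mem_center_iff.1 hz ⟨q y, y, hy, rfl⟩)
      exact commutatorElement_eq_one_iff_mul_comm.1 (hDC _ h1 (h.comm y hy x hxK).2)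
    obtain ⟨k, hk⟩ := exists_inv_exp (X := G) h.cop.symm
    let xR : R := ⟨x, hxR⟩
    let z0 : R := N xR ^ k
    have hz0 : (z0 : G) ∈ C := by rw [SubmonoidClass.coe_pow]; exact pow_mem (hNfix xR) k
    have hd : ((z0⁻¹ * xR : R) : G) ∈ D := (hDmem _).2 (by
      rw [map_mul, map_inv, hNz z0 hz0, inv_mul_eq_one, ← pow_mul]
      exact Subtype.ext (by rw [SubmonoidClass.coe_pow, mul_comm, hk]))
    have e : q x = q (z0 : G) := by
      rw [eq_comm]
      exact QuotientGroup.eq.2 hd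
    change q x ∈ CQ
    rw [e]
    exact hCQ' hz0
  have hCcenG : ∀ z : KQ, (z : Q) ∈ CQ → (z : Q) ∈ Subgroup.center Q := fun z hz => by
    obtain ⟨x, hx, hxz⟩ := hZ z hz
    rw [← hxz]
    refine Subgroup.mem_center_iff.2 fun y => ?_
    obtain ⟨y, rfl⟩ := hq y
    rw [← map_mul, ← map_mul, Subgroup.mem_center_iff.1 (h.cent hx) y]
  have hCcen : ∀ z : KQ, (z : Q) ∈ CQ → z ∈ Subgroup.center KQ := fun z hz =>
    Subgroup.mem_center_iff.2 fun y => Subtype.ext (Subgroup.mem_center_iff.1 (hCcenG z hz) _)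
  have hcommQ : ∀ a b : KQ, ⁅a, b⁆ ∈ Subgroup.center KQ := by
    rintro ⟨_, x, hx, rfl⟩ ⟨_, y, hy, rfl⟩
    refine hCcen _ ?_
    change q x * q y * (q x)⁻¹ * (q y)⁻¹ ∈ CQ
    rw [← commutatorElement_def, ← map_commutatorElement]
    exact hCQ' (h.comm x hx y hy).2
  have hKQinv : ∀ (s : S), ∀ y ∈ KQ, φQ s y ∈ KQ := by
    rintro s _ ⟨x, hx, rfl⟩
    exact ⟨φ s x, h.inv s x hx, (hφQ s x).symm⟩
  let φK := restrSub φQ KQ hKQinv
  have hfixK : fixedSub φK = Subgroup.center KQ := by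
    ext z
    rw [mem_fixedSub]
    refine ⟨fun hz => hCcen z ((mem_fixedSub φQ).2 fun s => congrArg Subtype.val (hz s)),
      fun hz s => Subtype.ext ((mem_fixedSub φQ).1 (hcenC z hz) s)⟩
  have hcardKQ : Nat.card KQ ∣ Nat.card G :=
    (Subgroup.card_subgroup_dvd_card KQ).trans (Subgroup.card_quotient_dvd_card D)
  obtain ⟨f, hfz, hfmul, hfsq, hfα⟩ := exists_quadratic_fixed (h.odd.of_dvd_nat hcardKQ) φK
    (h.cop.symm.coprime_dvd_right hcardKQ) hfixK hcommQ
  have hf1 : f 1 = 1 := by rw [hfsq 1 (one_mem _), one_pow]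
  have hfinv : ∀ x, f x⁻¹ = (f x)⁻¹ := fun x => eq_inv_of_mul_eq_one_left (by
    have h1 := hfmul x⁻¹ x
    rwa [inv_mul_cancel, hf1, commutatorElement_eq_one_iff_mul_comm.2 (by simp), mul_one,
      eq_comm] at h1)
  have hfc : ∀ x w, f x * w = w * f x := fun x w => (Subgroup.mem_center_iff.1 (hfz x) w).symm
  let sig : KQ → KQ := fun x => x⁻¹ * f x
  have hsigz : ∀ z ∈ Subgroup.center KQ, sig z = z := fun z hz => by
    simp only [sig, hfsq z hz, pow_two, inv_mul_cancel_left]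
  have hsigmul : ∀ x y, sig (x * y) = sig x * sig y := fun x y => by
    simp only [sig, hfmul, mul_inv_rev]
    have hc := Subgroup.mem_center_iff.1 (hcommQ x y)
    calc y⁻¹ * x⁻¹ * (f x * f y * ⁅x, y⁆)
        = y⁻¹ * x⁻¹ * ⁅x, y⁆ * (f x * f y) := by rw [mul_assoc (y⁻¹ * x⁻¹), hc (f x * f y)]
      _ = x⁻¹ * y⁻¹ * (f x * f y) := by simp only [commutatorElement_def]; group
      _ = x⁻¹ * f x * (y⁻¹ * f y) := by
        rw [mul_assoc x⁻¹, ← mul_assoc y⁻¹ (f x), ← hfc x y⁻¹]; group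
  have hsigsig : ∀ x, sig (sig x) = x := fun x => by
    change sig (x⁻¹ * f x) = x
    rw [hsigmul, hsigz (f x) (hfz x)]
    simp only [sig, hfinv, inv_inv]
    rw [mul_assoc, inv_mul_cancel, mul_one]
  let σ : MulAut KQ :=
    { toFun := sig, invFun := sig, left_inv := hsigsig, right_inv := hsigsig, map_mul' := hsigmul }
  have hram : Ram KQ CQ σ :=
    { odd := h.odd.of_dvd_nat (Subgroup.card_quotient_dvd_card D)
      sup := by
        refine eq_top_iff.2 fun y _ => ?_
        obtain ⟨x, rfl⟩ := hq y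
        obtain ⟨a, ha, c, hc, rfl⟩ := Subgroup.mem_sup_of_normal_left.1
          (h.sup.symm ▸ Subgroup.mem_top x : x ∈ K ⊔ fixedSub φ)
        rw [map_mul]
        exact Subgroup.mul_mem_sup ⟨a, ha, rfl⟩ (hCQ' hc)
      inC := fun z hz => ⟨hcenC z hz, hCcenG z (hcenC z hz)⟩
      cen := hCcen
      comm := hcommQ
      fixσ := hsigz
      invol := hsigsig
      inv := fun x => by
        change x * (x⁻¹ * f x) ∈ _
        rw [mul_inv_cancel_left]
        exact hfz x
      commσ := fun c hc x => by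
        change sig _ = MulAut.conjNormal (H := KQ) c (sig x)
        have hαz : ∀ z ∈ Subgroup.center KQ, MulAut.conjNormal (H := KQ) c z = z := fun z hz =>
          Subtype.ext (by
            rw [MulAut.conjNormal_apply]
            exact conj_central (hCcenG z (hcenC z hz)) c)
        simp only [sig, map_mul, map_inv, hαz _ (hfz x)]
        rw [hfα (MulAut.conjNormal (H := KQ) c) (fun s x => Subtype.ext (by
          change ((MulAut.conjNormal (H := KQ) c (φK s x) : KQ) : Q) =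
            φQ s ((MulAut.conjNormal (H := KQ) c x : KQ) : Q)
          rw [MulAut.conjNormal_apply, MulAut.conjNormal_apply, map_mul, map_mul, map_inv,
            (mem_fixedSub φQ).1 hc s]
          rfl)) hαz] }
  -- `lam` downstairs
  have hqinj : ∀ x ∈ K ⊓ C, ∀ y ∈ K ⊓ C, q x = q y → x = y := fun x hx y hy hxy =>
    inv_mul_eq_one.1 (hDC _ (hqeq hxy) (mul_mem (inv_mem hx.2) hy.2))
  let lamQ : KQ → ℂ := fun z => if hz : ∃ x ∈ K ⊓ C, q x = (z : Q) then lam hz.choose else 0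
  have hlamQ : ∀ (z : KQ), ∀ x ∈ K ⊓ C, q x = (z : Q) → lamQ z = lam x := fun z x hx hxz => by
    have hz : ∃ x ∈ K ⊓ C, q x = (z : Q) := ⟨x, hx, hxz⟩
    simp only [lamQ, dif_pos hz]
    rw [hqinj _ hz.choose_spec.1 x hx (hz.choose_spec.2.trans hxz.symm)]
  have hlamf : ∀ z ∈ Subgroup.center KQ, lamQ z = 1 → z = 1 := fun z hz h1 => by
    obtain ⟨x, hx, hxz⟩ := hZ z (hcenC z hz)
    rw [hlamQ z x hx hxz] at h1
    refine Subtype.ext ?_
    rw [← hxz, hlam x hx h1, map_one]
    rfl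
  let : Fintype CQ := Fintype.ofFinite CQ
  obtain ⟨P1, P2, P3⟩ := hram.parity hlamf
  let π : C →* CQ := (q.comp C.subtype).codRestrict CQ fun c => hCQ' c.2
  have hπ : Function.Bijective π := by
    constructor
    · intro a b hab
      exact Subtype.ext (inv_mul_eq_one.1 (hDC _ (hqeq (congrArg Subtype.val hab))
        (mul_mem (inv_mem a.2) b.2)))
    · rintro ⟨y, hy⟩
      obtain ⟨x, rfl⟩ := hq y
      obtain ⟨d, hd, hxd⟩ := hCQ _ hy x rfl
      refine ⟨⟨x * d, hxd⟩, Subtype.ext ?_⟩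
      change q (x * d) = q x
      rw [map_mul, hqD hd, mul_one]
  let eC : C ≃* CQ := MulEquiv.ofBijective π hπ
  -- descent of the characters
  have hdown : ∀ χ : IrrCharacter G, Inv φ (χ : G → ℂ) → Over' (K ⊓ C) lam χ →
      ∃ χQ : IrrCharacter Q, (∀ g, (χQ : Q → ℂ) (q g) = (χ : G → ℂ) g) ∧ Above KQ lamQ χQ := by
    intro χ hχ ha
    obtain ⟨η, hη, he⟩ := CharTwist.exists_irr_quotient χ.2 D (hDtriv χ hχ)
    refine ⟨⟨η, hη⟩, fun g => (congrFun he g).symm, fun z hz => ?_⟩
    obtain ⟨x, hx, hxz⟩ := hZ z (hcenC z hz)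
    rw [hlamQ z x hx hxz, ← hxz]
    change η (q x) = η 1 * lam x
    rw [← map_one q, show η (q x) = (χ : G → ℂ) x from (congrFun he x).symm,
      show η (q 1) = (χ : G → ℂ) 1 from (congrFun he 1).symm, ha x hx]
  have hodd : ∀ (χ : IrrCharacter G) (χQ : IrrCharacter Q),
      (∀ g, (χQ : Q → ℂ) (q g) = (χ : G → ℂ) g) → ∀ η : IrrCharacter CQ,
      (OddMult (fun c : C => (χ : G → ℂ) c) ((irrEquiv eC η : IrrCharacter C) : C → ℂ) ↔
        OddMult (fun c : CQ => (χQ : Q → ℂ) c) (η : CQ → ℂ)) := by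
    intro χ χQ he η
    rw [← oddMult_comp π hπ.2 (fun c : CQ => (χQ : Q → ℂ) c) (η : CQ → ℂ)]
    refine Eq.to_iff (congrArg (fun a => OddMult a _) ?_)
    funext c
    exact (he c).symm
  refine ⟨fun χ hχ ha => ?_, fun χ χ' hχ hχ' ha ha' ψ h1 h2 => ?_, fun ψ hψ => ?_⟩
  · obtain ⟨χQ, he, haQ⟩ := hdown χ hχ ha
    obtain ⟨η, hη, hu⟩ := P1 χQ haQ
    refine ⟨irrEquiv eC η, (hodd χ χQ he η).2 hη, fun ψ hψ => ?_⟩
    have h1 := hu ((irrEquiv eC).symm ψ) ((hodd χ χQ he _).1 (by rwa [Equiv.apply_symm_apply]))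
    rw [← h1, Equiv.apply_symm_apply]
  · obtain ⟨χQ, he, haQ⟩ := hdown χ hχ ha
    obtain ⟨χQ', he', haQ'⟩ := hdown χ' hχ' ha'
    have h3 := P2 χQ χQ' haQ haQ' ((irrEquiv eC).symm ψ)
      ((hodd χ χQ he _).1 (by rwa [Equiv.apply_symm_apply]))
      ((hodd χ' χQ' he' _).1 (by rwa [Equiv.apply_symm_apply]))
    exact Subtype.ext (funext fun g => by rw [← he, ← he', h3])
  · set η := (irrEquiv eC).symm ψ with hη
    have hψη : ∀ c : C, (ψ : C → ℂ) c = (η : CQ → ℂ) (π c) := fun c => by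
      conv_lhs => rw [← (irrEquiv eC).apply_symm_apply ψ]
      rfl
    have habC : AboveC KQ CQ lamQ η := by
      intro c z hz hcz
      obtain ⟨x, hx, hxz⟩ := hZ z (hcenC z hz)
      have e : c = π ⟨x, hx.2⟩ := Subtype.ext (hcz.trans hxz.symm)
      rw [hlamQ z x hx hxz, e, ← map_one π, ← hψη, ← hψη]
      exact hψ ⟨x, hx.2⟩ hx.1
    obtain ⟨χQ, haQ, hoQ⟩ := P3 η habC
    let χ : IrrCharacter G := ⟨_, CharTools.isIrrCharacter_comp q hq χQ.2⟩
    have he : ∀ g, (χQ : Q → ℂ) (q g) = (χ : G → ℂ) g := fun g => rfl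
    refine ⟨χ, ?_, fun x hx => ?_, ?_⟩
    · intro t g
      let χt : IrrCharacter Q := irrEquiv (φQ t) χQ
      have hfix : ∀ {y : Q}, y ∈ CQ → φQ t y = y := fun hy => (mem_fixedSub φQ).1 hy t
      have h3 : χt = χQ := by
        refine P2 χt χQ (fun z hz => ?_) haQ η ?_ hoQ
        · change (χQ : Q → ℂ) (φQ t (z : Q)) = (χQ : Q → ℂ) (φQ t 1) * lamQ z
          rw [hfix (hcenC z hz), map_one]
          exact haQ z hz
        · rw [show (fun c : CQ => (χt : Q → ℂ) c) = fun c : CQ => (χQ : Q → ℂ) c from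
            funext fun c => congrArg (χQ : Q → ℂ) (hfix c.2)]
          exact hoQ
      change (χQ : Q → ℂ) (q (φ t g)) = (χQ : Q → ℂ) (q g)
      rw [← hφQ]
      exact congrFun (congrArg Subtype.val h3) (q g)
    · let z : KQ := ⟨q x, x, hx.1, rfl⟩
      have hz := haQ z (hCcen z (hCQ' hx.2))
      rw [hlamQ z x hx rfl] at hz
      change (χQ : Q → ℂ) (q x) = (χQ : Q → ℂ) (q 1) * lam x
      rw [map_one]
      exact hz
    · have h3 := (hodd χ χQ he η).2 hoQ
      rwa [hη, Equiv.apply_symm_apply] at h3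

end CfsgLib.KGV.Parity
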