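import Cfsg.Agent.Lib.KGV.ParityCover
import Cfsg.Agent.Lib.Char.CliffordOver

/-!
# The parity correspondence across an abelian section

Clifford reduction to an invariant character of the bottom, and the reduction to a bottom
containing the fixed points of the top.
-/

set_option autoImplicit false

namespace CfsgLib.KGV.Parity

open Cfsg CfsgLib CfsgLib.Char CfsgLib.CharDeep CfsgLib.Glauberman
open scoped commutatorElement

universe u

/-- A function on a subgroup is invariant under the action. -/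
def InvSub {G : Type u} [Group G] {S : Type u} [Group S] (φ : S →* MulAut G) (H : Subgroup G)
    (f : H → ℂ) : Prop :=
  ∀ (s : S) (x x' : H), (x' : G) = φ s x → f x' = f x

/-- The hypotheses on an abelian section. -/
structure AbSect {G : Type u} [Group G] {S : Type u} [Group S] (φ : S →* MulAut G)
    (K L : Subgroup G) : Prop where
  odd : Odd (Nat.card G)
  cop : (Nat.card G).Coprime (Nat.card S)
  solv : Group.IsSolvable G
  invK : ∀ (s : S), ∀ x ∈ K, φ s x ∈ K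
  invL : ∀ (s : S), ∀ x ∈ L, φ s x ∈ L
  le : L ≤ K
  comm : ∀ a ∈ K, ∀ b ∈ K, ⁅a, b⁆ ∈ L
  sup : K ⊔ fixedSub φ = ⊤

variable {G : Type u} [Group G] [Fintype G] {S : Type u} [Group S] [Finite S]
  {φ : S →* MulAut G} {K L H : Subgroup G} [K.Normal] [L.Normal] [Fintype H]

/-- The inertia group of an invariant function is invariant. -/
theorem inertia_invariant (hL : ∀ (s : S), ∀ x ∈ L, φ s x ∈ L) {θ : L → ℂ}
    (hθ : InvSub φ L θ) (s : S) {g : G} (hg : g ∈ CharTwist.inertia L θ) :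
    φ s g ∈ CharTwist.inertia L θ := by
  rw [CharTwist.mem_inertia] at hg ⊢
  funext n
  let m : L := ⟨φ s⁻¹ n, hL s⁻¹ n n.2⟩
  have hn : (n : G) = φ s (m : G) := by
    change (n : G) = φ s (φ s⁻¹ n)
    rw [← MulAut.mul_apply, ← map_mul, mul_inv_cancel, map_one, MulAut.one_apply]
  have h1 : θ n = θ m := hθ s m n hn
  rw [h1, ← congrFun hg m]
  exact hθ s ⟨g * m * g⁻¹, _⟩ ⟨φ s g * n * (φ s g)⁻¹, _⟩ (by
    change φ s g * n * (φ s g)⁻¹ = φ s (g * (m : G) * g⁻¹)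
    rw [hn, map_mul, map_mul, map_inv])

/-- An invariant character has an invariant constituent on `L`; two of them differ by a fixed
element. -/
theorem exists_fixed_conj (h : AbSect φ K L) [Fintype L] {χ : IrrCharacter G} {θ θ' : IrrCharacter L}
    (hθ : InvSub φ L (θ : L → ℂ)) (hθ' : InvSub φ L (θ' : L → ℂ))
    (h1 : Cfsg.classInner (fun n : L => (χ : G → ℂ) n) (θ : L → ℂ) ≠ 0)
    (h2 : Cfsg.classInner (fun n : L => (χ : G → ℂ) n) (θ' : L → ℂ) ≠ 0) :
    ∃ c ∈ fixedSub φ, CharTwist.conjFun L (θ : L → ℂ) c = (θ' : L → ℂ) := by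
  obtain ⟨g, hg⟩ := Cliff.exists_conj_eq L χ.2 θ.2 θ'.2 h1 h2
  obtain ⟨d, hd, hgd⟩ := exists_fixed_coset φ h.cop h.solv
    (D := CharTwist.inertia L (θ' : L → ℂ)) (fun s d hd => inertia_invariant h.invL hθ' s hd)
    (x := g) fun s => by
      rw [CharTwist.mem_inertia]
      conv_lhs => rw [← hg]
      rw [← CharTwist.conjFun_mul, mul_inv_cancel_left]
      funext n
      let m : L := ⟨φ s⁻¹ n, h.invL s⁻¹ n n.2⟩
      have hn : (n : G) = φ s (m : G) := by
        change (n : G) = φ s (φ s⁻¹ n)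
        rw [← MulAut.mul_apply, ← map_mul, mul_inv_cancel, map_one, MulAut.one_apply]
      rw [hθ' s m n hn, ← congrFun hg m]
      exact hθ s ⟨g * m * g⁻¹, _⟩ ⟨φ s g * n * (φ s g)⁻¹, _⟩ (by
        change φ s g * n * (φ s g)⁻¹ = φ s (g * (m : G) * g⁻¹)
        rw [hn, map_mul, map_mul, map_inv])
  exact ⟨g * d, hgd, by rw [CharTwist.conjFun_mul, hg]; exact CharTwist.mem_inertia.1 hd⟩

/-- Lying over a character of `L` only depends on its class under `H`. -/
theorem inner_conj_sub [Fintype L] (hLH : L ≤ H) {ψ : H → ℂ} (hψ : IsClassFunction H ψ) (θ : L → ℂ)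
    {c : G} (hc : c ∈ H) :
    Cfsg.classInner (fun n : L => ψ ⟨n, hLH n.2⟩) (CharTwist.conjFun L θ c) =
      Cfsg.classInner (fun n : L => ψ ⟨n, hLH n.2⟩) θ := by
  conv_rhs => rw [← Cliff.classInner_conjFun L _ θ c]
  congr 1
  funext n
  exact (hψ ⟨(n : G), hLH n.2⟩ ⟨c, hc⟩).symm

/-- Inside the inertia group: the correspondence for characters over one invariant character. -/
theorem AbSect.parity_over (h : AbSect φ K L) (hH : H = L ⊔ fixedSub φ) (hLH : L ≤ H)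
    (hinf : K ⊓ fixedSub φ ≤ L) [Fintype L] (θ : IrrCharacter L) (hθ : InvSub φ L (θ : L → ℂ)) :
    (∀ χ : IrrCharacter G, Inv φ (χ : G → ℂ) →
      Cfsg.classInner (fun n : L => (χ : G → ℂ) n) (θ : L → ℂ) ≠ 0 →
      ∃ ψ : IrrCharacter H, InvSub φ H (ψ : H → ℂ) ∧
        OddMult (fun x : H => (χ : G → ℂ) x) (ψ : H → ℂ) ∧
        ∀ ψ' : IrrCharacter H,
          Cfsg.classInner (fun n : L => (ψ' : H → ℂ) ⟨n, hLH n.2⟩) (θ : L → ℂ) ≠ 0 →
          OddMult (fun x : H => (χ : G → ℂ) x) (ψ' : H → ℂ) → ψ' = ψ) ∧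
    (∀ χ χ' : IrrCharacter G, Inv φ (χ : G → ℂ) → Inv φ (χ' : G → ℂ) →
      Cfsg.classInner (fun n : L => (χ : G → ℂ) n) (θ : L → ℂ) ≠ 0 →
      Cfsg.classInner (fun n : L => (χ' : G → ℂ) n) (θ : L → ℂ) ≠ 0 → ∀ ψ : IrrCharacter H,
      Cfsg.classInner (fun n : L => (ψ : H → ℂ) ⟨n, hLH n.2⟩) (θ : L → ℂ) ≠ 0 →
      OddMult (fun x : H => (χ : G → ℂ) x) (ψ : H → ℂ) →
      OddMult (fun x : H => (χ' : G → ℂ) x) (ψ : H → ℂ) → χ = χ') ∧
    (∀ ψ : IrrCharacter H,
      Cfsg.classInner (fun n : L => (ψ : H → ℂ) ⟨n, hLH n.2⟩) (θ : L → ℂ) ≠ 0 →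
      ∃ χ : IrrCharacter G, Inv φ (χ : G → ℂ) ∧
        OddMult (fun x : H => (χ : G → ℂ) x) (ψ : H → ℂ)) := by
  classical
  have hsolv := h.solv
  set T := CharTwist.inertia L (θ : L → ℂ) with hT
  have hLT : L ≤ T := CharTwist.le_inertia L (IsIrrCharacter.isClassFunction θ.2)
  have hTinv : ∀ (s : S), ∀ x ∈ T, φ s x ∈ T := fun s x hx => inertia_invariant h.invL hθ s hx
  let φT := restrSub φ T hTinv
  let KT := K.subgroupOf T
  let LT := L.subgroupOf T
  let HT := H.subgroupOf T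
  have hKTn : KT.Normal := Subgroup.normal_subgroupOf
  have hLTn : LT.Normal := Subgroup.normal_subgroupOf
  let : Fintype T := Fintype.ofFinite T
  let : Fintype LT := Fintype.ofFinite LT
  let : Fintype HT := Fintype.ofFinite HT
  let θT : LT → ℂ := CliffordOver.trans L T hLT (θ : L → ℂ)
  have hfixT : ∀ x : T, x ∈ fixedSub φT ↔ (x : G) ∈ fixedSub φ := fun x =>
    ⟨fun hx => (mem_fixedSub φ).2 fun s => congrArg Subtype.val ((mem_fixedSub φT).1 hx s),
      fun hx => (mem_fixedSub φT).2 fun s => Subtype.ext ((mem_fixedSub φ).1 hx s)⟩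
  have hlayer : Layer φT KT LT θT :=
    { odd := h.odd.of_dvd_nat (Subgroup.card_subgroup_dvd_card T)
      cop := h.cop.coprime_dvd_left (Subgroup.card_subgroup_dvd_card T)
      solv := inferInstance
      invK := fun s x hx => h.invK s x hx
      invL := fun s x hx => h.invL s x hx
      le := fun x hx => h.le hx
      comm := fun a ha b hb => h.comm a ha b hb
      sup := by
        refine eq_top_iff.2 fun x _ => ?_
        have hcos : ∀ s : S, (x : G)⁻¹ * φ s x ∈ K ⊓ T := fun s => by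
          refine ⟨?_, T.mul_mem (T.inv_mem x.2) (hTinv s x x.2)⟩
          obtain ⟨k, hk, c, hc, hkc⟩ := Subgroup.mem_sup_of_normal_left.1
            (h.sup.symm ▸ Subgroup.mem_top (x : G) : (x : G) ∈ K ⊔ fixedSub φ)
          rw [← hkc, map_mul, (mem_fixedSub φ).1 hc s, mul_inv_rev,
            show c⁻¹ * k⁻¹ * (φ s k * c) = c⁻¹ * (k⁻¹ * φ s k) * c⁻¹⁻¹ by group]
          exact (‹K.Normal›).conj_mem _ (mul_mem (inv_mem hk) (h.invK s k hk)) _
        obtain ⟨d, hd, hxd⟩ := exists_fixed_coset φ h.cop h.solv (D := K ⊓ T)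
          (fun s d hd => ⟨h.invK s d hd.1, hTinv s d hd.2⟩) (x := (x : G)) hcos
        let d' : T := ⟨d, hd.2⟩
        rw [show x = x * d' * d'⁻¹ by group]
        exact mul_mem (Subgroup.mem_sup_right ((hfixT (x * d')).2 hxd))
          (Subgroup.mem_sup_left (inv_mem (show d' ∈ KT from hd.1)))
      inf := fun x hx => hinf ⟨hx.1, (hfixT x).1 hx.2⟩
      irr := CliffordOver.isIrrCharacter_trans L T hLT θ.2
      fixG := fun g => by
        have h1 : g ∈ CharTwist.inertia LT θT := by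
          rw [CliffordOver.inertia_trans, Subgroup.mem_subgroupOf]
          exact g.2
        exact h1
      fixS := fun s x x' he => hθ s _ _ (congrArg Subtype.val he) }
  have hHT : HT = LT ⊔ fixedSub φT := by
    refine le_antisymm (fun x hx => ?_) (sup_le (fun x hx => hLH hx) fun x hx => ?_)
    · have hxH : (x : G) ∈ L ⊔ fixedSub φ := hH ▸ (Subgroup.mem_subgroupOf.1 hx)
      obtain ⟨l, hl, c, hc, hlc⟩ := Subgroup.mem_sup_of_normal_left.1 hxH
      have hcT : c ∈ T := by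
        rw [show c = l⁻¹ * (x : G) by rw [← hlc]; group]
        exact mul_mem (inv_mem (hLT hl)) x.2
      rw [show x = ⟨l, hLT hl⟩ * ⟨c, hcT⟩ from Subtype.ext hlc.symm]
      exact Subgroup.mul_mem_sup (show (⟨l, hLT hl⟩ : T) ∈ LT from hl) ((hfixT _).2 hc)
    · rw [Subgroup.mem_subgroupOf, hH]
      exact Subgroup.mem_sup_right ((hfixT x).1 hx)
  obtain ⟨P1, P2, P3⟩ := hlayer.parity hHT (fun x hx => hLH hx)
  -- the copy of the inertia group inside `H`
  let L' := L.subgroupOf H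
  let TH := T.subgroupOf H
  have hL'n : L'.Normal := Subgroup.normal_subgroupOf
  let : Fintype L' := Fintype.ofFinite L'
  let : Fintype TH := Fintype.ofFinite TH
  have hL'T : L' ≤ TH := fun x hx => hLT hx
  let θ' : L' → ℂ := CliffordOver.trans L H hLH (θ : L → ℂ)
  have hθ' : IsIrrCharacter L' θ' := CliffordOver.isIrrCharacter_trans L H hLH θ.2
  have hI' : CharTwist.inertia L' θ' ≤ TH := by rw [CliffordOver.inertia_trans]
  let e : TH ≃* HT :=
    { toFun := fun x => ⟨⟨((x : H) : G), x.2⟩, (x : H).2⟩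
      invFun := fun x => ⟨⟨((x : T) : G), x.2⟩, (x : T).2⟩
      left_inv := fun _ => rfl
      right_inv := fun _ => rfl
      map_mul' := fun _ _ => rfl }
  have hLTe : ∀ f : HT → ℂ,
      Cfsg.classInner (fun n : LT => f ⟨(n : T), hLH n.2⟩) θT =
        Cfsg.classInner (fun n : L' => f (e ⟨(n : H), hL'T n.2⟩)) θ' := fun f => by
    let eT : LT ≃* L := Subgroup.subgroupOfEquivOfLe hLT
    let eH : L' ≃* L := Subgroup.subgroupOfEquivOfLe hLH
    let g : L → ℂ := fun n => f ⟨⟨(n : G), hLT n.2⟩, hLH n.2⟩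
    exact (Clifford.classInner_comp_equiv eT g (θ : L → ℂ)).trans
      (Clifford.classInner_comp_equiv eH g (θ : L → ℂ)).symm
  have hoverψ : ∀ ψ : H → ℂ, Cfsg.classInner (fun n : L' => ψ n) θ' =
      Cfsg.classInner (fun n : L => ψ ⟨n, hLH n.2⟩) (θ : L → ℂ) := fun ψ =>
    CliffordOver.classInner_trans L H hLH ψ (θ : L → ℂ)
  have hoverξ : ∀ ξ : T → ℂ, Cfsg.classInner (fun n : LT => ξ n) θT =
      Cfsg.classInner (fun n : L => ξ ⟨n, hLT n.2⟩) (θ : L → ℂ) := fun ξ =>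
    CliffordOver.classInner_trans L T hLT ξ (θ : L → ℂ)
  -- descent to the inertia group
  have hdownG : ∀ χ : IrrCharacter G, Inv φ (χ : G → ℂ) →
      Cfsg.classInner (fun n : L => (χ : G → ℂ) n) (θ : L → ℂ) ≠ 0 →
      ∃ ξ : IrrCharacter T, Inv φT (ξ : T → ℂ) ∧
        Cfsg.classInner (fun n : LT => (ξ : T → ℂ) n) θT ≠ 0 ∧
        Cfsg.indFun T (ξ : T → ℂ) = (χ : G → ℂ) ∧
        ∀ ζ : IrrCharacter HT,
          Cfsg.classInner (fun n : LT => (ζ : HT → ℂ) ⟨(n : T), hLH n.2⟩) θT ≠ 0 →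
          Cfsg.classInner (fun x : H => (χ : G → ℂ) x)
              (Cfsg.indFun TH (fun x : TH => (ζ : HT → ℂ) (e x))) =
            Cfsg.classInner (fun x : HT => (ξ : T → ℂ) x) (ζ : HT → ℂ) := by
    intro χ hinv hχ
    obtain ⟨ξ, hξ, hind, hξc, hξθ⟩ := CliffordOver.exists_indFun_eq L T hLT θ.2 le_rfl χ.2 hχ
    have hξo : Cfsg.classInner (fun n : L => ξ ⟨n, hLT n.2⟩) (θ : L → ℂ) ≠ 0 := hξθ ▸ hχ
    obtain ⟨-, -, huniq⟩ :=
      CliffordOver.indFun_eq_of_constituent L T hLT θ.2 le_rfl hξ hξo χ.2 hξc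
    have hmult1 : Cfsg.classInner (fun x : T => (χ : G → ℂ) x) ξ = 1 := by
      rw [← classInner_conj_symm, ← classInner_indFun T ξ (χ : G → ℂ)
        (IsIrrCharacter.isClassFunction χ.2), hind, classInner_irr_self χ.2, map_one]
    refine ⟨⟨ξ, hξ⟩, ?_, by rw [hoverξ]; exact hξo, hind, fun ζ hζ => ?_⟩
    · intro s
      have h1 := huniq (ξ ∘ φT s) (CharTwist.isIrrCharacter_comp_equiv hξ (φT s)) (by
          let eL : L ≃* L := restrSub φ L h.invL s
          rw [← Clifford.classInner_comp_equiv eL,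
            show (θ : L → ℂ) ∘ eL = (θ : L → ℂ) from funext fun n => hθ s n (eL n) rfl] at hξo
          exact hξo) (by
          rw [← Clifford.classInner_comp_equiv (φT s)] at hξc
          convert hξc using 2
          funext x
          exact (hinv s (x : G)).symm)
      exact congrFun h1
    · rw [hLTe] at hζ
      have hζ' : IsIrrCharacter TH (fun x : TH => (ζ : HT → ℂ) (e x)) :=
        CharTwist.isIrrCharacter_comp_equiv ζ.2 e
      rw [← classInner_conj_symm, classInner_indFun TH _ (fun x : H => (χ : G → ℂ) x)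
        (IsCharacter.isClassFunction (IsCharacter.restrict (IsIrrCharacter.isCharacter χ.2) H)),
        classInner_conj_symm]
      rw [show (fun x : TH => (χ : G → ℂ) ((x : H) : G)) =
          (fun x : HT => (χ : G → ℂ) ((x : T) : G)) ∘ e from rfl,
        show (fun x : TH => (ζ : HT → ℂ) (e x)) = (ζ : HT → ℂ) ∘ e from rfl,
        Clifford.classInner_comp_equiv]
      rw [← hLTe] at hζ
      let i : HT →* T := HT.subtype
      have hexp := IsCharacter.eq_sum_classInner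
        (IsCharacter.restrict (IsIrrCharacter.isCharacter χ.2) T : IsCharacter T _)
      have hfun : (fun x : HT => (χ : G → ℂ) ((x : T) : G)) = ∑ η : IrrCharacter T,
          Cfsg.classInner (fun x : T => (χ : G → ℂ) x) (η : T → ℂ) •
            fun x : HT => (η : T → ℂ) x := by
        funext x
        have h1 := congrFun hexp (x : T)
        simp only [Finset.sum_apply, Pi.smul_apply] at h1 ⊢
        exact h1
      rw [hfun, classInner_sum_left, Finset.sum_eq_single (⟨ξ, hξ⟩ : IrrCharacter T)]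
      · rw [classInner_smul_left, hmult1, one_mul]
      · intro η _ hne
        rw [classInner_smul_left]
        by_contra h0
        obtain ⟨h01, h02⟩ := mul_ne_zero_iff.1 h0
        refine hne (Subtype.ext (huniq (η : T → ℂ) η.2 ?_ h01))
        rw [← hoverξ]
        exact Glauberman.inner_ne_zero_trans i (Subgroup.inclusion fun x hx => hLH hx :
          LT →* HT) (IsIrrCharacter.isCharacter η.2) ζ.2 hlayer.irr h02 hζ
      · simp
  have hupH : ∀ ζ : IrrCharacter HT,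
      Cfsg.classInner (fun n : LT => (ζ : HT → ℂ) ⟨(n : T), hLH n.2⟩) θT ≠ 0 →
      ∃ ψ : IrrCharacter H,
        (ψ : H → ℂ) = Cfsg.indFun TH (fun x : TH => (ζ : HT → ℂ) (e x)) ∧
        Cfsg.classInner (fun x : TH => (ψ : H → ℂ) x) (fun x : TH => (ζ : HT → ℂ) (e x)) ≠ 0 := by
    intro ζ hζ
    rw [hLTe] at hζ
    obtain ⟨h1, h2, -⟩ := CliffordOver.isIrrCharacter_indFun L' TH hL'T hθ' hI'
      (CharTwist.isIrrCharacter_comp_equiv ζ.2 e) hζ
    exact ⟨⟨_, h1⟩, rfl, h2⟩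
  have hdownH : ∀ ψ : IrrCharacter H,
      Cfsg.classInner (fun n : L => (ψ : H → ℂ) ⟨n, hLH n.2⟩) (θ : L → ℂ) ≠ 0 →
      ∃ ζ : IrrCharacter HT,
        Cfsg.classInner (fun n : LT => (ζ : HT → ℂ) ⟨(n : T), hLH n.2⟩) θT ≠ 0 ∧
        (ψ : H → ℂ) = Cfsg.indFun TH (fun x : TH => (ζ : HT → ℂ) (e x)) := by
    intro ψ hψ
    rw [← hoverψ] at hψ
    obtain ⟨ζ', hζ', hind, -, hζθ⟩ := CliffordOver.exists_indFun_eq L' TH hL'T hθ' hI' ψ.2 hψ
    refine ⟨⟨ζ' ∘ e.symm, CharTwist.isIrrCharacter_comp_equiv hζ' e.symm⟩, ?_, hind.symm⟩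
    rw [hLTe]
    change Cfsg.classInner (fun n : L' => ζ' ⟨(n : H), hL'T n.2⟩) θ' ≠ 0
    exact hζθ ▸ hψ
  refine ⟨fun χ hinv hχ => ?_, fun χ χ' hinv hinv' hχ hχ' ψ hψ h1 h2 => ?_, fun ψ hψ => ?_⟩
  · obtain ⟨ξ, hξi, hξo, -, hm⟩ := hdownG χ hinv hχ
    obtain ⟨ζ, hζo, hζi, hζ, hζu⟩ := P1 ξ hξi hξo
    obtain ⟨ψ, hψ, hψc⟩ := hupH ζ hζo
    refine ⟨ψ, fun s x x' he => ?_, ?_, fun ψ' hψ' hodd => ?_⟩
    · have hHinv : ∀ (s : S), ∀ x ∈ H, φ s x ∈ H := fun s x hx => by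
        rw [hH] at hx ⊢
        exact (sup_le (c := (L ⊔ fixedSub φ).comap (φ s).toMonoidHom)
          (fun y hy => Subgroup.mem_sup_left (h.invL s y hy))
          (fun y hy => Subgroup.mem_sup_right (show φ s y ∈ fixedSub φ by
            rw [(mem_fixedSub φ).1 hy s]; exact hy))) hx
      let eHs : H ≃* H := restrSub φ H hHinv s
      let eTs : TH ≃* TH :=
        { toFun := fun x => ⟨eHs x, hTinv s _ x.2⟩
          invFun := fun x => ⟨eHs.symm x, by
            have h1 : φ s⁻¹ ((x : H) : G) ∈ T := hTinv s⁻¹ _ x.2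
            exact h1⟩
          left_inv := fun x => Subtype.ext (eHs.symm_apply_apply _)
          right_inv := fun x => Subtype.ext (eHs.apply_symm_apply _)
          map_mul' := fun x y => Subtype.ext (map_mul eHs _ _) }
      have hζ' : (fun y : TH => (ζ : HT → ℂ) (e y)) ∘ eTs = fun y : TH => (ζ : HT → ℂ) (e y) :=
        funext fun y => hζi s (e y) (e (eTs y)) (Subtype.ext rfl)
      rw [← Clifford.classInner_comp_equiv eTs, hζ'] at hψc
      obtain ⟨h3, -, -⟩ := CliffordOver.indFun_eq_of_constituent L' TH hL'T hθ' hI'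
        (CharTwist.isIrrCharacter_comp_equiv ζ.2 e) ((hLTe _).symm.trans_ne hζo)
        (CharTwist.isIrrCharacter_comp_equiv ψ.2 eHs) hψc
      rw [show x' = eHs x from Subtype.ext he]
      exact (congrFun h3 x).symm.trans (congrFun hψ x).symm
    · obtain ⟨m, hm1, hm2⟩ := hζ
      exact ⟨m, by rw [hψ, hm ζ hζo]; exact hm1, hm2⟩
    · obtain ⟨ζ', hζ'o, hψ'⟩ := hdownH ψ' hψ'
      obtain ⟨m, hm1, hm2⟩ := hodd
      rw [hψ', hm ζ' hζ'o] at hm1
      obtain rfl := hζu ζ' ⟨m, hm1, hm2⟩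
      exact Subtype.ext (hψ'.trans hψ.symm)
  · obtain ⟨ξ, hξi, hξo, hind, hm⟩ := hdownG χ hinv hχ
    obtain ⟨ξ', hξi', hξo', hind', hm'⟩ := hdownG χ' hinv' hχ'
    obtain ⟨ζ, hζo, hψζ⟩ := hdownH ψ hψ
    obtain ⟨m, a1, a2⟩ := h1
    obtain ⟨m', b1, b2⟩ := h2
    rw [hψζ, hm ζ hζo] at a1
    rw [hψζ, hm' ζ hζo] at b1
    obtain rfl := P2 ξ ξ' hξi hξi' hξo hξo' ζ ⟨m, a1, a2⟩ ⟨m', b1, b2⟩
    exact Subtype.ext (hind.symm.trans hind')
  · obtain ⟨ζ, hζo, hψζ⟩ := hdownH ψ hψ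
    obtain ⟨ξ, hξi, hξo, hodd⟩ := P3 ζ hζo
    rw [hoverξ] at hξo
    obtain ⟨hirr, hc, hχθ⟩ := CliffordOver.isIrrCharacter_indFun L T hLT θ.2 le_rfl ξ.2 hξo
    let χ : IrrCharacter G := ⟨_, hirr⟩
    have hinv : Inv φ (χ : G → ℂ) := by
      intro s
      have hc' : Cfsg.classInner (fun x : T => ((χ : G → ℂ) ∘ φ s) x) (ξ : T → ℂ) ≠ 0 := by
        rw [← Clifford.classInner_comp_equiv (φT s),
          show (ξ : T → ℂ) ∘ φT s = (ξ : T → ℂ) from funext fun x => hξi s x] at hc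
        exact hc
      obtain ⟨h3, -, -⟩ := CliffordOver.indFun_eq_of_constituent L T hLT θ.2 le_rfl ξ.2 hξo
        (CharTwist.isIrrCharacter_comp_equiv χ.2 (φ s)) hc'
      exact fun g => (congrFun h3 g).symm
    obtain ⟨ξ', hξi', hξo', hind, hm⟩ := hdownG χ hinv hχθ
    obtain ⟨-, -, huniq⟩ := CliffordOver.indFun_eq_of_constituent L T hLT θ.2 le_rfl ξ.2 hξo χ.2 hc
    have hsame : ξ' = ξ := Subtype.ext (huniq _ ξ'.2 (hoverξ _ ▸ hξo') (by
      rw [← classInner_conj_symm, ← classInner_indFun T _ (χ : G → ℂ)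
        (IsIrrCharacter.isClassFunction χ.2), hind, classInner_irr_self χ.2, map_one]
      exact one_ne_zero))
    subst hsame
    obtain ⟨m, hm1, hm2⟩ := hodd
    refine ⟨χ, hinv, m, ?_, hm2⟩
    rw [hψζ, hm ζ hζo]
    exact hm1

/-- The bijection, for a bottom containing the fixed points of the top. -/
theorem AbSect.parity_inf (h : AbSect φ K L) (hH : H = L ⊔ fixedSub φ)
    (hinf : K ⊓ fixedSub φ ≤ L) :
    (∀ χ : IrrCharacter G, Inv φ (χ : G → ℂ) → ∃! ψ : IrrCharacter H,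
      InvSub φ H (ψ : H → ℂ) ∧ OddMult (fun x : H => (χ : G → ℂ) x) (ψ : H → ℂ)) ∧
    (∀ χ χ' : IrrCharacter G, Inv φ (χ : G → ℂ) → Inv φ (χ' : G → ℂ) → ∀ ψ : IrrCharacter H,
      InvSub φ H (ψ : H → ℂ) → OddMult (fun x : H => (χ : G → ℂ) x) (ψ : H → ℂ) →
      OddMult (fun x : H => (χ' : G → ℂ) x) (ψ : H → ℂ) → χ = χ') ∧
    (∀ ψ : IrrCharacter H, InvSub φ H (ψ : H → ℂ) → ∃ χ : IrrCharacter G, Inv φ (χ : G → ℂ) ∧
      OddMult (fun x : H => (χ : G → ℂ) x) (ψ : H → ℂ)) := by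
  classical
  have hsolv := h.solv
  let : Fintype L := Fintype.ofFinite L
  have hLH : L ≤ H := hH ▸ le_sup_left
  have hbelowG : ∀ χ : IrrCharacter G, Inv φ (χ : G → ℂ) → ∃ θ : IrrCharacter L,
      InvSub φ L (θ : L → ℂ) ∧ Cfsg.classInner (fun n : L => (χ : G → ℂ) n) (θ : L → ℂ) ≠ 0 := by
    intro χ hχ
    obtain ⟨θ, h1, h2⟩ := exists_fixed_below φ L hχ h.invL
      (h.cop.coprime_dvd_left L.index_dvd_card) (Or.inl inferInstance)
    exact ⟨θ, h2, h1⟩
  have hbelowH : ∀ ψ : IrrCharacter H, InvSub φ H (ψ : H → ℂ) → ∃ θ : IrrCharacter L,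
      InvSub φ L (θ : L → ℂ) ∧
        Cfsg.classInner (fun n : L => (ψ : H → ℂ) ⟨n, hLH n.2⟩) (θ : L → ℂ) ≠ 0 := by
    intro ψ hψ
    have hHinv : ∀ (s : S), ∀ x ∈ H, φ s x ∈ H := fun s x hx => by
      rw [hH] at hx ⊢
      exact (sup_le (c := (L ⊔ fixedSub φ).comap (φ s).toMonoidHom)
        (fun y hy => Subgroup.mem_sup_left (h.invL s y hy))
        (fun y hy => Subgroup.mem_sup_right (show φ s y ∈ fixedSub φ by
          rw [(mem_fixedSub φ).1 hy s]; exact hy))) hx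
    let L' := L.subgroupOf H
    have : L'.Normal := Subgroup.normal_subgroupOf
    let : Fintype L' := Fintype.ofFinite L'
    obtain ⟨θ, h1, h2⟩ := exists_fixed_below (restrSub φ H hHinv) L'
      (fun s x => hψ s x _ rfl) (fun s x hx => h.invL s _ hx)
      ((h.cop.coprime_dvd_left (Subgroup.card_subgroup_dvd_card H)).coprime_dvd_left
        L'.index_dvd_card) (Or.inl inferInstance)
    let e : L' ≃* L := Subgroup.subgroupOfEquivOfLe hLH
    refine ⟨irrEquiv e.symm θ, fun s x x' he => h2 s (e.symm x) (e.symm x') (Subtype.ext he), ?_⟩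
    rw [← Clifford.classInner_comp_equiv e]
    have e1 : ((irrEquiv e.symm θ : IrrCharacter L) : L → ℂ) ∘ e = (θ : L' → ℂ) :=
      funext fun m => congrArg (θ : L' → ℂ) (e.symm_apply_apply m)
    rw [e1]
    exact h1
  have htrans : ∀ (χ : IrrCharacter G) (ψ : IrrCharacter H) (θ : IrrCharacter L),
      OddMult (fun x : H => (χ : G → ℂ) x) (ψ : H → ℂ) →
      Cfsg.classInner (fun n : L => (ψ : H → ℂ) ⟨n, hLH n.2⟩) (θ : L → ℂ) ≠ 0 →
      Cfsg.classInner (fun n : L => (χ : G → ℂ) n) (θ : L → ℂ) ≠ 0 := fun χ ψ θ h1 h2 =>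
    Glauberman.inner_ne_zero_trans H.subtype (Subgroup.inclusion hLH)
      (IsIrrCharacter.isCharacter χ.2) ψ.2 θ.2 h1.ne_zero h2
  refine ⟨fun χ hχ => ?_, fun χ χ' hχ hχ' ψ hψ h1 h2 => ?_, fun ψ hψ => ?_⟩
  · obtain ⟨θ, hθ, hχθ⟩ := hbelowG χ hχ
    obtain ⟨ψ, hψi, hψo, hu⟩ := (h.parity_over hH hLH hinf θ hθ).1 χ hχ hχθ
    refine ⟨ψ, ⟨hψi, hψo⟩, ?_⟩
    rintro ψ' ⟨hψ'i, hψ'o⟩
    obtain ⟨θ', hθ', hψ'θ⟩ := hbelowH ψ' hψ'i
    obtain ⟨c, hc, hcθ⟩ := exists_fixed_conj h hθ hθ' hχθ (htrans χ ψ' θ' hψ'o hψ'θ)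
    refine hu ψ' ?_ hψ'o
    rwa [← hcθ, inner_conj_sub hLH (IsIrrCharacter.isClassFunction ψ'.2) _
      (show c ∈ H from hH ▸ Subgroup.mem_sup_right hc)] at hψ'θ
  · obtain ⟨θ, hθ, hψθ⟩ := hbelowH ψ hψ
    exact (h.parity_over hH hLH hinf θ hθ).2.1 χ χ' hχ hχ' (htrans χ ψ θ h1 hψθ)
      (htrans χ' ψ θ h2 hψθ) ψ hψθ h1 h2
  · obtain ⟨θ, hθ, hψθ⟩ := hbelowH ψ hψ
    exact (h.parity_over hH hLH hinf θ hθ).2.2 ψ hψθ

/-- The parity correspondence across an abelian section. -/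
theorem AbSect.parity_correspondence (h : AbSect φ K L) (hH : H = L ⊔ fixedSub φ) :
    (∀ χ : IrrCharacter G, Inv φ (χ : G → ℂ) → ∃! ψ : IrrCharacter H,
      InvSub φ H (ψ : H → ℂ) ∧ OddMult (fun x : H => (χ : G → ℂ) x) (ψ : H → ℂ)) ∧
    (∀ χ χ' : IrrCharacter G, Inv φ (χ : G → ℂ) → Inv φ (χ' : G → ℂ) → ∀ ψ : IrrCharacter H,
      InvSub φ H (ψ : H → ℂ) → OddMult (fun x : H => (χ : G → ℂ) x) (ψ : H → ℂ) →
      OddMult (fun x : H => (χ' : G → ℂ) x) (ψ : H → ℂ) → χ = χ') ∧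
    (∀ ψ : IrrCharacter H, InvSub φ H (ψ : H → ℂ) → ∃ χ : IrrCharacter G, Inv φ (χ : G → ℂ) ∧
      OddMult (fun x : H => (χ : G → ℂ) x) (ψ : H → ℂ)) := by
  classical
  let L₁ := L ⊔ K ⊓ fixedSub φ
  have hL₁K : L₁ ≤ K := sup_le h.le inf_le_left
  have hn : L₁.Normal := by
    rw [← Subgroup.normalizer_eq_top_iff, eq_top_iff, ← h.sup, sup_le_iff,
      Subgroup.le_normalizer_iff, Subgroup.le_normalizer_iff]
    refine ⟨fun k hk d hd => ?_, fun c hc d hd => ?_⟩
    · rw [show k * d * k⁻¹ = ⁅k, d⁆ * d by simp only [commutatorElement_def]; group]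
      exact mul_mem (Subgroup.mem_sup_left (h.comm k hk d (hL₁K hd))) hd
    · refine (sup_le (c := L₁.comap (MulAut.conj c).toMonoidHom) (fun y hy => ?_) fun y hy => ?_) hd
      · exact Subgroup.mem_sup_left ((‹L.Normal›).conj_mem y hy c)
      · exact Subgroup.mem_sup_right ⟨(‹K.Normal›).conj_mem y hy.1 c,
          (fixedSub φ).mul_mem ((fixedSub φ).mul_mem hc hy.2) ((fixedSub φ).inv_mem hc)⟩
  have h₁ : AbSect φ K L₁ :=
    { odd := h.odd
      cop := h.cop
      solv := h.solv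
      invK := h.invK
      invL := fun s => sup_le (c := L₁.comap (φ s).toMonoidHom)
        (fun y hy => Subgroup.mem_sup_left (h.invL s y hy))
        (fun y hy => Subgroup.mem_sup_right (show φ s y ∈ K ⊓ fixedSub φ by
          rw [(mem_fixedSub φ).1 hy.2 s]; exact hy))
      le := hL₁K
      comm := fun a ha b hb => Subgroup.mem_sup_left (h.comm a ha b hb)
      sup := h.sup }
  refine h₁.parity_inf (hH.trans ?_) le_sup_right
  refine le_antisymm (sup_le (le_sup_left.trans le_sup_left) le_sup_right) ?_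
  exact sup_le (sup_le le_sup_left (inf_le_right.trans le_sup_right)) le_sup_right

end CfsgLib.KGV.Parity
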