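import Cfsg.Agent.Lib.KGV.ParityCentral
import Cfsg.Agent.Lib.Glauberman.Transfer
import Mathlib.GroupTheory.Solvable

/-!
# Parity correspondence over an invariant character

The acting group lifts to the cover of an invariant character of `L`; the cover modulo the copy
of `L` is a section with central intersection.
-/

set_option autoImplicit false

namespace CfsgLib.KGV.Parity

open Cfsg CfsgLib CfsgLib.Char CfsgLib.CharDeep CfsgLib.Glauberman
open scoped commutatorElement

universe u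

variable {G : Type u} [Group G] {S : Type u} [Group S]

/-- The hypotheses on a layer over an invariant character. -/
structure Layer (φ : S →* MulAut G) (K L : Subgroup G) [L.Normal] (θ : L → ℂ) : Prop where
  odd : Odd (Nat.card G)
  cop : (Nat.card G).Coprime (Nat.card S)
  solv : Group.IsSolvable G
  invK : ∀ (s : S), ∀ x ∈ K, φ s x ∈ K
  invL : ∀ (s : S), ∀ x ∈ L, φ s x ∈ L
  le : L ≤ K
  comm : ∀ a ∈ K, ∀ b ∈ K, ⁅a, b⁆ ∈ L
  sup : K ⊔ fixedSub φ = ⊤
  inf : K ⊓ fixedSub φ ≤ L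
  irr : IsIrrCharacter L θ
  fixG : ∀ g, CharTwist.conjFun L θ g = θ
  fixS : ∀ (s : S) (x x' : L), (x' : G) = φ s x → θ x' = θ x

variable [Fintype G] [Finite S] {φ : S →* MulAut G} {K L H : Subgroup G} [K.Normal] [L.Normal]
  [Fintype L] [Fintype H]

set_option maxHeartbeats 1000000 in
/-- The correspondence over an invariant character. -/
theorem Layer.parity {θ : L → ℂ} (h : Layer φ K L θ) (hH : H = L ⊔ fixedSub φ) (hLH : L ≤ H) :
    (∀ χ : IrrCharacter G, Inv φ (χ : G → ℂ) →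
      Cfsg.classInner (fun n : L => (χ : G → ℂ) n) θ ≠ 0 →
      ∃ ψ : IrrCharacter H, Cfsg.classInner (fun n : L => (ψ : H → ℂ) ⟨n, hLH n.2⟩) θ ≠ 0 ∧
        (∀ (s : S) (x x' : H), (x' : G) = φ s x → (ψ : H → ℂ) x' = (ψ : H → ℂ) x) ∧
        OddMult (fun x : H => (χ : G → ℂ) x) (ψ : H → ℂ) ∧
        ∀ ψ' : IrrCharacter H, OddMult (fun x : H => (χ : G → ℂ) x) (ψ' : H → ℂ) → ψ' = ψ) ∧
    (∀ χ χ' : IrrCharacter G, Inv φ (χ : G → ℂ) → Inv φ (χ' : G → ℂ) →
      Cfsg.classInner (fun n : L => (χ : G → ℂ) n) θ ≠ 0 →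
      Cfsg.classInner (fun n : L => (χ' : G → ℂ) n) θ ≠ 0 → ∀ ψ : IrrCharacter H,
      OddMult (fun x : H => (χ : G → ℂ) x) (ψ : H → ℂ) →
      OddMult (fun x : H => (χ' : G → ℂ) x) (ψ : H → ℂ) → χ = χ') ∧
    (∀ ψ : IrrCharacter H, Cfsg.classInner (fun n : L => (ψ : H → ℂ) ⟨n, hLH n.2⟩) θ ≠ 0 →
      ∃ χ : IrrCharacter G, Inv φ (χ : G → ℂ) ∧
        Cfsg.classInner (fun n : L => (χ : G → ℂ) n) θ ≠ 0 ∧
        OddMult (fun x : H => (χ : G → ℂ) x) (ψ : H → ℂ)) := by
  classical
  obtain ⟨t, τ, hτ, rfl⟩ := h.irr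
  have := h.solv
  have := Cover.finite_grp L τ
  have := Cover.range_normal L τ
  have hnt := Cover.nontrivial_space L τ
  have ht0 : (t : ℂ) ≠ 0 := Nat.cast_ne_zero.2 (Cover.pos_dim L τ).ne'
  have hinvτ : ∀ (g : G) (n : L),
      τ.character ⟨g * n * g⁻¹, (‹L.Normal›).conj_mem n n.2 g⟩ = τ.character n :=
    fun g n => congrFun (h.fixG g) n
  have := Cover.rep_irreducible L τ hinvτ
  let Γ := Cover.grp L τ
  let p : Γ →* G := Cover.proj L τ
  have hp : Function.Surjective p := Cover.proj_surjective L τ hinvτ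
  let R : Γ →* Module.End ℂ (Fin t → ℂ) := Cover.rep L τ
  -- the action on the cover
  let φL := restrSub φ L h.invL
  have hA : ∀ s : S, ∃ A : (Module.End ℂ (Fin t → ℂ))ˣ, ∀ n, τ (φL s n) * A.val = A.val * τ n := by
    intro s
    let τ' : Representation ℂ L (Fin t → ℂ) := τ.comp (φL s).toMonoidHom
    have : τ'.IsIrreducible := CharTwist.irreducible_comp_surjective τ _ (φL s).surjective
    obtain ⟨A, hA⟩ := Cover.exists_linearEquiv τ τ'
      (funext fun x => (h.fixS s x (φL s x) rfl).symm)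
    exact ⟨LinearMap.GeneralLinearGroup.generalLinearEquiv ℂ (Fin t → ℂ) |>.symm A,
      fun x => LinearMap.ext fun v => (hA x v).symm⟩
  choose A hA using hA
  have hA' : ∀ s n, τ n * (A s)⁻¹.val = (A s)⁻¹.val * τ (φL s n) := fun s n => by
    rw [← Units.mul_right_inj (A s), ← mul_assoc, ← hA, mul_assoc, Units.mul_inv, mul_one,
      Units.mul_inv_cancel_left]
  have hmemΦ : ∀ (s : S) (y : Γ), ((φ s (p y), A s * y.1.2 * (A s)⁻¹) :
      G × (Module.End ℂ (Fin t → ℂ))ˣ) ∈ Cover.grp L τ := by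
    intro s y
    refine ⟨fun m => ?_, ?_⟩
    · obtain ⟨n, rfl⟩ := (φL s).surjective m
      simp only [Units.val_mul]
      rw [mul_assoc, ← hA' s n, mul_assoc (A s).val, ← mul_assoc y.1.2.val,
        show y.1.2.val * τ n = _ from Cover.rep_intertwines L τ y n]
      rw [← mul_assoc, ← mul_assoc, ← hA, mul_assoc (τ _) (A s).val, mul_assoc (τ _)]
      congr 2
      exact Subtype.ext (by
        change φ s (p y * n * (p y)⁻¹) = φ s (p y) * φ s (n : G) * (φ s (p y))⁻¹
        rw [map_mul, map_mul, map_inv])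
    · simp only [Units.val_mul, map_mul]
      have h1 : LinearMap.det (A s).val * LinearMap.det (A s)⁻¹.val = 1 := by
        rw [← map_mul, Units.mul_inv, map_one]
      rw [mul_right_comm, h1, one_mul]
      exact Cover.det_rep_pow L τ y
  let Φf : S → Γ → Γ := fun s y => ⟨_, hmemΦ s y⟩
  have hΦp : ∀ s y, p (Φf s y) = φ s (p y) := fun s y => rfl
  have hΦR : ∀ s y, R (Φf s y) = (A s).val * R y * (A s)⁻¹.val := fun s y => rfl
  have hscalA : ∀ (s : S) (B : (Module.End ℂ (Fin t → ℂ))ˣ),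
      (∀ n, τ (φL s n) * B.val = B.val * τ n) → ∃ c : ℂ, c ≠ 0 ∧ B.val = c • (A s).val := by
    intro s B hB
    obtain ⟨c, hc⟩ := exists_scalar_of_commute τ ((A s)⁻¹.val * B.val) fun n => by
      rw [mul_assoc, ← hB, ← mul_assoc, ← hA', mul_assoc]
    have he : B.val = c • (A s).val := by
      rw [← Units.mul_inv_cancel_left (A s) B.val, hc, mul_smul_comm, mul_one]
    refine ⟨c, fun h0 => ?_, he⟩
    rw [h0, zero_smul] at he
    exact B.ne_zero he
  have hconjR : ∀ (s : S) (B : (Module.End ℂ (Fin t → ℂ))ˣ),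
      (∀ n, τ (φL s n) * B.val = B.val * τ n) → ∀ X : Module.End ℂ (Fin t → ℂ),
      B.val * X * B⁻¹.val = (A s).val * X * (A s)⁻¹.val := by
    intro s B hB X
    obtain ⟨c, hc0, hc⟩ := hscalA s B hB
    have hinv : B⁻¹.val = c⁻¹ • (A s)⁻¹.val := by
      rw [← Units.mul_right_inj B, Units.mul_inv, hc, smul_mul_smul_comm, Units.mul_inv,
        mul_inv_cancel₀ hc0, one_smul]
    rw [hinv, hc, smul_mul_assoc, smul_mul_smul_comm, mul_inv_cancel₀ hc0, one_smul]
  have hΦone : ∀ y, Φf 1 y = y := fun y => Cover.ext_grp L τ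
    (show p (Φf 1 y) = p y by rw [hΦp, map_one, MulAut.one_apply])
    (show R (Φf 1 y) = R y by
      rw [hΦR, ← hconjR 1 1 (fun n => by simp) (R y)]
      simp)
  have hΦmul : ∀ s u y, Φf (s * u) y = Φf s (Φf u y) := fun s u y => Cover.ext_grp L τ
    (show p (Φf (s * u) y) = p (Φf s (Φf u y)) by
      rw [hΦp, hΦp, hΦp, map_mul, MulAut.mul_apply])
    (show R (Φf (s * u) y) = R (Φf s (Φf u y)) by
      rw [hΦR, hΦR, hΦR, ← hconjR (s * u) (A s * A u) (fun n => by
        rw [Units.val_mul, map_mul, MulAut.mul_apply, ← mul_assoc, hA, mul_assoc, hA, mul_assoc])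
        (R y)]
      simp only [mul_inv_rev, Units.val_mul, mul_assoc])
  let Φ : S →* MulAut Γ :=
    { toFun := fun s =>
        { toFun := Φf s
          invFun := Φf s⁻¹
          left_inv := fun y => by rw [← hΦmul, inv_mul_cancel, hΦone]
          right_inv := fun y => by rw [← hΦmul, mul_inv_cancel, hΦone]
          map_mul' := fun a b => Cover.ext_grp L τ
            (show p (Φf s (a * b)) = p (Φf s a * Φf s b) by
              rw [map_mul p, hΦp, hΦp, hΦp, map_mul p, map_mul])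
            (show R (Φf s (a * b)) = R (Φf s a * Φf s b) by
              rw [map_mul R, hΦR, hΦR, hΦR, map_mul R]
              simp only [mul_assoc, Units.inv_mul_cancel_left]) }
      map_one' := MulEquiv.ext hΦone
      map_mul' := fun s u => MulEquiv.ext (hΦmul s u) }
  have hΦincl : ∀ s n, Φ s (Cover.incl L τ n) = Cover.incl L τ (φL s n) := fun s n =>
    Cover.ext_grp L τ rfl (show R (Φf s (Cover.incl L τ n)) = R (Cover.incl L τ (φL s n)) by
      rw [hΦR]
      change (A s).val * τ n * (A s)⁻¹.val = τ (φL s n)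
      rw [← hA, mul_assoc, Units.mul_inv, mul_one])
  have hΦker : ∀ s y, p y = 1 → Φ s y = y := fun s y hy => Cover.ext_grp L τ
    (show p (Φf s y) = p y by rw [hΦp, hy, map_one])
    (show R (Φf s y) = R y by
      obtain ⟨c, hc, -⟩ := Cover.exists_scalar_ker L τ hy
      rw [hΦR, show R y = c • 1 from hc, mul_smul_comm, mul_one, smul_mul_assoc, Units.mul_inv])
  let T := (Cover.rep L τ).character
  have hΦT : ∀ s y, T (Φ s y) = T y := fun s y => by
    change LinearMap.trace ℂ _ (R (Φf s y)) = LinearMap.trace ℂ _ (R y)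
    rw [hΦR, LinearMap.trace_mul_comm, ← mul_assoc, Units.inv_mul, one_mul]
  -- orders
  have hprime : ∀ q : ℕ, q.Prime → q ∣ Nat.card Γ → q ∣ Nat.card G := by
    intro q hq hqΓ
    have := Fact.mk hq
    obtain ⟨x, hx⟩ := exists_prime_orderOf_dvd_card' q hqΓ
    by_contra hqG
    have hpx : p x = 1 := by
      rw [← orderOf_eq_one_iff]
      exact Nat.eq_one_of_dvd_coprimes ((hq.coprime_iff_not_dvd).2 hqG)
        ((orderOf_map_dvd p x).trans (hx ▸ dvd_rfl)) (orderOf_dvd_natCard _)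
    obtain ⟨c, hc, hcp⟩ := Cover.exists_scalar_ker L τ hpx
    have hcq : c ^ q = 1 := by
      refine Cover.smul_one_inj (V := Fin t → ℂ) ?_
      rw [one_smul, ← one_pow (M := Module.End ℂ (Fin t → ℂ)) q, ← smul_pow, ← hc, ← map_pow,
        ← hx, pow_orderOf_eq_one, map_one, one_pow]
    have hdvd : t * Nat.card L ∣ Nat.card L * Nat.card L := by
      refine Nat.mul_dvd_mul ?_ dvd_rfl
      simpa using Char.finrank_dvd_card τ
    obtain ⟨j, hj⟩ := hdvd
    have hc2 : c ^ (Nat.card L * Nat.card L) = 1 := by rw [hj, pow_mul, hcp, one_pow]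
    have hqL : Nat.Coprime q (Nat.card L * Nat.card L) := by
      have h1 : Nat.Coprime q (Nat.card L) := (hq.coprime_iff_not_dvd).2 fun hd =>
        hqG (hd.trans (Subgroup.card_subgroup_dvd_card L))
      exact h1.mul_right h1
    have h4 := pow_gcd_eq_one.2 ⟨hcq, hc2⟩
    rw [hqL.gcd_eq_one, pow_one] at h4
    rw [h4, one_smul] at hc
    have : x = 1 := Cover.ext_grp L τ (by rw [map_one]; exact hpx) (by rw [map_one]; exact hc)
    rw [this, orderOf_one] at hx
    exact hq.ne_one hx.symm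
  have hΓodd : Odd (Nat.card Γ) := by
    by_contra h0
    rw [Nat.not_odd_iff_even, even_iff_two_dvd] at h0
    exact absurd (even_iff_two_dvd.2 (hprime 2 Nat.prime_two h0)) (Nat.not_even_iff_odd.2 h.odd)
  have hΓcop : (Nat.card Γ).Coprime (Nat.card S) := Nat.coprime_of_dvd fun q hq h1 h2 =>
    (hq.coprime_iff_not_dvd.1 (h.cop.coprime_dvd_left (hprime q hq h1))) h2
  have : Group.IsSolvable p.ker := Group.isSolvable_of_comm fun a b => Subtype.ext
    (Subgroup.mem_center_iff.1 (Ramified.mem_center_of_proj_eq_one L τ (MonoidHom.mem_ker.1 b.2))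
      (a : Γ))
  have hΓsolv : Group.IsSolvable Γ := Group.isSolvable_of_ker_le_range p.ker.subtype p (by simp)
  -- the quotient
  let I := (Cover.incl L τ).range
  have hΦI : ∀ (s : S), ∀ y ∈ I, Φ s y ∈ I := by
    rintro s _ ⟨n, rfl⟩
    exact ⟨φL s n, (hΦincl s n).symm⟩
  let Q := Γ ⧸ I
  let : Fintype Q := Fintype.ofFinite Q
  let : Fintype Γ := Fintype.ofFinite Γ
  let q : Γ →* Q := QuotientGroup.mk' I
  have hq : Function.Surjective q := QuotientGroup.mk'_surjective I
  have hmap : ∀ s, I.map (Φ s : Γ →* Γ) = I := fun s => by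
    refine le_antisymm (by rintro _ ⟨d, hd, rfl⟩; exact hΦI s d hd) fun d hd =>
      ⟨Φ s⁻¹ d, hΦI s⁻¹ d hd, ?_⟩
    change Φ s (Φ s⁻¹ d) = d
    rw [← MulAut.mul_apply, ← map_mul, mul_inv_cancel, map_one, MulAut.one_apply]
  let φQ : S →* MulAut Q :=
    { toFun := fun s => QuotientGroup.congr I I (Φ s) (hmap s)
      map_one' := MulEquiv.ext fun z => by
        induction z using QuotientGroup.induction_on with | H x =>
        change ((Φ 1 x : Γ) : Q) = _
        rw [map_one]
        rfl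
      map_mul' := fun s u => MulEquiv.ext fun z => by
        induction z using QuotientGroup.induction_on with | H x =>
        change ((Φ (s * u) x : Γ) : Q) = ((Φ s (Φ u x) : Γ) : Q)
        rw [map_mul]
        rfl }
  have hφQ : ∀ s x, φQ s (q x) = q (Φ s x) := fun s x => rfl
  let C := fixedSub φ
  let CQ := fixedSub φQ
  let : Fintype CQ := Fintype.ofFinite CQ
  have hqincl : ∀ n, q (Cover.incl L τ n) = 1 := fun n => (QuotientGroup.eq_one_iff _).2 ⟨n, rfl⟩
  have hCrep : ∀ y ∈ CQ, ∀ x, q x = y → ∃ n : L, p (x * Cover.incl L τ n) ∈ C := by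
    intro y hy x hx
    obtain ⟨d, ⟨n, rfl⟩, hd⟩ := exists_fixed_coset Φ hΓcop hΓsolv hΦI (x := x) fun s =>
      QuotientGroup.eq.1 (show q x = q (Φ s x) by
        rw [← hφQ, hx]; exact ((mem_fixedSub φQ).1 hy s).symm)
    refine ⟨n, (mem_fixedSub φ).2 fun s => ?_⟩
    rw [← hΦp]
    exact congrArg p ((mem_fixedSub Φ).1 hd s)
  have hlift : ∀ x, p x ∈ C → q x ∈ CQ := by
    intro x hx
    obtain ⟨d, hd, hxd⟩ := exists_fixed_coset Φ hΓcop hΓsolv (D := p.ker)
      (fun s d hd => by rw [hΦker s d hd]; exact hd) (x := x) fun s => by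
        rw [MonoidHom.mem_ker, map_mul, map_inv,
          show p (Φ s x) = p x from (hΦp s x).trans ((mem_fixedSub φ).1 hx s), inv_mul_cancel]
    refine (mem_fixedSub φQ).2 fun s => ?_
    rw [hφQ]
    congr 1
    have h1 := (mem_fixedSub Φ).1 hxd s
    rwa [map_mul, hΦker s d hd, mul_left_inj] at h1
  have hliftL : ∀ x, p x ∈ H → q x ∈ CQ := by
    intro x hx
    rw [hH] at hx
    obtain ⟨l, hl, c, hc, hlc⟩ := Subgroup.mem_sup_of_normal_left.1 hx
    have e : q x = q ((Cover.incl L τ ⟨l, hl⟩)⁻¹ * x) := by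
      rw [map_mul, map_inv, hqincl, inv_one, one_mul]
    rw [e]
    exact hlift _ (by rw [map_mul, map_inv, show p (Cover.incl L τ ⟨l, hl⟩) = l from rfl, ← hlc,
      inv_mul_cancel_left]; exact hc)
  let KQ := (K.comap p).map q
  have hKQn : KQ.Normal := ((‹K.Normal›).comap p).map q hq
  obtain ⟨lam, hlam, hlam1, -⟩ := Cover.exists_lam L τ hinvτ
  -- kernel representatives of the part over `L`
  have hbase : ∀ x : Cover.base L τ, ∃ k : Γ, p k = 1 ∧ q k = q x ∧
      R k = (lam x : ℂ) • 1 := by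
    intro x
    refine ⟨(x : Γ) * (Cover.incl L τ ⟨p x, x.2⟩)⁻¹, ?_, ?_, ?_⟩
    · rw [map_mul, map_inv]
      exact mul_inv_cancel (p x)
    · rw [map_mul, map_inv, hqincl, inv_one, mul_one]
    · rw [map_mul R, show R (x : Γ) = _ from hlam x, ← map_inv, show R (Cover.incl L τ _) = τ _ from rfl,
        smul_mul_assoc, ← map_mul τ, mul_inv_cancel, map_one]
  have hZ : ∀ y ∈ KQ ⊓ CQ, ∃ x : Cover.base L τ, q x = y := by
    rintro y ⟨⟨x, hx, rfl⟩, hyC⟩
    obtain ⟨n, hn⟩ := hCrep _ hyC x rfl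
    refine ⟨⟨x * Cover.incl L τ n, ?_⟩, by rw [map_mul, hqincl, mul_one]⟩
    exact h.inf ⟨by rw [map_mul]; exact mul_mem hx (h.le n.2), hn⟩
  have hbaseC : ∀ x : Cover.base L τ, q x ∈ KQ ⊓ CQ := fun x =>
    ⟨⟨x, h.le x.2, rfl⟩, hliftL x (hLH x.2)⟩
  have hsect : Sect φQ KQ :=
    { odd := hΓodd.of_dvd_nat (Subgroup.card_quotient_dvd_card I)
      cop := hΓcop.coprime_dvd_left (Subgroup.card_quotient_dvd_card I)
      solv := by
        have := hΓsolv
        exact Group.isSolvable_of_surjective hq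
      sup := by
        refine eq_top_iff.2 fun y _ => ?_
        obtain ⟨x, rfl⟩ := hq y
        obtain ⟨a, ha, c, hc, hac⟩ := Subgroup.mem_sup_of_normal_left.1
          (h.sup.symm ▸ Subgroup.mem_top (p x) : p x ∈ K ⊔ fixedSub φ)
        obtain ⟨w, hw⟩ := hp c
        have e : x = (x * w⁻¹) * w := by rw [inv_mul_cancel_right]
        rw [e, map_mul]
        refine Subgroup.mul_mem_sup ⟨x * w⁻¹, ?_, rfl⟩ (hlift w (hw.symm ▸ hc))
        change p (x * w⁻¹) ∈ K
        rw [map_mul, map_inv, hw, ← hac, mul_inv_cancel_right]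
        exact ha
      inv := by
        rintro s _ ⟨x, hx, rfl⟩
        exact ⟨Φ s x, h.invK s _ hx, (hφQ s x).symm⟩
      cent := by
        intro y hy
        obtain ⟨x, rfl⟩ := hZ y hy
        obtain ⟨k, hk1, hk2, -⟩ := hbase x
        rw [← hk2]
        refine Subgroup.mem_center_iff.2 fun z => ?_
        obtain ⟨z, rfl⟩ := hq z
        rw [← map_mul, ← map_mul,
          Subgroup.mem_center_iff.1 (Ramified.mem_center_of_proj_eq_one L τ hk1) z]
      comm := by
        rintro _ ⟨a, ha, rfl⟩ _ ⟨b, hb, rfl⟩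
        rw [← map_commutatorElement]
        refine hbaseC ⟨⁅a, b⁆, ?_⟩
        change p ⁅a, b⁆ ∈ L
        rw [map_commutatorElement]
        exact h.comm _ ha _ hb }
  -- the scalar of the part over `L`
  let lam0 : Q → ℂ := fun y => if hy : ∃ x : Cover.base L τ, q x = y then ((lam hy.choose : ℂ))⁻¹
    else 0
  have hlam0 : ∀ x : Cover.base L τ, lam0 (q x) = ((lam x : ℂ))⁻¹ := fun x => by
    have hy : ∃ x' : Cover.base L τ, q x' = q x := ⟨x, rfl⟩
    simp only [lam0, dif_pos hy]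
    obtain ⟨n, hn⟩ := QuotientGroup.eq.1 hy.choose_spec
    have e : x = hy.choose * ⟨Cover.incl L τ n, n.2⟩ := Subtype.ext (by
      rw [Subgroup.coe_mul]; simp only [hn, mul_inv_cancel_left])
    conv_rhs => rw [e, map_mul, hlam1, mul_one]
  have hfaith : ∀ y ∈ KQ ⊓ CQ, lam0 y = 1 → y = 1 := by
    intro y hy h1
    obtain ⟨x, rfl⟩ := hZ y hy
    rw [hlam0, inv_eq_one] at h1
    obtain ⟨k, hk1, hk2, hk3⟩ := hbase x
    rw [← hk2, show k = 1 from Cover.ext_grp L τ (by rw [map_one]; exact hk1)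
      (show R k = R 1 by rw [hk3, h1, one_smul, map_one]), map_one]
  obtain ⟨P1, P2, P3⟩ := hsect.parity hfaith
  -- the part over `H`
  let HT := H.comap p
  let : Fintype HT := Fintype.ofFinite HT
  let πH : HT →* H := p.subgroupComap H
  have hπH : Function.Surjective πH :=
    MonoidHom.subgroupComap_surjective_of_surjective _ _ hp
  let qH : HT →* CQ := (q.comp HT.subtype).codRestrict CQ fun x => hliftL x x.2
  have hqH : Function.Surjective qH := by
    rintro ⟨y, hy⟩
    obtain ⟨x, rfl⟩ := hq y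
    obtain ⟨n, hn⟩ := hCrep _ hy x rfl
    refine ⟨⟨x * Cover.incl L τ n, ?_⟩, Subtype.ext ?_⟩
    · rw [Subgroup.mem_comap, hH]
      exact Subgroup.mem_sup_right hn
    · change q (x * Cover.incl L τ n) = q x
      rw [map_mul, hqincl, mul_one]
  let jL : L →* HT := (Cover.incl L τ).codRestrict HT fun n => hLH n.2
  have hqj : ∀ (x : HT) (n : L), qH (x * jL n) = qH x := fun x n => Subtype.ext (by
    change q ((x : Γ) * Cover.incl L τ n) = q x
    rw [map_mul, hqincl, mul_one])
  have hTH : IsCharacter HT (fun x : HT => T x) :=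
    IsCharacter.restrict (isCharacter_character _) HT
  have hisoH : ∀ a b : CQ → ℂ, Cfsg.classInner (fun x : HT => T x * a (qH x))
      (fun x : HT => T x * b (qH x)) = Cfsg.classInner a b := fun a b => by
    refine Eq.trans (Ramified.isometry L τ HT.subtype jL (fun n => rfl) (fun x => a (qH x))
      (fun x => b (qH x)) (fun x n => congrArg a (hqj x n)) (fun x n => congrArg b (hqj x n))) ?_
    exact CharTools.classInner_comp_surjective qH hqH a b
  have hmul : ∀ ζ : IrrCharacter CQ, IsIrrCharacter HT (fun x : HT => T x * (ζ : CQ → ℂ) (qH x)) :=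
    fun ζ => IsCharacter.isIrrCharacter_of_classInner_self
      (IsCharacter.mul hTH (IsCharacter.comp (IsIrrCharacter.isCharacter ζ.2) qH))
      ((hisoH _ _).trans (classInner_irr_self ζ.2))
  have hfactor : ∀ (a : CQ → ℂ), IsCharacter CQ a → ∀ f : HT → ℂ, IsIrrCharacter HT f →
      Cfsg.classInner (fun x : HT => T x * a (qH x)) f ≠ 0 →
      ∃ ζ : IrrCharacter CQ, f = (fun x : HT => T x * (ζ : CQ → ℂ) (qH x)) ∧
        Cfsg.classInner a (ζ : CQ → ℂ) = Cfsg.classInner (fun x : HT => T x * a (qH x)) f := by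
    intro a ha f hf hne
    obtain ⟨m, hm⟩ := IsCharacter.exists_nat_combination ha
    obtain ⟨ζ, hζ⟩ : ∃ ζ : IrrCharacter CQ,
        Cfsg.classInner (fun x : HT => T x * (ζ : CQ → ℂ) (qH x)) f ≠ 0 := by
      by_contra hcon
      push Not at hcon
      refine hne ?_
      have e : (fun x : HT => T x * a (qH x)) =
          ∑ ζ : IrrCharacter CQ, (m ζ : ℂ) • fun x : HT => T x * (ζ : CQ → ℂ) (qH x) := by
        funext x
        rw [hm]
        simp only [Finset.sum_apply, Pi.smul_apply, smul_eq_mul, Finset.mul_sum]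
        exact Finset.sum_congr rfl fun _ _ => by ring
      rw [e, classInner_sum_left]
      exact Finset.sum_eq_zero fun ζ _ => by rw [classInner_smul_left, hcon ζ, mul_zero]
    have he := eq_of_classInner_ne_zero (hmul ζ) hf hζ
    exact ⟨ζ, he.symm, by rw [← he, hisoH]⟩
  -- characters over `θ`
  have hfac : ∀ χ : IrrCharacter G, Cfsg.classInner (fun n : L => (χ : G → ℂ) n) τ.character ≠ 0 →
      ∃ ξ : IrrCharacter Q, (∀ x : Γ, (χ : G → ℂ) (p x) = T x * (ξ : Q → ℂ) (q x)) ∧
        Over' (KQ ⊓ CQ) lam0 ξ ∧ (Inv φ (χ : G → ℂ) → Inv φQ (ξ : Q → ℂ)) := by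
    intro χ hχ
    obtain ⟨e, -, he⟩ := Cliff.res_eq_smul L χ.2 (isIrrCharacter_character τ) h.fixG hχ
    obtain ⟨ξ, hξ, hx⟩ := Ramified.exists_quotient_char L τ hinvτ χ.2 he
    refine ⟨⟨ξ, hξ⟩, hx, fun y hy => ?_, fun hinv s y => ?_⟩
    · obtain ⟨x, rfl⟩ := hZ y hy
      obtain ⟨k, hk1, hk2, hk3⟩ := hbase x
      rw [hlam0, ← hk2]
      change ξ (q k) = ξ 1 * _
      have a1 := hx k
      have a2 := hx 1
      have hT1 : T k = (lam x : ℂ) * T 1 := by
        simp only [T, Representation.character]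
        rw [show Cover.rep L τ k = _ from hk3, map_smul, smul_eq_mul, map_one (Cover.rep L τ)]
      have hT0 : T 1 ≠ 0 := IsIrrCharacter.apply_one_ne_zero (isIrrCharacter_character _)
      rw [hk1, ← map_one p, a2] at a1
      simp only [QuotientGroup.mk_one] at a1
      change T 1 * ξ 1 = T k * ξ (q k) at a1
      rw [hT1] at a1
      field_simp
      refine mul_left_cancel₀ hT0 ?_
      linear_combination -a1
    · obtain ⟨x, rfl⟩ := hq y
      obtain ⟨n, hn⟩ := Ramified.exists_char_ne_zero L τ x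
      have e1 : q (x * Cover.incl L τ n) = q x := by rw [map_mul, hqincl, mul_one]
      rw [← e1, hφQ]
      refine mul_left_cancel₀ hn ?_
      have a1 := hx (x * Cover.incl L τ n)
      have a2 := hx (Φ s (x * Cover.incl L τ n))
      rw [show Cover.proj L τ (Φ s (x * Cover.incl L τ n)) = φ s (p (x * Cover.incl L τ n)) from rfl,
        hinv s, show (Cover.rep L τ).character (Φ s (x * Cover.incl L τ n)) =
          T (x * Cover.incl L τ n) from hΦT s _] at a2
      exact a2.symm.trans a1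
  have hodd : ∀ (χ : IrrCharacter G) (ξ : IrrCharacter Q),
      (∀ x : Γ, (χ : G → ℂ) (p x) = T x * (ξ : Q → ℂ) (q x)) →
      ∀ f : H → ℂ, OddMult (fun x : H => (χ : G → ℂ) x) f ↔
        OddMult (fun x : HT => T x * (ξ : Q → ℂ) (qH x : Q)) (fun x : HT => f (πH x)) := by
    intro χ ξ hx f
    rw [← oddMult_comp πH hπH]
    refine Eq.to_iff (congrArg (fun a => OddMult a (fun x : HT => f (πH x))) ?_)
    funext x
    exact hx x
  have hoddC : ∀ (ξ : IrrCharacter Q) (ζ : CQ → ℂ),
      OddMult (fun x : HT => T x * (ξ : Q → ℂ) (qH x : Q)) (fun x : HT => T x * ζ (qH x)) ↔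
        OddMult (fun c : CQ => (ξ : Q → ℂ) c) ζ := by
    intro ξ ζ
    simp only [OddMult, hisoH (fun c : CQ => (ξ : Q → ℂ) c) ζ]
  have hrestr : ∀ ξ : IrrCharacter Q, IsCharacter CQ (fun c : CQ => (ξ : Q → ℂ) c) := fun ξ =>
    IsCharacter.restrict (IsIrrCharacter.isCharacter ξ.2) CQ
  have hoverC : ∀ (ξ : IrrCharacter Q), Over' (KQ ⊓ CQ) lam0 ξ → ∀ ζ : IrrCharacter CQ,
      Cfsg.classInner (fun c : CQ => (ξ : Q → ℂ) c) (ζ : CQ → ℂ) ≠ 0 → OverC φQ KQ lam0 ζ := by
    intro ξ hξ ζ hne c hcK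
    have hc : (c : Q) ∈ Subgroup.center Q := hsect.cent ⟨hcK, c.2⟩
    refine (constituent_scalar ζ.2 (Subgroup.mem_center_iff.2 fun y =>
      Subtype.ext (Subgroup.mem_center_iff.1 hc y)) (fun x => ?_) hne).1
    have h1 := CharOver.apply_mul_central ξ.2 hc (x : Q)
    rw [hξ c ⟨hcK, c.2⟩] at h1
    rw [Subgroup.coe_mul]
    exact mul_right_cancel₀ (IsIrrCharacter.apply_one_ne_zero ξ.2) (by rw [h1]; ring)
  refine ⟨fun χ hinv hχ => ?_, fun χ χ' hinv hinv' hχ hχ' ψ h1 h2 => ?_, fun ψ hψ => ?_⟩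
  · obtain ⟨ξ, hx, hξo, hξi⟩ := hfac χ hχ
    obtain ⟨ζ, hζ, hζu⟩ := P1 ξ (hξi hinv) hξo
    have hζo := hoverC ξ hξo ζ hζ.ne_zero
    obtain ⟨ψ, hψ⟩ := exists_below πH hπH (hmul ζ) fun k hk => by
      have hpk : p (k : Γ) = 1 := congrArg Subtype.val hk
      let kb : Cover.base L τ := ⟨k, by
        change p (k : Γ) ∈ L
        rw [hpk]
        exact one_mem L⟩
      have hRk : R (k : Γ) = (lam kb : ℂ) • 1 := by
        rw [show R (k : Γ) = _ from hlam kb,
          show (⟨Cover.proj L τ kb, kb.2⟩ : L) = 1 from Subtype.ext hpk, map_one]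
      have hT1 : T k = (lam kb : ℂ) * T ((1 : HT) : Γ) := by
        simp only [T, Representation.character, Subgroup.coe_one]
        rw [show Cover.rep L τ (k : Γ) = _ from hRk, map_smul, smul_eq_mul, map_one (Cover.rep L τ)]
      have h3 := hζo (qH k) (hbaseC kb).1
      rw [show lam0 (qH k : Q) = _ from hlam0 kb] at h3
      change T k * (ζ : CQ → ℂ) (qH k) = T ((1 : HT) : Γ) * (ζ : CQ → ℂ) (qH 1)
      rw [h3, hT1, map_one]
      field_simp [Units.ne_zero]
    refine ⟨ψ, ?_, fun s a a' he => ?_, ?_, fun ψ' hψ' => ?_⟩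
    · have e : (fun n : L => (ψ : H → ℂ) ⟨n, hLH n.2⟩) = (ζ : CQ → ℂ) 1 • τ.character := by
        funext n
        have h1 := hψ (jL n)
        rw [show qH (jL n) = 1 from Subtype.ext (hqincl n)] at h1
        rw [Pi.smul_apply, smul_eq_mul, mul_comm]
        exact h1
      rw [e, classInner_smul_left, classInner_irr_self (isIrrCharacter_character τ), mul_one]
      exact IsIrrCharacter.apply_one_ne_zero ζ.2
    · obtain ⟨x, hxa⟩ := hπH a
      have hmem : Φ s (x : Γ) ∈ HT := by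
        change p (Φ s (x : Γ)) ∈ H
        rw [show p (Φ s (x : Γ)) = φ s (p x) from rfl, show p (x : Γ) = (a : G) from congrArg Subtype.val hxa,
          ← he]
        exact a'.2
      have e1 : πH ⟨Φ s (x : Γ), hmem⟩ = a' := Subtype.ext (by
        rw [he, ← hxa]; rfl)
      have e2 : qH ⟨Φ s (x : Γ), hmem⟩ = qH x := Subtype.ext (by
        change q (Φ s (x : Γ)) = q (x : Γ)
        rw [← hφQ]
        exact (mem_fixedSub φQ).1 (qH x).2 s)
      rw [← hxa, ← e1, hψ, hψ, e2]
      change T (Φ s (x : Γ)) * _ = T x * _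
      rw [hΦT]
    · rw [hodd χ ξ hx, show (fun x : HT => (ψ : H → ℂ) (πH x)) = fun x : HT => T x *
        (ζ : CQ → ℂ) (qH x) from funext hψ]
      exact (hoddC ξ _).2 hζ
    · have h1 := (hodd χ ξ hx _).1 hψ'
      obtain ⟨ζ', hζ', -⟩ := hfactor _ (hrestr ξ) _ (CharTools.isIrrCharacter_comp πH hπH ψ'.2)
        h1.ne_zero
      rw [hζ', hoddC] at h1
      refine Subtype.ext (funext fun a => ?_)
      obtain ⟨x, rfl⟩ := hπH a
      rw [hψ, ← hζu ζ' h1]
      exact congrFun hζ' x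
  · obtain ⟨ξ, hx, hξo, hξi⟩ := hfac χ hχ
    obtain ⟨ξ', hx', hξo', hξi'⟩ := hfac χ' hχ'
    have a1 := (hodd χ ξ hx _).1 h1
    have a2 := (hodd χ' ξ' hx' _).1 h2
    obtain ⟨ζ, hζ, -⟩ := hfactor _ (hrestr ξ) _ (CharTools.isIrrCharacter_comp πH hπH ψ.2) a1.ne_zero
    rw [hζ, hoddC] at a1 a2
    have h3 := P2 ξ ξ' (hξi hinv) (hξi' hinv') hξo hξo' ζ a1 a2
    refine Subtype.ext (funext fun g => ?_)
    obtain ⟨x, rfl⟩ := hp g
    rw [hx, hx', h3]
  · obtain ⟨χ₀, hχ₀, hne⟩ := Clifford.exists_constituent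
      (IsCharacter.indFun H (IsIrrCharacter.isCharacter ψ.2)) (by
        rw [indFun_apply_one]
        exact mul_ne_zero (Nat.cast_ne_zero.2 Subgroup.index_ne_zero_of_finite)
          (IsIrrCharacter.apply_one_ne_zero ψ.2))
    rw [classInner_indFun H (ψ : H → ℂ) χ₀ (IsIrrCharacter.isClassFunction hχ₀),
      ← Cliff.classInner_comm_char (IsCharacter.restrict (IsIrrCharacter.isCharacter hχ₀) H)
        (IsIrrCharacter.isCharacter ψ.2)] at hne
    have hχ₀θ : Cfsg.classInner (fun n : L => χ₀ n) τ.character ≠ 0 :=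
      Glauberman.inner_ne_zero_trans H.subtype (Subgroup.inclusion hLH)
        (IsIrrCharacter.isCharacter hχ₀) ψ.2 (isIrrCharacter_character τ) hne hψ
    obtain ⟨ξ₀, hx₀, hξo₀, -⟩ := hfac ⟨χ₀, hχ₀⟩ hχ₀θ
    obtain ⟨ζ, hζ, hζi⟩ := hfactor _ (hrestr ξ₀) _ (CharTools.isIrrCharacter_comp πH hπH ψ.2) (by
      rw [← CharTools.classInner_comp_surjective πH hπH] at hne
      convert hne using 2
      funext x
      exact (hx₀ x).symm)
    have hζo := hoverC ξ₀ hξo₀ ζ (by
      rw [hζi]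
      rw [← CharTools.classInner_comp_surjective πH hπH] at hne
      convert hne using 2
      funext x
      exact (hx₀ x).symm)
    obtain ⟨ξ, hξi, hξo, hξodd⟩ := P3 ζ hζo
    have hmirr : IsIrrCharacter Γ (fun x => T x * (ξ : Q → ℂ) (q x)) := by
      refine IsCharacter.isIrrCharacter_of_classInner_self
        (IsCharacter.mul (isCharacter_character _) (IsCharacter.comp
          (IsIrrCharacter.isCharacter ξ.2) q)) ?_
      refine (Ramified.isometry L τ (MonoidHom.id _) (Cover.incl L τ) (fun n => rfl)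
        (fun x => (ξ : Q → ℂ) (q x)) (fun x => (ξ : Q → ℂ) (q x))
        (fun x n => congrArg (ξ : Q → ℂ) (Ramified.incl_range_mul L τ x n))
        (fun x n => congrArg (ξ : Q → ℂ) (Ramified.incl_range_mul L τ x n))).trans ?_
      exact (CharTools.classInner_comp_surjective q hq (ξ : Q → ℂ) ξ).trans (classInner_irr_self ξ.2)
    obtain ⟨χ, hχ⟩ := exists_below p hp hmirr fun k hpk => by
      let kb : Cover.base L τ := ⟨k, by
        change p k ∈ L
        rw [hpk]
        exact one_mem L⟩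
      have hRk : R k = (lam kb : ℂ) • 1 := by
        rw [show R k = _ from hlam kb,
          show (⟨Cover.proj L τ kb, kb.2⟩ : L) = 1 from Subtype.ext hpk, map_one]
      have hT1 : T k = (lam kb : ℂ) * T 1 := by
        simp only [T, Representation.character]
        rw [show Cover.rep L τ k = _ from hRk, map_smul, smul_eq_mul, map_one (Cover.rep L τ)]
      have h3 := hξo (q k) (hbaseC kb)
      rw [show lam0 (q k) = _ from hlam0 kb] at h3
      rw [h3, hT1, map_one]
      field_simp [Units.ne_zero]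
    refine ⟨χ, fun s g => ?_, ?_, ?_⟩
    · obtain ⟨x, rfl⟩ := hp g
      rw [← hΦp, hχ, hχ]
      change T (Φ s x) * (ξ : Q → ℂ) (q (Φ s x)) = _
      rw [hΦT, ← hφQ, hξi s]
    · have e : (fun n : L => (χ : G → ℂ) n) = (ξ : Q → ℂ) 1 • τ.character := by
        funext n
        have h1 := hχ (Cover.incl L τ n)
        rw [hqincl] at h1
        rw [Pi.smul_apply, smul_eq_mul, mul_comm]
        exact h1
      rw [e, classInner_smul_left, classInner_irr_self (isIrrCharacter_character τ), mul_one]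
      exact IsIrrCharacter.apply_one_ne_zero ξ.2
    · rw [hodd χ ξ hχ, hζ]
      exact (hoddC ξ _).2 hξodd

end CfsgLib.KGV.Parity
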