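import Cfsg.Agent.Lib.KGV.FixMean
import Cfsg.Agent.Lib.Char.Twist
import Cfsg.Agent.Lib.Char.Clifford
import Cfsg.Agent.Lib.Char.CentralOver
import Cfsg.Agent.Lib.Char.Linear
import Cfsg.Agent.Lib.CharDeep.Clifford
import Cfsg.Agent.Lib.CharDeep.Gallagher
import Cfsg.Agent.Lib.CharDeep.Extend
import Cfsg.Agent.Lib.Solvable.Core
import Cfsg.Agent.Lib.Transfer.PGroup
import Cfsg.Agent.S0887
import Cfsg.Prelude.Def_Blocks

/-!
# Degrees of primitive characters of metanilpotent groups
-/

set_option autoImplicit false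

namespace CfsgLib.KGV

open Cfsg CfsgLib.Char
open scoped ComplexConjugate commutatorElement

universe u

/-- Restrictions to normal subgroups are homogeneous. -/
def Homogeneous {G : Type u} [Group G] (χ : G → ℂ) : Prop :=
  ∀ N : Subgroup G, N.Normal → ∃ (θ : N → ℂ) (e : ℕ), IsIrrCharacter N θ ∧
    (fun x : N => χ x) = (e : ℂ) • θ

variable {G : Type u} [Group G] [Finite G]

/-- A character not induced from a proper subgroup has homogeneous restrictions. -/
theorem homogeneous_of_primitive [Fintype G] {χ : G → ℂ} (hχ : IsIrrCharacter G χ)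
    (hprim : ¬ ∃ (H : Subgroup G), H ≠ ⊤ ∧ ∃ θ : ↥H → ℂ, IsCharacter ↥H θ ∧ indFun H θ = χ) :
    Homogeneous χ := by
  classical
  intro N hN
  let : Fintype N := Fintype.ofFinite N
  obtain ⟨θ, hθ, hc⟩ := CfsgLib.Clifford.exists_constituent_res N hχ
  let T := CharTwist.inertia N θ
  let : Fintype T := Fintype.ofFinite T
  obtain ⟨ψ, hψ, hind, -⟩ := CharDeep.Cliff.correspondence N hχ hθ T
    (fun g => CharTwist.mem_inertia) (CharTwist.le_inertia N (IsIrrCharacter.isClassFunction hθ)) hc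
  have hT : T = ⊤ := by
    by_contra h
    exact hprim ⟨T, h, ψ, IsIrrCharacter.isCharacter hψ, hind⟩
  obtain ⟨e, -, he⟩ := CharDeep.Cliff.res_eq_smul N hχ hθ
    (fun g => CharTwist.mem_inertia.1 (hT ▸ Subgroup.mem_top g : g ∈ T)) hc
  exact ⟨θ, e, hθ, he⟩

/-- A homogeneous character restricts irreducibly when the quotient is nilpotent. -/
theorem irr_res_of_nilpotent [Fintype G] {χ : G → ℂ} (hχ : IsIrrCharacter G χ) (hhom : Homogeneous χ)
    (N : Subgroup G) [N.Normal] [Group.IsNilpotent (G ⧸ N)] :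
    IsIrrCharacter N (fun x : N => χ x) := by
  classical
  suffices h : ∀ (m : ℕ) (N : Subgroup G) [N.Normal] [Group.IsNilpotent (G ⧸ N)], N.index = m →
      IsIrrCharacter N (fun x : N => χ x) from h _ N rfl
  intro m
  induction m using Nat.strong_induction_on with
  | _ m ih =>
  intro N _ _ hm
  let : Fintype N := Fintype.ofFinite N
  by_cases hNt : N = ⊤
  · subst hNt
    exact CharTwist.isIrrCharacter_comp hχ (⊤ : Subgroup G).subtype fun g => ⟨⟨g, trivial⟩, rfl⟩
  have : Nontrivial (G ⧸ N) := by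
    obtain ⟨x, -, hx⟩ := SetLike.not_le_iff_exists.mp (fun h : ⊤ ≤ N => hNt (top_le_iff.mp h))
    exact ⟨(x : G ⧸ N), 1, fun h => hx ((QuotientGroup.eq_one_iff x).1 h)⟩
  obtain ⟨z, hz, hz1⟩ := (Subgroup.bot_or_exists_ne_one (Subgroup.center (G ⧸ N))).resolve_left
    (Group.IsNilpotent.center_ne_bot _)
  let K : Subgroup G := (Subgroup.zpowers z).comap (QuotientGroup.mk' N)
  have hzn : (Subgroup.zpowers z).Normal := ⟨fun a ha g => by
    have hac : a ∈ Subgroup.center (G ⧸ N) := Subgroup.zpowers_le.2 hz ha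
    rw [Subgroup.mem_center_iff.1 hac g, mul_inv_cancel_right]
    exact ha⟩
  have : K.Normal := hzn.comap _
  have hNK : N ≤ K := fun x hx => by
    change (x : G ⧸ N) ∈ Subgroup.zpowers z
    rw [(QuotientGroup.eq_one_iff x).2 hx]
    exact one_mem _
  obtain ⟨g₀, hg₀⟩ := QuotientGroup.mk_surjective z
  have hlt : N < K := lt_of_le_of_ne hNK fun h => hz1 (by
    have : g₀ ∈ K := by
      change (g₀ : G ⧸ N) ∈ Subgroup.zpowers z
      rw [hg₀]
      exact Subgroup.mem_zpowers z
    rw [← h] at this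
    rw [← hg₀]
    exact (QuotientGroup.eq_one_iff g₀).2 this)
  have hnilK : Group.IsNilpotent (G ⧸ K) :=
    Group.nilpotent_of_surjective (QuotientGroup.map N K (MonoidHom.id G) hNK) fun q => by
      obtain ⟨g, rfl⟩ := QuotientGroup.mk_surjective q
      exact ⟨(g : G ⧸ N), rfl⟩
  have hη := ih K.index (hm ▸ Subgroup.index_strictAnti hlt) K rfl
  let : Fintype K := Fintype.ofFinite K
  obtain ⟨θ, e, hθ, he⟩ := hhom N inferInstance
  have he0 : (e : ℂ) ≠ 0 := fun h0 => by
    have h := congrFun he 1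
    rw [h0, zero_smul, Pi.zero_apply] at h
    exact IsIrrCharacter.apply_one_ne_zero hχ h
  -- work inside `K`
  let N' : Subgroup K := N.subgroupOf K
  let : Fintype N' := Fintype.ofFinite N'
  let ε : N' ≃* N := Subgroup.subgroupOfEquivOfLe hNK
  let θ' : N' → ℂ := θ ∘ ε
  have hθ' : IsIrrCharacter N' θ' := CharTwist.isIrrCharacter_comp_equiv hθ ε
  have hθ'r : ∀ x : N', θ' x = (e : ℂ)⁻¹ * χ ((x : K) : G) := fun x => by
    rw [eq_inv_mul_iff_mul_eq₀ he0]
    exact (congrFun he (ε x)).symm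
  have hcyc : IsCyclic (K ⧸ N') := by
    let f : K →* Subgroup.zpowers z := ((QuotientGroup.mk' N).comp K.subtype).codRestrict _ fun x => x.2
    have hf : f.ker = N' := by
      ext x
      rw [MonoidHom.mem_ker, Subgroup.mem_subgroupOf, Subtype.ext_iff]
      exact QuotientGroup.eq_one_iff (x : G)
    exact isCyclic_of_injective
      ((QuotientGroup.kerLift f).comp (QuotientGroup.quotientMulEquivOfEq hf.symm).toMonoidHom)
      ((QuotientGroup.kerLift_injective f).comp (MulEquiv.injective _))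
  obtain ⟨E, hE, hEN⟩ := CharDeep.Extend.extends_of_cyclic N' θ' hθ' (fun g x => by
    rw [hθ'r, hθ'r]
    congr 1
    exact IsIrrCharacter.isClassFunction hχ _ _) hcyc
  have hEN' : (fun x : N' => E x) = θ' := funext hEN
  obtain ⟨-, -, h3⟩ := CharDeep.Gal.quotient_bijection N' hE (hEN' ▸ hθ')
  obtain ⟨β, hβ, hβE⟩ := h3 _ hη (by
    have hres : (fun x : N' => (fun y : K => χ y) (x : K)) = (e : ℂ) • θ' :=
      funext fun x => congrFun he (ε x)
    rw [hres, hEN', classInner_smul_left, classInner_irr_self hθ', mul_one]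
    exact he0)
  have hβ1 : β 1 = 1 := by
    let : Fintype (K ⧸ N') := Fintype.ofFinite _
    let : CommGroup (K ⧸ N') := IsCyclic.commGroup
    have hk : Nat.card (IrrCharacter (K ⧸ N')) = Nat.card (K ⧸ N') := by
      rw [card_irrCharacter]
      exact (Nat.card_eq_of_bijective ConjClasses.mk ⟨fun a b h => by
        obtain ⟨c, hc⟩ := isConj_iff.mp (ConjClasses.mk_eq_mk_iff_isConj.mp h)
        rw [← hc, mul_comm c a, mul_inv_cancel_right], ConjClasses.mk_surjective⟩).symm
    have hd := sum_degree_sq (G := K ⧸ N')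
    let : Fintype (IrrCharacter (K ⧸ N')) := Fintype.ofFinite _
    rw [← hk, Nat.card_eq_fintype_card, ← Finset.card_univ, Finset.card_eq_sum_ones] at hd
    have h1 := (Finset.sum_eq_sum_iff_of_le (fun χ : IrrCharacter (K ⧸ N') => fun _ =>
      Nat.one_le_pow _ _ (IsIrrCharacter.degree_pos χ.2))).mp hd.symm ⟨β, hβ⟩ (Finset.mem_univ _)
    rw [← IsCharacter.degree_cast (IsIrrCharacter.isCharacter hβ),
      (Nat.pow_eq_one.mp h1.symm).resolve_right two_ne_zero, Nat.cast_one]
  have hkey : (fun x : N => χ x) = θ := by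
    funext x
    have h := congrFun hβE (ε.symm x : K)
    simp only [Pi.mul_apply, Function.comp_apply, QuotientGroup.mk'_apply] at h
    rw [(QuotientGroup.eq_one_iff (ε.symm x : K)).2 (ε.symm x).2, hβ1, one_mul, hEN] at h
    simp only [θ', Function.comp_apply, MulEquiv.apply_symm_apply] at h
    exact h.symm
  exact hkey ▸ hθ

/-- In a faithful homogeneous representation, abelian normal subgroups are central. -/
theorem le_center_of_abelian {d : ℕ} (ρ : Representation ℂ G (Fin d → ℂ))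
    (hinj : Function.Injective ρ) (hρ : ρ.IsIrreducible) (hhom : Homogeneous ρ.character)
    (A : Subgroup G) [A.Normal] (hA : ∀ a ∈ A, ∀ b ∈ A, a * b = b * a) : A ≤ Subgroup.center G := by
  classical
  intro a ha
  obtain ⟨θ, e, hθ, he⟩ := hhom A inferInstance
  obtain ⟨n, σ, hσ, hσθ⟩ := hθ
  obtain ⟨s, hs⟩ := exists_scalar_of_commute σ (σ ⟨a, ha⟩) fun b => by
    rw [← map_mul, ← map_mul, show (⟨a, ha⟩ : A) * b = b * ⟨a, ha⟩ from Subtype.ext (hA a ha b b.2)]
  have ho : orderOf (⟨a, ha⟩ : A) ≠ 0 := (orderOf_pos _).ne'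
  have hnorm : ‖s‖ = 1 := by
    have hnt : Nontrivial (Fin n → ℂ) := CharKernel.nontrivial_of_irreducible σ
    have h1 : σ ((⟨a, ha⟩ : A) ^ orderOf (⟨a, ha⟩ : A)) =
        (s ^ orderOf (⟨a, ha⟩ : A)) • (1 : Module.End ℂ (Fin n → ℂ)) := by
      rw [map_pow, hs, smul_pow, one_pow]
    rw [pow_orderOf_eq_one, map_one] at h1
    refine Complex.norm_eq_one_of_pow_eq_one (smul_left_injective ℂ
      (one_ne_zero (α := Module.End ℂ (Fin n → ℂ)))
      (show s ^ orderOf (⟨a, ha⟩ : A) • (1 : Module.End ℂ (Fin n → ℂ)) = (1 : ℂ) • 1 by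
        rw [← h1, one_smul])) ho
  have hval : ρ.character a = (Module.finrank ℂ (Fin d → ℂ) : ℂ) * s := by
    have h1 := congrFun he ⟨a, ha⟩
    have h2 := congrFun he 1
    simp only [Pi.smul_apply, smul_eq_mul, Subgroup.coe_one, ← hσθ, Representation.char_one] at h1 h2
    rw [h1, h2]
    have h3 : σ.character ⟨a, ha⟩ = s * (Module.finrank ℂ (Fin n → ℂ) : ℂ) := by
      simp [Representation.character, hs]
    rw [h3]
    ring
  have hscal := eq_smul_id_of_character_eq ρ a s hnorm hval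
  rw [Subgroup.mem_center_iff]
  intro g
  refine hinj ?_
  rw [map_mul, map_mul, hscal]
  ext v
  simp

/-- The degree of an irreducible character squared is at most the index of the centre. -/
theorem degree_sq_mul_le [Fintype G] {ψ : G → ℂ} (hψ : IsIrrCharacter G ψ) (Z : Subgroup G)
    (hZ : Z ≤ Subgroup.center G) : degree ψ ^ 2 * Nat.card Z ≤ Nat.card G := by
  classical
  let : Fintype Z := Fintype.ofFinite Z
  obtain ⟨d, hd0, hd⟩ := IsIrrCharacter.exists_degree hψ
  have hdeg : degree ψ = d := by simp [degree, hd]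
  have hsum := classInner_irr_self hψ
  rw [Cfsg.classInner, inv_mul_eq_one₀ (Nat.cast_ne_zero.mpr Nat.card_pos.ne')] at hsum
  have hsum' : (Nat.card G : ℝ) = ∑ g : G, ‖ψ g‖ ^ 2 := by
    have h2 : ((Nat.card G : ℝ) : ℂ) = ((∑ g : G, ‖ψ g‖ ^ 2 : ℝ) : ℂ) := by
      push_cast
      rw [hsum]
      exact Finset.sum_congr rfl fun g _ => Complex.mul_conj' (ψ g)
    exact_mod_cast h2
  have hZv : ∀ z : Z, ‖ψ z‖ ^ 2 = (d : ℝ) ^ 2 := by
    intro z
    have h1 := CharOver.apply_mul_central hψ (hZ z.2) (z : G)⁻¹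
    rw [inv_mul_cancel, hd, IsIrrCharacter.apply_inv hψ, mul_comm (conj _), Complex.mul_conj',
      ← sq] at h1
    exact_mod_cast h1.symm
  have h3 : ((degree ψ ^ 2 * Nat.card Z : ℕ) : ℝ) ≤ (Nat.card G : ℝ) := by
    rw [hsum', hdeg, Nat.cast_mul, Nat.cast_pow, Nat.card_eq_fintype_card, ← Finset.card_univ,
      mul_comm, ← nsmul_eq_mul, ← Finset.sum_const, Finset.sum_congr rfl fun z _ => (hZv z).symm,
      ← Finset.sum_subtype (Finset.univ.filter fun g => g ∈ Z) (by simp) (fun g => ‖ψ g‖ ^ 2)]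
    exact Finset.sum_le_sum_of_subset_of_nonneg (Finset.subset_univ _) fun g _ _ => sq_nonneg _
  exact_mod_cast h3

/-- In a faithful homogeneous representation, `O_p` has class at most two. -/
theorem commutator_mem_center {d : ℕ} (ρ : Representation ℂ G (Fin d → ℂ))
    (hinj : Function.Injective ρ) (hρ : ρ.IsIrreducible) (hhom : Homogeneous ρ.character)
    (p : ℕ) [Fact p.Prime] (P : Subgroup G) [P.Normal] (hPp : IsPGroup p P) :
    ∀ x ∈ P, ∀ y ∈ P, ⁅x, y⁆ ∈ Subgroup.center G := by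
  classical
  have hZP : ∀ z ∈ P, (∀ y ∈ P, z * y = y * z) → z ∈ Subgroup.center G := by
    intro z hz hcomm
    let A : Subgroup G := P ⊓ Subgroup.centralizer (P : Set G)
    have : A.Normal := inferInstance
    refine le_center_of_abelian ρ hinj hρ hhom A (fun a ha b hb => ?_) ⟨hz, ?_⟩
    · exact (Subgroup.mem_centralizer_iff.1 ha.2 b hb.1).symm
    · exact Subgroup.mem_centralizer_iff.2 fun y hy => (hcomm y hy).symm
  let Z₀ : Subgroup P := Subgroup.center P
  have hZ₀ : ∀ z : P, z ∈ Z₀ → (z : G) ∈ Subgroup.center G := fun z hz =>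
    hZP z z.2 fun y hy => (congrArg Subtype.val (Subgroup.mem_center_iff.1 hz ⟨y, hy⟩)).symm
  suffices hD : commutator P ≤ Z₀ by
    intro x hx y hy
    exact hZ₀ ⁅(⟨x, hx⟩ : P), ⟨y, hy⟩⁆ (hD (Subgroup.commutator_mem_commutator
      (Subgroup.mem_top _) (Subgroup.mem_top _)))
  let A₀ : Subgroup P := Subgroup.upperCentralSeriesStep Z₀ ⊓ commutator P
  have hA₀ : ∀ a ∈ A₀, ∀ c ∈ A₀, a * c = c * a := by
    rintro a ⟨ha, -⟩ c ⟨-, hc⟩
    have hz : ∀ t, ⁅a, t⁆ ∈ Subgroup.center P := (Subgroup.mem_upperCentralSeriesStep Z₀ a).1 ha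
    let g : P →* Subgroup.center P :=
      { toFun := fun t => ⟨⁅a, t⁆, hz t⟩
        map_one' := Subtype.ext (commutatorElement_one_right a)
        map_mul' := fun s t => Subtype.ext (by
          change ⁅a, s * t⁆ = ⁅a, s⁆ * ⁅a, t⁆
          have e : ⁅a, s * t⁆ = ⁅a, s⁆ * (s * ⁅a, t⁆ * s⁻¹) := by
            simp only [commutatorElement_def]
            group
          rw [e, Subgroup.mem_center_iff.1 (hz t) s, mul_inv_cancel_right]) }
    have hle : commutator P ≤ g.ker := by
      rw [commutator_def, Subgroup.commutator_le]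
      intro u _ v _
      rw [MonoidHom.mem_ker, map_commutatorElement, commutatorElement_eq_one_iff_mul_comm]
      exact Subtype.ext (Subgroup.mem_center_iff.1 (g v).2 (g u))
    exact commutatorElement_eq_one_iff_mul_comm.1
      (congrArg Subtype.val (MonoidHom.mem_ker.1 (hle hc)))
  have : A₀.Characteristic := inferInstance
  have : (A₀.map P.subtype).Normal := ConjAct.normal_of_characteristic_of_normal
  have hA₀Z : A₀ ≤ Z₀ := fun a ha => Subgroup.mem_center_iff.2 fun y => Subtype.ext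
    (Subgroup.mem_center_iff.1 (le_center_of_abelian ρ hinj hρ hhom (A₀.map P.subtype) (by
      rintro _ ⟨a, ha, rfl⟩ _ ⟨c, hc, rfl⟩
      exact congrArg Subtype.val (hA₀ a ha c hc)) ⟨a, ha, rfl⟩) y)
  have hNil : Group.IsNilpotent (P ⧸ Z₀) := (hPp.to_quotient Z₀).isNilpotent
  have : ((commutator P).map (QuotientGroup.mk' Z₀)).Normal :=
    (inferInstance : (commutator P).Normal).map _ (QuotientGroup.mk'_surjective _)
  by_contra hne
  refine CfsgLib.Transfer.inf_center_ne_bot (N := (commutator P).map (QuotientGroup.mk' Z₀))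
    (fun h => hne fun x hx => (QuotientGroup.eq_one_iff x).1
      ((Subgroup.eq_bot_iff_forall _).1 h _ ⟨x, hx, rfl⟩)) (eq_bot_iff.2 ?_)
  rintro _ ⟨⟨a, ha, rfl⟩, ha2⟩
  refine Subgroup.mem_bot.2 ((QuotientGroup.eq_one_iff a).2 (hA₀Z ⟨?_, ha⟩))
  rw [Subgroup.upperCentralSeriesStep_eq_comap_center]
  exact ha2

set_option maxHeartbeats 1000000 in
/-- The bound at one prime: some `q`-element of `G ⧸ F` makes the class size large enough at `p`. -/
theorem exists_prime_bound {d : ℕ} (ρ : Representation ℂ G (Fin d → ℂ))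
    (hinj : Function.Injective ρ) (hρ : ρ.IsIrreducible) (hhom : Homogeneous ρ.character)
    (F : Subgroup G) [F.Normal] (hFdef : F = Cfsg.fittingSubgroup G) [Group.IsNilpotent (G ⧸ F)]
    (p q : ℕ) [Fact p.Prime] [Fact q.Prime] (hpq : p ≠ q)
    (hdiv : ∀ r : ℕ, r.Prime → r ∣ Nat.card G → r = p ∨ r = q) :
    ∃ a : G ⧸ F, (∃ k, a ^ q ^ k = 1) ∧ ∀ g : G, a ∈ Subgroup.zpowers (g : G ⧸ F) →
      d.factorization p ≤ (Subgroup.centralizer ({g} : Set G)).index.factorization p := by
  classical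
  let : Fintype G := Fintype.ofFinite G
  have hp : p.Prime := Fact.out
  have hq : q.Prime := Fact.out
  set P := Cfsg.pCore p G with hPdef
  have hPn : P.Normal := Solvable.pCore_normal p G
  have hPp : IsPGroup p P := Solvable.pCore_isPGroup p G
  have hclass := commutator_mem_center ρ hinj hρ hhom p P hPp
  -- moving elements
  set K₀ : Subgroup G := P ⊓ Subgroup.center G
  have hK₀ : K₀.Normal := inferInstance
  have hmove : ∀ x ∈ P, (∀ g : G, ⁅g, x⁆ ∈ K₀) → x ∈ Subgroup.center G := by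
    intro x hx hfix
    let A : Subgroup G := Subgroup.zpowers x ⊔ K₀
    have hA : A.Normal := ⟨fun a ha g => by
      have hle : A ≤ A.comap (MulAut.conj g).toMonoidHom := by
        refine sup_le ?_ ?_
        · rw [Subgroup.zpowers_le, Subgroup.mem_comap]
          change g * x * g⁻¹ ∈ A
          rw [show g * x * g⁻¹ = ⁅g, x⁆ * x by simp [commutatorElement_def]]
          exact A.mul_mem (Subgroup.mem_sup_right (hfix g))
            (Subgroup.mem_sup_left (Subgroup.mem_zpowers x))
        · exact fun z hz => Subgroup.mem_sup_right (hK₀.conj_mem z hz g)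
      exact hle ha⟩
    refine le_center_of_abelian ρ hinj hρ hhom A (fun a ha b hb => ?_)
      (Subgroup.mem_sup_left (Subgroup.mem_zpowers x))
    have h1 : A ≤ Subgroup.centralizer ((Subgroup.zpowers x : Subgroup G) : Set G) := sup_le
      (fun u hu => Subgroup.mem_centralizer_iff.2 fun w hw => by
        obtain ⟨i, rfl⟩ := Subgroup.mem_zpowers_iff.1 hu
        obtain ⟨j, rfl⟩ := Subgroup.mem_zpowers_iff.1 hw
        exact ((Commute.refl x).zpow_zpow j i).eq)
      (fun u hu => Subgroup.mem_centralizer_iff.2 fun w _ => Subgroup.mem_center_iff.1 hu.2 w)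
    have h2 : A ≤ Subgroup.centralizer (A : Set G) := by
      rw [Subgroup.le_centralizer_iff]
      exact sup_le (Subgroup.le_centralizer_iff.1 h1)
        (fun u hu => Subgroup.mem_centralizer_iff.2 fun w _ => Subgroup.mem_center_iff.1 hu.2 w)
    exact (Subgroup.mem_centralizer_iff.1 (h2 ha) b hb).symm
  -- the module `V = P / (P ∩ Z(G))`
  let K : Subgroup P := K₀.subgroupOf P
  have : K.Normal := Subgroup.normal_subgroupOf
  let : CommGroup (P ⧸ K) := { QuotientGroup.Quotient.group K with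
    mul_comm := fun a b => by
      induction a using QuotientGroup.induction_on with | H x =>
      induction b using QuotientGroup.induction_on with | H y =>
      rw [← commutatorElement_eq_one_iff_mul_comm]
      change ((⁅x, y⁆ : P) : P ⧸ K) = 1
      rw [QuotientGroup.eq_one_iff]
      exact ⟨(⁅x, y⁆ : P).2, hclass x x.2 y y.2⟩ }
  have hKmap : ∀ g : G, K.map ((MulAut.conjNormal (H := P) g : MulAut P) : P →* P) = K := by
    intro g
    refine le_antisymm ?_ ?_
    · rintro _ ⟨z, hz, rfl⟩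
      change ((MulAut.conjNormal (H := P) g z : P) : G) ∈ K₀
      rw [MulAut.conjNormal_apply]
      exact hK₀.conj_mem _ hz g
    · intro z hz
      refine ⟨MulAut.conjNormal (H := P) g⁻¹ z, ?_, by simp⟩
      change ((MulAut.conjNormal (H := P) g⁻¹ z : P) : G) ∈ K₀
      rw [MulAut.conjNormal_apply]
      exact hK₀.conj_mem _ hz g⁻¹
  let ψ₀ : G →* MulAut (P ⧸ K) :=
    { toFun := fun g => QuotientGroup.congr K K (MulAut.conjNormal (H := P) g) (hKmap g)
      map_one' := MulEquiv.ext fun x => by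
        induction x using QuotientGroup.induction_on with | H z => simp
      map_mul' := fun a b => MulEquiv.ext fun x => by
        induction x using QuotientGroup.induction_on with | H z => simp }
  have hψ₀ : ∀ g (z : P), ψ₀ g (z : P ⧸ K) = ((MulAut.conjNormal (H := P) g z : P) : P ⧸ K) :=
    fun g z => rfl
  have hfixiff : ∀ g (z : P), ψ₀ g (z : P ⧸ K) = (z : P ⧸ K) ↔ ⁅g, (z : G)⁆ ∈ K₀ := by
    intro g z
    rw [hψ₀, eq_comm, QuotientGroup.eq, Subgroup.mem_subgroupOf]
    simp only [Subgroup.coe_mul, Subgroup.coe_inv, MulAut.conjNormal_apply]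
    rw [show (z : G)⁻¹ * (g * z * g⁻¹) = (z : G)⁻¹ * ⁅g, (z : G)⁆ * z by
      simp [commutatorElement_def, mul_assoc]]
    exact ⟨fun h => by simpa [mul_assoc] using hK₀.conj_mem _ h (z : G),
      fun h => by simpa using hK₀.conj_mem _ h (z : G)⁻¹⟩
  have hFker : F ≤ ψ₀.ker := by
    rw [hFdef, Solvable.fittingSubgroup_eq_iSup_pCore]
    refine iSup_le fun r => ?_
    intro f hf
    rw [MonoidHom.mem_ker]
    refine MulEquiv.ext fun x => ?_
    induction x using QuotientGroup.induction_on with | H z =>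
    change ψ₀ f (z : P ⧸ K) = (z : P ⧸ K)
    rw [hfixiff]
    have hr : (r : ℕ).Prime := (Nat.mem_primeFactors.1 r.2).1
    have : Fact (r : ℕ).Prime := ⟨hr⟩
    by_cases hrp : (r : ℕ) = p
    · rw [hrp] at hf
      exact ⟨P.mul_mem (P.mul_mem (P.mul_mem hf z.2) (P.inv_mem hf)) (P.inv_mem z.2),
        hclass f hf z z.2⟩
    · rw [commutatorElement_eq_one_iff_commute.2 (Subgroup.commute_of_normal_of_disjoint _ _
        (Solvable.pCore_normal _ G) hPn (IsPGroup.disjoint_of_ne _ _ hrp _ _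
          (Solvable.pCore_isPGroup _ G) hPp) f z hf z.2)]
      exact one_mem _
  let φ : G ⧸ F →* MulAut (P ⧸ K) := QuotientGroup.lift F ψ₀ hFker
  have hφ : ∀ g : G, φ (g : G ⧸ F) = ψ₀ g := fun g => rfl
  have hfix : ∀ v : P ⧸ K, (∀ t, φ t v = v) → v = 1 := by
    intro v hv
    induction v using QuotientGroup.induction_on with | H z =>
    rw [QuotientGroup.eq_one_iff]
    refine ⟨z.2, hmove z z.2 fun g => ?_⟩
    rw [← hfixiff]
    exact hv g
  -- the Sylow `q`-subgroup of the quotient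
  have hnc := Group.normalizerCondition_of_isNilpotent (G := G ⧸ F)
  obtain ⟨A⟩ : Nonempty (Sylow q (G ⧸ F)) := inferInstance
  obtain ⟨B⟩ : Nonempty (Sylow p (G ⧸ F)) := inferInstance
  have hAn : (A : Subgroup (G ⧸ F)).Normal := Sylow.normal_of_normalizerCondition hnc A
  have hVp : IsPGroup p (P ⧸ K) := hPp.to_quotient K
  have hgen : ∀ H : Subgroup (G ⧸ F), (A : Subgroup (G ⧸ F)) ≤ H → (B : Subgroup (G ⧸ F)) ≤ H → H = ⊤ := by
    intro H hA' hB'
    rw [← Subgroup.index_eq_one]
    by_contra h1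
    obtain ⟨r, hr, hrdvd⟩ := Nat.exists_prime_and_dvd h1
    have hrG : r ∣ Nat.card G :=
      hrdvd.trans (H.index_dvd_card.trans (Subgroup.card_quotient_dvd_card F))
    rcases hdiv r hr hrG with rfl | rfl
    · exact B.not_dvd_index (hrdvd.trans (Subgroup.index_dvd_of_le hB'))
    · exact A.not_dvd_index (hrdvd.trans (Subgroup.index_dvd_of_le hA'))
  have hfixA : ∀ v : P ⧸ K, (∀ a : (A : Subgroup (G ⧸ F)), φ a v = v) → v = 1 := by
    intro v hv
    by_contra hne
    let W : Subgroup (P ⧸ K) :=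
      { carrier := {w | ∀ a : (A : Subgroup (G ⧸ F)), φ a w = w}
        one_mem' := fun a => map_one _
        mul_mem' := fun h1 h2 a => by rw [map_mul, h1 a, h2 a]
        inv_mem' := fun h1 a => by rw [map_inv, h1 a] }
    have hWB : ∀ b : G ⧸ F, ∀ w ∈ W, φ b w ∈ W := fun b w hw a => by
      have h := hw ⟨b⁻¹ * a * b, by simpa using hAn.conj_mem _ a.2 b⁻¹⟩
      change φ (a : G ⧸ F) (φ b w) = φ b w
      conv_rhs => rw [← h]
      rw [← MulAut.mul_apply, ← MulAut.mul_apply, ← map_mul, ← map_mul]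
      congr 2
      group
    let : MulAction (B : Subgroup (G ⧸ F)) W :=
      { smul := fun b w => ⟨φ b w, hWB b w w.2⟩
        one_smul := fun w => Subtype.ext (by
          change φ ((1 : (B : Subgroup (G ⧸ F))) : G ⧸ F) (w : P ⧸ K) = w
          rw [Subgroup.coe_one, map_one]; rfl)
        mul_smul := fun b c w => Subtype.ext (by
          change φ ((b * c : (B : Subgroup (G ⧸ F))) : G ⧸ F) (w : P ⧸ K) = φ b (φ c (w : P ⧸ K))
          rw [Subgroup.coe_mul, map_mul]; rfl) }
    have : Nontrivial W := ⟨⟨⟨v, hv⟩, 1, fun h => hne (congrArg Subtype.val h)⟩⟩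
    have hpW : p ∣ Nat.card W := by
      obtain ⟨k, hk⟩ := IsPGroup.iff_card.mp (hVp.to_subgroup W)
      rw [hk]
      exact dvd_pow_self p fun h0 => by
        rw [h0, pow_zero] at hk
        exact (Finite.one_lt_card_iff_nontrivial.2 inferInstance).ne' hk
    obtain ⟨w, hw, hw1⟩ := B.isPGroup'.exists_fixed_point_of_prime_dvd_card_of_fixed_point W hpW
      (a := (1 : W)) (fun b => Subtype.ext (map_one _))
    refine hw1 (Subtype.ext (hfix w fun t => ?_).symm)
    let S : Subgroup (G ⧸ F) :=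
      { carrier := {t | φ t (w : P ⧸ K) = w}
        one_mem' := by simp
        mul_mem' := fun {a b} ha hb => by
          simp only [Set.mem_ofPred_eq] at *
          rw [map_mul, MulAut.mul_apply, hb, ha]
        inv_mem' := fun {a} ha => by
          simp only [Set.mem_ofPred_eq] at *
          conv_lhs => rw [← ha]
          rw [← MulAut.mul_apply, ← map_mul, inv_mul_cancel, map_one]
          rfl }
    have : S = ⊤ := hgen S (fun a ha => w.2 ⟨a, ha⟩) fun b hb => congrArg Subtype.val (hw ⟨b, hb⟩)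
    exact (this ▸ Subgroup.mem_top t : t ∈ S)
  have hAnil : Group.IsNilpotent (A : Subgroup (G ⧸ F)) := A.isPGroup'.isNilpotent
  obtain ⟨kV, hkV⟩ := IsPGroup.iff_card.mp hVp
  have hcop : (Nat.card (P ⧸ K)).Coprime (Nat.card (A : Subgroup (G ⧸ F))) := by
    obtain ⟨k', hk'⟩ := IsPGroup.iff_card.mp A.isPGroup'
    rw [hkV, hk']
    exact Nat.coprime_pow_primes _ _ hp hq hpq
  obtain ⟨a, ha⟩ := exists_small_fix (φ.comp (A : Subgroup (G ⧸ F)).subtype) hcop hfixA
  refine ⟨a, ?_, fun g hg => ?_⟩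
  · obtain ⟨k, hk⟩ := A.isPGroup' a
    exact ⟨k, by simpa using congrArg Subtype.val hk⟩
  -- fixed points of `g`
  let S : Subgroup G := P ⊓ Subgroup.centralizer ({g} : Set G)
  have hSle : Nat.card S ≤ Nat.card K₀ * Nat.card {v : P ⧸ K // φ (a : G ⧸ F) v = v} := by
    let f : S →* P ⧸ K := (QuotientGroup.mk' K).comp (Subgroup.inclusion inf_le_left)
    have hrange : ∀ s : S, φ (a : G ⧸ F) (f s) = f s := by
      intro s
      obtain ⟨i, hi⟩ := Subgroup.mem_zpowers_iff.1 hg
      have hfixg : ψ₀ g (f s) = f s := by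
        change ψ₀ g ((⟨(s : G), s.2.1⟩ : P) : P ⧸ K) = _
        refine (hfixiff g ⟨(s : G), s.2.1⟩).2 ?_
        rw [commutatorElement_eq_one_iff_mul_comm.2 (Subgroup.mem_centralizer_singleton_iff.1 s.2.2).symm]
        exact one_mem _
      rw [← hi, map_zpow, hφ]
      exact MulAction.mem_stabilizer_iff.1
        ((MulAction.stabilizer (MulAut (P ⧸ K)) (f s)).zpow_mem
          (MulAction.mem_stabilizer_iff.2 hfixg) i)
    have h1 : Nat.card S = Nat.card f.ker * Nat.card f.range := by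
      rw [← Subgroup.index_ker, Subgroup.card_mul_index]
    rw [h1]
    refine Nat.mul_le_mul (Nat.card_le_card_of_injective (fun x => (⟨((x : S) : G), ?_⟩ : K₀))
      fun x y h => Subtype.ext (Subtype.ext (congrArg (fun z : K₀ => (z : G)) h))) ?_
    · exact Subgroup.mem_subgroupOf.1 ((QuotientGroup.eq_one_iff _).1 x.2 :
        Subgroup.inclusion inf_le_left (x : S) ∈ K)
    · exact Nat.card_le_card_of_injective (fun x : f.range => (⟨x, by
        obtain ⟨s, hs⟩ := x.2
        rw [← hs]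
        exact hrange s⟩ : {v : P ⧸ K // φ (a : G ⧸ F) v = v}))
        fun x y h => Subtype.ext (Subtype.mk.inj h)
  have hPS : S.relIndex P * Nat.card S = Nat.card P := by
    have h2 := Subgroup.relIndex_mul_relIndex ⊥ S P bot_le inf_le_left
    rw [Subgroup.relIndex_bot_left, Subgroup.relIndex_bot_left, mul_comm] at h2
    exact h2
  have hSP : S.relIndex P ∣ (Subgroup.centralizer ({g} : Set G)).index := by
    set C := Subgroup.centralizer ({g} : Set G)
    have e1 : P.relIndex (C ⊔ P) = P.relIndex C := Subgroup.relIndex_sup_right _ _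
    have e2 := Subgroup.relIndex_mul_relIndex ⊥ C (C ⊔ P) bot_le le_sup_left
    have e3 := Subgroup.relIndex_mul_relIndex ⊥ P (C ⊔ P) bot_le le_sup_right
    have e4 := Subgroup.relIndex_mul_relIndex ⊥ S C bot_le inf_le_right
    have e5 : S.relIndex C = P.relIndex C := Subgroup.inf_relIndex_right P C
    rw [Subgroup.relIndex_bot_left, Subgroup.relIndex_bot_left] at e2 e3 e4
    rw [e1, ← e2] at e3
    rw [e5] at e4
    have : C.relIndex (C ⊔ P) = S.relIndex P := by
      refine Nat.eq_of_mul_eq_mul_right (Nat.card_pos (α := C)) ?_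
      rw [mul_comm, ← e3, ← hPS, ← e4]
      ring
    rw [← this]
    exact Subgroup.relIndex_dvd_index_of_le le_sup_left
  obtain ⟨jS, hjS⟩ : ∃ j, S.relIndex P = p ^ j := by
    obtain ⟨k, hk⟩ := IsPGroup.iff_card.mp hPp
    obtain ⟨j, -, hj⟩ := (Nat.dvd_prime_pow hp).1 (hk ▸ hPS ▸ Dvd.intro _ rfl : S.relIndex P ∣ p ^ k)
    exact ⟨j, hj⟩
  have hPV : Nat.card P = Nat.card (P ⧸ K) * Nat.card K₀ := by
    rw [K.card_eq_card_quotient_mul_card_subgroup, Nat.card_congr
      (Subgroup.subgroupOfEquivOfLe (inf_le_left : K₀ ≤ P)).toEquiv]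
  have hbig : Nat.card (P ⧸ K) ≤ (p ^ jS) ^ 2 := by
    have hV0 : 0 < Nat.card (P ⧸ K) := Nat.card_pos
    have hK0 : 0 < Nat.card K₀ := Nat.card_pos
    set fx := Nat.card {v : P ⧸ K // φ (a : G ⧸ F) v = v}
    have hfx : fx ^ 2 ≤ Nat.card (P ⧸ K) := ha
    have h1 : Nat.card (P ⧸ K) * Nat.card K₀ ≤ p ^ jS * (Nat.card K₀ * fx) := by
      rw [← hPV, ← hPS, hjS]
      exact Nat.mul_le_mul_left _ hSle
    have h2 : Nat.card (P ⧸ K) ≤ p ^ jS * fx :=
      Nat.le_of_mul_le_mul_right (h1.trans_eq (by ring)) hK0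
    have h3 : Nat.card (P ⧸ K) ^ 2 ≤ (p ^ jS) ^ 2 * Nat.card (P ⧸ K) :=
      (Nat.pow_le_pow_left h2 2).trans (by rw [mul_pow]; exact Nat.mul_le_mul_left _ hfx)
    rw [sq (Nat.card (P ⧸ K))] at h3
    exact Nat.le_of_mul_le_mul_right h3 hV0
  -- the degree
  have hF := irr_res_of_nilpotent (Char.isIrrCharacter_character ρ) hhom F
  let P' : Subgroup F := P.subgroupOf F
  have : P'.Normal := Subgroup.normal_subgroupOf
  let : Fintype F := Fintype.ofFinite F
  let : Fintype P' := Fintype.ofFinite P'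
  obtain ⟨ψ, hψ, hψc⟩ := CfsgLib.Clifford.exists_constituent_res P' hF
  obtain ⟨e, he0, he⟩ := IsIrrCharacter.exists_degree hψ
  obtain ⟨hdvd1, hdvd2⟩ := Cfsg.Agent.S0887.result P' _ hF ψ hψ hψc d e
    (by simp [Representation.char_one]) he
  have hPF : P ≤ F := hFdef ▸ Solvable.pCore_le_fittingSubgroup
  have hP' : ¬ p ∣ P'.index := by
    have hFnil : Group.IsNilpotent F := hFdef ▸ Solvable.fittingSubgroup_isNilpotent G
    obtain ⟨S'⟩ : Nonempty (Sylow p F) := inferInstance
    have hS'n : (S' : Subgroup F).Normal :=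
      Sylow.normal_of_normalizerCondition Group.normalizerCondition_of_isNilpotent S'
    have : (S' : Subgroup F).Characteristic := Sylow.characteristic_of_normal S' hS'n
    have hle : (S' : Subgroup F).map F.subtype ≤ P :=
      Solvable.le_pCore ConjAct.normal_of_characteristic_of_normal (S'.isPGroup'.map _)
    exact fun h => S'.not_dvd_index (h.trans (Subgroup.index_dvd_of_le fun x hx =>
      Subgroup.mem_subgroupOf.2 (hle ⟨x, hx, rfl⟩)))
  have hd1 : d.factorization p = e.factorization p := by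
    obtain ⟨m, rfl⟩ := hdvd1
    have hm : ¬ p ∣ m := fun h => hP' (h.trans (by rwa [Nat.mul_div_cancel_left m he0] at hdvd2))
    have hm0 : m ≠ 0 := fun h => hm (h ▸ dvd_zero p)
    rw [Nat.factorization_mul he0.ne' hm0, Finsupp.add_apply, Nat.factorization_eq_zero_of_not_dvd hm,
      add_zero]
  have hesq : e ^ 2 ≤ Nat.card (P ⧸ K) := by
    let Z' : Subgroup P' := (K₀.subgroupOf F).subgroupOf P'
    have h1 := degree_sq_mul_le hψ Z' fun z hz => Subgroup.mem_center_iff.2 fun y =>
      Subtype.ext (Subtype.ext (Subgroup.mem_center_iff.1 (Subgroup.mem_subgroupOf.1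
        (Subgroup.mem_subgroupOf.1 hz)).2 ((y : F) : G)))
    have h2 : Nat.card P' = Nat.card P := Nat.card_congr (Subgroup.subgroupOfEquivOfLe hPF).toEquiv
    have h3 : Nat.card Z' = Nat.card K₀ := by
      rw [Nat.card_congr (Subgroup.subgroupOfEquivOfLe (fun x hx => Subgroup.mem_subgroupOf.2
          (Subgroup.mem_subgroupOf.1 hx).1 : K₀.subgroupOf F ≤ P')).toEquiv,
        Nat.card_congr (Subgroup.subgroupOfEquivOfLe (inf_le_left.trans hPF : K₀ ≤ F)).toEquiv]
    rw [h2, h3, hPV, show degree ψ = e by simp [degree, he]] at h1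
    exact Nat.le_of_mul_le_mul_right h1 Nat.card_pos
  rw [hd1]
  have hidx0 : (Subgroup.centralizer ({g} : Set G)).index ≠ 0 := Subgroup.index_ne_zero_of_finite
  have h4 : e.factorization p ≤ jS := by
    have h5 : p ^ e.factorization p ≤ e := Nat.ordProj_le p he0.ne'
    have h6 : (p ^ e.factorization p) ^ 2 ≤ (p ^ jS) ^ 2 :=
      (Nat.pow_le_pow_left h5 2).trans (hesq.trans hbig)
    exact (Nat.pow_le_pow_iff_right hp.one_lt).1 ((Nat.pow_le_pow_iff_left two_ne_zero).1 h6)
  exact h4.trans ((hp.pow_dvd_iff_le_factorization hidx0).1 (hjS ▸ hSP))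

/-- The faithful case. -/
theorem exists_class_dvd {d : ℕ} (ρ : Representation ℂ G (Fin d → ℂ))
    (hinj : Function.Injective ρ) (hρ : ρ.IsIrreducible) (hhom : Homogeneous ρ.character)
    (hmeta : ∀ [(Cfsg.fittingSubgroup G).Normal], Group.IsNilpotent (G ⧸ Cfsg.fittingSubgroup G))
    (p q : ℕ) [Fact p.Prime] [Fact q.Prime] (hpq : p ≠ q)
    (hdiv : ∀ r : ℕ, r.Prime → r ∣ Nat.card G → r = p ∨ r = q) :
    ∃ g : G, d ∣ (Subgroup.centralizer ({g} : Set G)).index := by
  have hFn : (Cfsg.fittingSubgroup G).Normal := Solvable.fittingSubgroup_normal G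
  have := @hmeta hFn
  obtain ⟨a, ⟨i, hi⟩, ha⟩ :=
    exists_prime_bound ρ hinj hρ hhom _ rfl p q hpq hdiv
  obtain ⟨b, ⟨j, hj⟩, hb⟩ :=
    exists_prime_bound ρ hinj hρ hhom _ rfl q p hpq.symm fun r hr h => (hdiv r hr h).symm
  have hnc := Group.normalizerCondition_of_isNilpotent (G := G ⧸ Cfsg.fittingSubgroup G)
  have hcomm : Commute a b := by
    obtain ⟨A, hA⟩ := (show IsPGroup q (Subgroup.zpowers a) from fun x => ⟨i, by
      obtain ⟨k, hk⟩ := Subgroup.mem_zpowers_iff.1 x.2
      apply Subtype.ext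
      rw [SubmonoidClass.coe_pow, ← hk, ← zpow_natCast, ← zpow_mul, mul_comm, zpow_mul, zpow_natCast,
        hi, one_zpow]
      rfl⟩).exists_le_sylow
    obtain ⟨B, hB⟩ := (show IsPGroup p (Subgroup.zpowers b) from fun x => ⟨j, by
      obtain ⟨k, hk⟩ := Subgroup.mem_zpowers_iff.1 x.2
      apply Subtype.ext
      rw [SubmonoidClass.coe_pow, ← hk, ← zpow_natCast, ← zpow_mul, mul_comm, zpow_mul, zpow_natCast,
        hj, one_zpow]
      rfl⟩).exists_le_sylow
    exact Subgroup.commute_of_normal_of_disjoint _ _ (Sylow.normal_of_normalizerCondition hnc A)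
      (Sylow.normal_of_normalizerCondition hnc B)
      (IsPGroup.disjoint_of_ne _ _ hpq.symm _ _ A.isPGroup' B.isPGroup') a b
      (hA (Subgroup.mem_zpowers a)) (hB (Subgroup.mem_zpowers b))
  obtain ⟨g, hg⟩ := QuotientGroup.mk_surjective (a * b)
  have hgen : ∀ {x y : G ⧸ Cfsg.fittingSubgroup G} {m : ℕ}, Commute x y → y ^ m = 1 →
      (orderOf x).Coprime m → x ∈ Subgroup.zpowers (x * y) := by
    intro x y m hxy hy hco
    obtain ⟨t, ht⟩ := exists_pow_eq_self_of_coprime (x := x) (n := m) (Nat.Coprime.symm hco)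
    have h : x = ((x * y) ^ m) ^ t := by rw [hxy.mul_pow, hy, mul_one, ht]
    have hm := Subgroup.pow_mem _ (Subgroup.pow_mem _ (Subgroup.mem_zpowers (x * y)) m) t
    rwa [← h] at hm
  have hp : p.Prime := Fact.out
  have hq : q.Prime := Fact.out
  have hga : a ∈ Subgroup.zpowers (g : G ⧸ Cfsg.fittingSubgroup G) := by
    rw [hg]
    exact hgen hcomm hj (Nat.Coprime.coprime_dvd_left (orderOf_dvd_of_pow_eq_one hi)
      (Nat.coprime_pow_primes _ _ hq hp hpq.symm))
  have hgb : b ∈ Subgroup.zpowers (g : G ⧸ Cfsg.fittingSubgroup G) := by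
    rw [hg, hcomm.eq]
    exact hgen hcomm.symm hi (Nat.Coprime.coprime_dvd_left (orderOf_dvd_of_pow_eq_one hj)
      (Nat.coprime_pow_primes _ _ hp hq hpq))
  refine ⟨g, ?_⟩
  have hd0 : d ≠ 0 := by
    have h := CfsgLib.Char.finrank_pos_of_isIrreducible ρ
    simp at h
    omega
  rw [← Nat.factorization_le_iff_dvd hd0 Subgroup.index_ne_zero_of_finite]
  intro r
  by_cases hr : r ∈ d.primeFactors
  · obtain ⟨hrp, hrd, -⟩ := Nat.mem_primeFactors.1 hr
    have hdd : d ∣ Nat.card G := by simpa using CfsgLib.Char.finrank_dvd_card ρ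
    rcases hdiv r hrp (hrd.trans hdd) with rfl | rfl
    · exact ha g hga
    · exact hb g hgb
  · rw [← Nat.support_factorization, Finsupp.notMem_support_iff] at hr
    rw [hr]
    exact Nat.zero_le _

/-- The statement for an arbitrary homogeneous character. -/
theorem exists_class_dvd_of_homogeneous [Fintype G] {χ : G → ℂ} (hχ : IsIrrCharacter G χ)
    (hhom : Homogeneous χ) [hF : (Cfsg.fittingSubgroup G).Normal]
    (hmeta : Group.IsNilpotent (G ⧸ Cfsg.fittingSubgroup G))
    (p q : ℕ) [Fact p.Prime] [Fact q.Prime] (hpq : p ≠ q)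
    (hdiv : ∀ r : ℕ, r.Prime → r ∣ Nat.card G → r = p ∨ r = q) :
    ∃ g : G, Cfsg.charDegree χ ∣ (Subgroup.centralizer ({g} : Set G)).index := by
  classical
  obtain ⟨d, ρ, hρ, rfl⟩ := hχ
  have hd : Cfsg.charDegree ρ.character = d := by simp [Cfsg.charDegree]
  let R : G →* (Module.End ℂ (Fin d → ℂ))ˣ := MonoidHom.toHomUnits ρ
  let π := R.rangeRestrict
  have hπ : Function.Surjective π := R.rangeRestrict_surjective
  let σ : Representation ℂ R.range (Fin d → ℂ) :=
    (Units.coeHom (Module.End ℂ (Fin d → ℂ))).comp R.range.subtype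
  have hσπ : ∀ g, σ (π g) = ρ g := fun g => rfl
  have hσirr : σ.IsIrreducible := by
    have := CharKernel.nontrivial_of_irreducible ρ
    exact CharKernel.isIrreducible_of_forall _ fun W hW =>
      CharKernel.eq_bot_or_eq_top ρ W fun g v hv => hσπ g ▸ hW (π g) v hv
  let : Fintype R.range := Fintype.ofFinite _
  have hσhom : Homogeneous σ.character := by
    intro N' hN'
    let N := N'.comap π
    let : Fintype N := Fintype.ofFinite N
    obtain ⟨θ, e, hθ, he⟩ := hhom N (hN'.comap π)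
    have he0 : (e : ℂ) ≠ 0 := fun h0 => by
      have h := congrFun he 1
      rw [h0, zero_smul, Pi.zero_apply] at h
      exact IsIrrCharacter.apply_one_ne_zero (Char.isIrrCharacter_character ρ) h
    let f : N →* N' := (π.comp N.subtype).codRestrict N' fun x => x.2
    have hf : Function.Surjective f := fun y => by
      obtain ⟨g, hg⟩ := hπ (y : R.range)
      exact ⟨⟨g, by rw [Subgroup.mem_comap, hg]; exact y.2⟩, Subtype.ext hg⟩
    have hθf : ∀ x y : N, f x = f y → θ x = θ y := fun x y h => by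
      refine mul_left_cancel₀ he0 ?_
      have h1 := congrFun he x
      have h2 := congrFun he y
      simp only [Pi.smul_apply, smul_eq_mul] at h1 h2
      rw [← h1, ← h2]
      change LinearMap.trace ℂ _ (ρ (x : G)) = LinearMap.trace ℂ _ (ρ (y : G))
      rw [← hσπ, ← hσπ, show π (x : G) = π (y : G) from congrArg Subtype.val h]
    obtain ⟨η, hη, hηθ⟩ := CharTwist.exists_irr_quotient hθ f.ker fun n hn =>
      hθf n 1 ((MonoidHom.mem_ker.1 hn).trans f.map_one.symm)
    let ε := QuotientGroup.quotientKerEquivOfSurjective f hf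
    refine ⟨η ∘ ε.symm, e, CharTwist.isIrrCharacter_comp_equiv hη _, funext fun y => ?_⟩
    obtain ⟨x, rfl⟩ := hf y
    have h1 := congrFun he x
    rw [hηθ] at h1
    simp only [Pi.smul_apply, smul_eq_mul, Function.comp_apply] at h1 ⊢
    rw [show ε.symm (f x) = (x : N ⧸ f.ker) from ε.symm_apply_eq.2 rfl]
    exact h1
  have hmeta' : ∀ [(Cfsg.fittingSubgroup R.range).Normal],
      Group.IsNilpotent (R.range ⧸ Cfsg.fittingSubgroup R.range) := by
    intro _
    have hle : Cfsg.fittingSubgroup G ≤ (Cfsg.fittingSubgroup R.range).comap π :=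
      Subgroup.map_le_iff_le_comap.1 (Solvable.map_fittingSubgroup_le_of_surjective hπ)
    exact Group.nilpotent_of_surjective (QuotientGroup.map _ _ π hle) fun y => by
      obtain ⟨y, rfl⟩ := QuotientGroup.mk_surjective y
      obtain ⟨g, rfl⟩ := hπ y
      exact ⟨(g : G ⧸ Cfsg.fittingSubgroup G), rfl⟩
  obtain ⟨g', hg'⟩ := exists_class_dvd σ
    (fun x y h => Subtype.ext (Units.ext h)) hσirr hσhom hmeta' p q hpq
    (fun r hr h => hdiv r hr (h.trans (Subgroup.card_dvd_of_surjective π hπ)))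
  obtain ⟨g, rfl⟩ := hπ g'
  refine ⟨g, hd.symm ▸ hg'.trans ?_⟩
  refine (Subgroup.index_dvd_of_le ?_).trans (Subgroup.index_map_dvd _ hπ)
  rintro _ ⟨x, hx, rfl⟩
  rw [Subgroup.mem_centralizer_singleton_iff, ← map_mul, ← map_mul,
    Subgroup.mem_centralizer_singleton_iff.1 hx]

end CfsgLib.KGV
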