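import Cfsg.Agent.Lib.KGV.RamifiedTrace
import Cfsg.Agent.Lib.KGV.CommutatorPairing
import Cfsg.Agent.Lib.KGV.PrimitiveDegree
import Cfsg.Agent.Lib.CharTools.Basic
import Cfsg.Agent.Lib.Char.Virtual

/-!
# The cover attached to an invariant irreducible character of a normal subgroup

For a homogeneous character over such a character the cover splits it as a product; the second
factor lives on the cover modulo the copy of the normal subgroup and is homogeneous again.
-/

set_option autoImplicit false

namespace CfsgLib.KGV.Ramified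

open Cfsg CfsgLib.Char CfsgLib.CharDeep
open scoped ComplexConjugate commutatorElement

universe u v

/-- Centralizer indices go down in quotients. -/
theorem index_centralizer_dvd {X : Type u} {Y : Type v} [Group X] [Group Y] (f : X →* Y)
    (hf : Function.Surjective f) (x : X) :
    (Subgroup.centralizer ({f x} : Set Y)).index ∣ (Subgroup.centralizer ({x} : Set X)).index := by
  rw [← Subgroup.index_comap_of_surjective (Subgroup.centralizer ({f x} : Set Y)) hf]
  refine Subgroup.index_dvd_of_le fun y hy => ?_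
  rw [Subgroup.mem_comap, Subgroup.mem_centralizer_singleton_iff, ← map_mul,
    Subgroup.mem_centralizer_singleton_iff.1 hy, map_mul]

variable {G : Type u} [Group G] [Finite G] (N : Subgroup G) [hN : N.Normal] {t : ℕ}
  (τ : Representation ℂ N (Fin t → ℂ)) [τ.IsIrreducible]

omit [τ.IsIrreducible] in
/-- The character of the cover. -/
theorem cover_char_apply (x : Cover.grp N τ) :
    (Cover.rep N τ).character x = LinearMap.trace ℂ _ (Cover.rep N τ x) := rfl

/-- Points over the identity are central. -/
theorem mem_center_of_proj_eq_one {x : Cover.grp N τ} (hx : Cover.proj N τ x = 1) :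
    x ∈ Subgroup.center (Cover.grp N τ) := by
  obtain ⟨c, hc, -⟩ := Cover.exists_scalar_ker N τ hx
  refine Subgroup.mem_center_iff.2 fun y => Cover.ext_grp N τ ?_ ?_
  · rw [map_mul, map_mul, hx, mul_one, one_mul]
  · rw [map_mul, map_mul, hc, mul_smul_comm, smul_mul_assoc, mul_one, one_mul]

/-- On every coset of the normal subgroup the squared norms of the character add up to the order. -/
theorem sum_norm_char [Fintype N] (y : Cover.grp N τ) :
    ∑ n : N, (Cover.rep N τ).character (y * Cover.incl N τ n) *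
      conj ((Cover.rep N τ).character (y * Cover.incl N τ n)) = (Nat.card N : ℂ) := by
  have := Cover.finite_grp N τ
  have ht : (t : ℂ) ≠ 0 := Nat.cast_ne_zero.2 (Cover.pos_dim N τ).ne'
  have h := sum_trace_mul τ (Cover.rep N τ y) (Cover.rep N τ y⁻¹)
  rw [← map_mul, inv_mul_cancel, map_one, LinearMap.trace_one, Module.finrank_fin_fun,
    mul_comm (Nat.card N : ℂ)] at h
  refine mul_left_cancel₀ ht (Eq.trans ?_ h)
  congr 1
  refine Finset.sum_congr rfl fun n _ => ?_
  rw [← IsCharacter.apply_inv (isCharacter_character (Cover.rep N τ))]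
  simp only [Representation.character, mul_inv_rev, map_mul, ← map_inv (Cover.incl N τ),
    Cover.rep_incl]
  rw [LinearMap.trace_mul_comm ℂ (Cover.rep N τ y) (τ n),
    LinearMap.trace_mul_comm ℂ (τ n⁻¹) (Cover.rep N τ y⁻¹)]

/-- In every coset the character is somewhere nonzero. -/
theorem exists_char_ne_zero (y : Cover.grp N τ) :
    ∃ n : N, (Cover.rep N τ).character (y * Cover.incl N τ n) ≠ 0 := by
  let : Fintype N := Fintype.ofFinite N
  by_contra h
  push Not at h
  have h1 := sum_norm_char N τ y
  simp only [h, zero_mul, Finset.sum_const_zero] at h1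
  exact Nat.card_pos.ne' (Nat.cast_eq_zero.1 h1.symm)

/-- Multiplying by the character of the cover is an isometry on functions constant on cosets. -/
theorem isometry {Δ : Type v} [Group Δ] [Fintype Δ] (f : Δ →* Cover.grp N τ) (j : N →* Δ)
    (hj : ∀ n, f (j n) = Cover.incl N τ n) (a b : Δ → ℂ) (ha : ∀ x n, a (x * j n) = a x)
    (hb : ∀ x n, b (x * j n) = b x) :
    Cfsg.classInner (fun x => (Cover.rep N τ).character (f x) * a x)
      (fun x => (Cover.rep N τ).character (f x) * b x) = Cfsg.classInner a b := by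
  let : Fintype N := Fintype.ofFinite N
  have hN0 : (Nat.card N : ℂ) ≠ 0 := Nat.cast_ne_zero.2 Nat.card_pos.ne'
  simp only [Cfsg.classInner, map_mul]
  congr 1
  refine mul_left_cancel₀ hN0 ?_
  set T := (Cover.rep N τ).character
  calc (Nat.card N : ℂ) * ∑ x, T (f x) * a x * (conj (T (f x)) * conj (b x))
      = ∑ _n : N, ∑ x, T (f x) * a x * (conj (T (f x)) * conj (b x)) := by
        rw [Finset.sum_const, Finset.card_univ, nsmul_eq_mul, Nat.card_eq_fintype_card]
    _ = ∑ n : N, ∑ x, T (f x * Cover.incl N τ n) * conj (T (f x * Cover.incl N τ n)) *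
          (a x * conj (b x)) := by
        refine Finset.sum_congr rfl fun n _ => ?_
        refine (Fintype.sum_equiv (Equiv.mulRight (j n)) _ _ fun x => ?_).symm
        rw [Equiv.coe_mulRight, map_mul, hj, ha, hb]
        ring
    _ = ∑ x, (∑ n : N, T (f x * Cover.incl N τ n) * conj (T (f x * Cover.incl N τ n))) *
          (a x * conj (b x)) := by
        rw [Finset.sum_comm]
        simp only [Finset.sum_mul]
    _ = _ := by
        rw [Finset.mul_sum]
        exact Finset.sum_congr rfl fun x _ => by rw [sum_norm_char]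

/-- Centralizer index in the cover against the one below. -/
theorem exists_index_cover
    (hinv : ∀ (g : G) (n : N), τ.character ⟨g * n * g⁻¹, hN.conj_mem n n.2 g⟩ = τ.character n)
    (x : Cover.grp N τ) :
    ∃ m : ℕ, (Subgroup.centralizer ({x} : Set (Cover.grp N τ))).index =
        (Subgroup.centralizer ({Cover.proj N τ x} : Set G)).index * m ∧
      ((Cover.rep N τ).character x ≠ 0 → m = 1) ∧
      ∀ p : ℕ, p.Prime → ¬ p ∣ t → ¬ p ∣ m := by
  have := Cover.finite_grp N τ
  have := Cover.nontrivial_space N τ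
  set C := Subgroup.centralizer ({x} : Set (Cover.grp N τ)) with hC
  set D := (Subgroup.centralizer ({Cover.proj N τ x} : Set G)).comap (Cover.proj N τ) with hD
  have hCD : C ≤ D := fun y hy => by
    rw [hD, Subgroup.mem_comap, Subgroup.mem_centralizer_singleton_iff, ← map_mul,
      Subgroup.mem_centralizer_singleton_iff.1 hy, map_mul]
  have hp1 : ∀ y ∈ D, Cover.proj N τ ⁅y, x⁆ = 1 := fun y hy => by
    rw [map_commutatorElement, commutatorElement_eq_one_iff_mul_comm]
    exact Subgroup.mem_centralizer_singleton_iff.1 hy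
  have hcen : ∀ y ∈ D, ⁅y, x⁆ ∈ Subgroup.center (Cover.grp N τ) := fun y hy =>
    mem_center_of_proj_eq_one N τ (hp1 y hy)
  let κ : D →* Cover.grp N τ := MonoidHom.mk' (fun y => ⁅(y : Cover.grp N τ), x⁆) fun a b => by
    rw [Subgroup.coe_mul, comm_mul_left (hcen b b.2)]
  have hκ : ∀ y : D, κ y = ⁅(y : Cover.grp N τ), x⁆ := fun y => rfl
  have hker : C.subgroupOf D = κ.ker := by
    ext y
    rw [Subgroup.mem_subgroupOf, MonoidHom.mem_ker, hκ, commutatorElement_eq_one_iff_mul_comm,
      Subgroup.mem_centralizer_singleton_iff]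
  refine ⟨Nat.card κ.range, ?_, fun htr => ?_, fun p hp hpt hdvd => ?_⟩
  · rw [← Subgroup.index_ker, ← hker, ← Subgroup.index_comap_of_surjective
      (Subgroup.centralizer ({Cover.proj N τ x} : Set G)) (Cover.proj_surjective N τ hinv),
      ← hD, mul_comm]
    exact (Subgroup.relIndex_mul_index hCD).symm
  · have hbot : κ.range = ⊥ := by
      rw [eq_bot_iff]
      rintro z ⟨y, rfl⟩
      rw [Subgroup.mem_bot, hκ]
      obtain ⟨c, hc, -⟩ := Cover.exists_scalar_ker N τ (hp1 y y.2)
      have h1 : LinearMap.trace ℂ _ (Cover.rep N τ ((y : Cover.grp N τ) * x * (y : Cover.grp N τ)⁻¹)) =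
          LinearMap.trace ℂ _ (Cover.rep N τ x) := by
        rw [map_mul, LinearMap.trace_mul_comm, ← map_mul, inv_mul_cancel_left]
      rw [show (y : Cover.grp N τ) * x * (y : Cover.grp N τ)⁻¹ = ⁅(y : Cover.grp N τ), x⁆ * x by
        simp only [commutatorElement_def]; group, map_mul, hc, smul_mul_assoc, one_mul, map_smul,
        smul_eq_mul] at h1
      rw [cover_char_apply] at htr
      have hc1 : c = 1 := mul_right_cancel₀ htr (h1.trans (one_mul _).symm)
      refine Cover.ext_grp N τ (by rw [hp1 y y.2, map_one]) ?_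
      rw [hc, hc1, one_smul, map_one]
    rw [hbot, Subgroup.card_bot]
  · have : Fact p.Prime := ⟨hp⟩
    obtain ⟨⟨z, y, rfl⟩, hz⟩ := exists_prime_orderOf_dvd_card' (G := κ.range) p hdvd
    have hzt : κ y ^ t = 1 := by
      obtain ⟨c, hc, -⟩ := Cover.exists_scalar_ker N τ (hp1 y y.2)
      have hdet : LinearMap.det (Cover.rep N τ ⁅(y : Cover.grp N τ), x⁆) = 1 := by
        have e : ∀ z : Cover.grp N τ, LinearMap.det (Cover.rep N τ z) *
            LinearMap.det (Cover.rep N τ z⁻¹) = 1 := fun z => by
          rw [← map_mul, ← map_mul, mul_inv_cancel, map_one, map_one]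
        rw [commutatorElement_def, map_mul, map_mul, map_mul, map_mul, map_mul, map_mul]
        linear_combination e (y : Cover.grp N τ) + LinearMap.det (Cover.rep N τ y) *
          LinearMap.det (Cover.rep N τ (y : Cover.grp N τ)⁻¹) * e x
      rw [hc, LinearMap.det_smul, map_one, mul_one, Module.finrank_fin_fun] at hdet
      refine Cover.ext_grp N τ ?_ ?_
      · rw [map_pow, hκ, hp1 y y.2, one_pow, map_one]
      · rw [map_pow, hκ, hc, smul_pow, one_pow, hdet, one_smul, map_one]
    have : orderOf (⟨κ y, y, rfl⟩ : κ.range) ∣ t := orderOf_dvd_of_pow_eq_one (Subtype.ext hzt)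
    exact hpt (hz ▸ this)

/-- Centralizer index in the cover through the copy of the normal subgroup. -/
theorem index_split (x : Cover.grp N τ) [(Cover.incl N τ).range.Normal] :
    (Subgroup.centralizer ({x} : Set (Cover.grp N τ))).index =
      ((Subgroup.centralizer ({x} : Set (Cover.grp N τ))).map
          (QuotientGroup.mk' (Cover.incl N τ).range)).index *
        ((Subgroup.centralizer ({x} : Set (Cover.grp N τ))).comap (Cover.incl N τ)).index := by
  have := Cover.finite_grp N τ
  set C := Subgroup.centralizer ({x} : Set (Cover.grp N τ))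
  set I := (Cover.incl N τ).range
  set q := QuotientGroup.mk' I
  set S := C.comap (Cover.incl N τ)
  let f := q.comp C.subtype
  have hr : f.range = C.map q := by rw [MonoidHom.range_comp, Subgroup.range_subtype]
  have hk : Nat.card f.ker = Nat.card S := by
    symm
    refine Nat.card_congr (Equiv.ofBijective (fun s : S => (⟨⟨Cover.incl N τ (s : N), s.2⟩,
      (QuotientGroup.eq_one_iff _).2 ⟨(s : N), rfl⟩⟩ : f.ker)) ⟨fun a b hab => ?_, ?_⟩)
    · exact Subtype.ext (Cover.incl_injective N τ
        (congrArg (fun z : f.ker => ((z : C) : Cover.grp N τ)) hab))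
    · rintro ⟨⟨c, hc⟩, hck⟩
      obtain ⟨n, rfl⟩ := ((QuotientGroup.eq_one_iff c).1 hck : c ∈ I)
      exact ⟨⟨n, hc⟩, rfl⟩
  have hI : Nat.card I = Nat.card N :=
    (Nat.card_congr (MonoidHom.ofInjective (Cover.incl_injective N τ)).toEquiv).symm
  have hC : Nat.card C = Nat.card f.ker * Nat.card f.range := by
    rw [← Subgroup.index_ker, Subgroup.card_mul_index]
  have hΓ : Nat.card (Cover.grp N τ) = Nat.card (Cover.grp N τ ⧸ I) * Nat.card I :=
    I.card_eq_card_quotient_mul_card_subgroup
  rw [← C.card_mul_index, ← (C.map q).card_mul_index, hI, ← S.card_mul_index, hC, hk, hr] at hΓ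
  refine Nat.eq_of_mul_eq_mul_left (Nat.mul_pos (Nat.card_pos (α := S))
    (Nat.card_pos (α := C.map q))) ?_
  rw [hΓ]
  ring

omit [τ.IsIrreducible] in
theorem incl_range_mul (x : Cover.grp N τ) [(Cover.incl N τ).range.Normal] (n : N) :
    (QuotientGroup.mk (x * Cover.incl N τ n) : Cover.grp N τ ⧸ (Cover.incl N τ).range) =
      QuotientGroup.mk x :=
  QuotientGroup.mk_mul_of_mem x ⟨n, rfl⟩

/-- The character upstairs is the character of the cover times one of the quotient. -/
theorem exists_quotient_char [Fintype G] [(Cover.incl N τ).range.Normal]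
    [Fintype (Cover.grp N τ ⧸ (Cover.incl N τ).range)]
    (hinv : ∀ (g : G) (n : N), τ.character ⟨g * n * g⁻¹, hN.conj_mem n n.2 g⟩ = τ.character n)
    {χ : G → ℂ} (hχ : IsIrrCharacter G χ) {e : ℕ}
    (he : (fun n : N => χ n) = (e : ℂ) • τ.character) :
    ∃ ξ : Cover.grp N τ ⧸ (Cover.incl N τ).range → ℂ,
      IsIrrCharacter (Cover.grp N τ ⧸ (Cover.incl N τ).range) ξ ∧
      ∀ x : Cover.grp N τ, χ (Cover.proj N τ x) =
        (Cover.rep N τ).character x * ξ (x : Cover.grp N τ ⧸ (Cover.incl N τ).range) := by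
  classical
  have := Cover.finite_grp N τ
  let : Fintype (Cover.grp N τ) := Fintype.ofFinite _
  let : Fintype N := Fintype.ofFinite N
  have := Cover.rep_irreducible N τ hinv
  set T := (Cover.rep N τ).character
  have hT : IsIrrCharacter (Cover.grp N τ) T := isIrrCharacter_character _
  let χp : Cover.grp N τ → ℂ := χ ∘ Cover.proj N τ
  have hχp : IsIrrCharacter (Cover.grp N τ) χp :=
    CharTwist.isIrrCharacter_comp hχ _ (Cover.proj_surjective N τ hinv)
  let a : Cover.grp N τ → ℂ := fun x => (Nat.card N : ℂ)⁻¹ *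
    ∑ n : N, χp (x * Cover.incl N τ n) * conj (T (x * Cover.incl N τ n))
  have hainv : ∀ x m, a (x * Cover.incl N τ m) = a x := fun x m => by
    simp only [a]
    congr 1
    refine Fintype.sum_equiv (Equiv.mulLeft m) _ _ fun n => ?_
    rw [Equiv.coe_mulLeft, map_mul, mul_assoc x]
  let ab : Cover.grp N τ ⧸ (Cover.incl N τ).range → ℂ := Quotient.lift a (fun x y hxy => by
    obtain ⟨m, hm⟩ := (QuotientGroup.leftRel_apply.1 hxy : x⁻¹ * y ∈ (Cover.incl N τ).range)
    rw [← hainv x m, hm, mul_inv_cancel_left])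
  have hab : ∀ x : Cover.grp N τ, ab x = a x := fun x => rfl
  have habc : IsClassFunction (Cover.grp N τ ⧸ (Cover.incl N τ).range) ab := by
    intro g h
    induction g using QuotientGroup.induction_on with | H x =>
    induction h using QuotientGroup.induction_on with | H y =>
    rw [← QuotientGroup.mk_inv, ← QuotientGroup.mk_mul, ← QuotientGroup.mk_mul, hab, hab]
    simp only [a]
    congr 1
    refine (Fintype.sum_equiv (MulAut.conjNormal (H := N) (Cover.proj N τ y)).toEquiv _ _
      fun n => ?_).symm
    have e1 : y * x * y⁻¹ * Cover.incl N τ (MulAut.conjNormal (H := N) (Cover.proj N τ y) n) =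
        y * (x * Cover.incl N τ n) * y⁻¹ := by
      rw [show MulAut.conjNormal (H := N) (Cover.proj N τ y) n =
        ⟨Cover.proj N τ y * n * (Cover.proj N τ y)⁻¹, hN.conj_mem n n.2 _⟩ from
          Subtype.ext (MulAut.conjNormal_apply _ _), ← Cover.conj_incl]
      group
    rw [MulEquiv.toEquiv_eq_coe, EquivLike.coe_coe, e1,
      IsIrrCharacter.isClassFunction hχp, IsIrrCharacter.isClassFunction hT]
  have ha1 : ab 1 ≠ 0 := by
    rw [← QuotientGroup.mk_one, hab]
    simp only [a, one_mul]
    have hs : ∀ n : N, χp (Cover.incl N τ n) = (e : ℂ) * T (Cover.incl N τ n) := fun n => by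
      change χ (Cover.proj N τ (Cover.incl N τ n)) = _
      rw [Cover.proj_incl, show χ (n : G) = ((e : ℂ) • τ.character) n from congrFun he n,
        Pi.smul_apply, smul_eq_mul]
      congr 1
    have h1 := sum_norm_char N τ 1
    simp only [one_mul] at h1
    rw [Finset.sum_congr rfl fun n _ => by rw [hs n, mul_assoc], ← Finset.mul_sum, h1]
    have he0 : (e : ℂ) ≠ 0 := fun h0 => by
      have h := congrFun he 1
      rw [h0, zero_smul, Pi.zero_apply] at h
      exact IsIrrCharacter.apply_one_ne_zero hχ h
    have hN0 : (Nat.card N : ℂ) ≠ 0 := Nat.cast_ne_zero.2 Nat.card_pos.ne'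
    exact mul_ne_zero (inv_ne_zero hN0) (mul_ne_zero he0 hN0)
  obtain ⟨ξ, hξ, hξ0⟩ : ∃ ξ, IsIrrCharacter (Cover.grp N τ ⧸ (Cover.incl N τ).range) ξ ∧ Cfsg.classInner ab ξ ≠ 0 := by
    by_contra hcon
    push Not at hcon
    exact ha1 (by rw [eq_zero_of_forall_classInner_eq_zero habc hcon]; rfl)
  refine ⟨ξ, hξ, ?_⟩
  let ξm : Cover.grp N τ → ℂ := fun x => ξ (x : Cover.grp N τ ⧸ (Cover.incl N τ).range)
  have hξm : ∀ x m, ξm (x * Cover.incl N τ m) = ξm x := fun x m => by
    simp only [ξm, incl_range_mul]
  have hprod : IsCharacter (Cover.grp N τ) (T * ξm) :=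
    IsCharacter.mul (IsIrrCharacter.isCharacter hT)
      (IsCharacter.comp (IsIrrCharacter.isCharacter hξ) (QuotientGroup.mk' (Cover.incl N τ).range))
  have hnorm : Cfsg.classInner (T * ξm) (T * ξm) = 1 := by
    refine Eq.trans (isometry N τ (MonoidHom.id _) (Cover.incl N τ) (fun n => rfl) ξm ξm hξm hξm) ?_
    exact (CharTools.classInner_comp_surjective (QuotientGroup.mk' (Cover.incl N τ).range)
      (QuotientGroup.mk'_surjective (Cover.incl N τ).range) ξ ξ).trans (classInner_irr_self hξ)
  have hinner : Cfsg.classInner χp (T * ξm) = Cfsg.classInner ab ξ := by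
    rw [← CharTools.classInner_comp_surjective (QuotientGroup.mk' (Cover.incl N τ).range)
      (QuotientGroup.mk'_surjective (Cover.incl N τ).range) ab ξ]
    have hN0 : (Nat.card N : ℂ) ≠ 0 := Nat.cast_ne_zero.2 Nat.card_pos.ne'
    simp only [Cfsg.classInner, QuotientGroup.mk'_apply, hab, a, Pi.mul_apply, map_mul]
    congr 1
    refine mul_left_cancel₀ hN0 ?_
    rw [Finset.mul_sum, Finset.mul_sum]
    simp only [mul_assoc, mul_inv_cancel_left₀ hN0, Finset.sum_mul]
    rw [Finset.sum_comm]
    rw [← Finset.mul_sum, ← nsmul_eq_mul, Nat.card_eq_fintype_card, ← Finset.card_univ,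
      ← Finset.sum_const]
    refine Finset.sum_congr rfl fun n _ => ?_
    refine (Fintype.sum_equiv (Equiv.mulRight (Cover.incl N τ n)) _ _ fun x => ?_).symm
    rw [Equiv.coe_mulRight, hξm]
  have heq : χp = T * ξm := eq_of_classInner_ne_zero hχp
    (IsCharacter.isIrrCharacter_of_classInner_self hprod hnorm) (hinner ▸ hξ0)
  exact fun x => congrFun heq x

/-- The second factor is homogeneous. -/
theorem homogeneous_quotient [Fintype G] [(Cover.incl N τ).range.Normal]
    [Fintype (Cover.grp N τ ⧸ (Cover.incl N τ).range)]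
    (hinv : ∀ (g : G) (n : N), τ.character ⟨g * n * g⁻¹, hN.conj_mem n n.2 g⟩ = τ.character n)
    {χ : G → ℂ} (hhom : Homogeneous χ)
    {ξ : Cover.grp N τ ⧸ (Cover.incl N τ).range → ℂ}
    (hξ : IsIrrCharacter (Cover.grp N τ ⧸ (Cover.incl N τ).range) ξ)
    (hfac : ∀ x : Cover.grp N τ, χ (Cover.proj N τ x) =
      (Cover.rep N τ).character x * ξ (x : Cover.grp N τ ⧸ (Cover.incl N τ).range)) :
    Homogeneous ξ := by
  classical
  intro M hM
  have := Cover.finite_grp N τ
  set T := (Cover.rep N τ).character
  let q := QuotientGroup.mk' (Cover.incl N τ).range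
  let L := M.comap q
  have hL : L.Normal := hM.comap q
  let H := L.map (Cover.proj N τ)
  have hH : H.Normal := hL.map _ (Cover.proj_surjective N τ hinv)
  obtain ⟨ψ, f, hψ, hf⟩ := hhom H hH
  let πL : L →* H := (Cover.proj N τ).subgroupMap L
  have hπL : Function.Surjective πL := (Cover.proj N τ).subgroupMap_surjective L
  let qL : L →* M := (q.comp L.subtype).codRestrict M fun y => y.2
  have hqL : Function.Surjective qL := fun z => by
    obtain ⟨y, hy⟩ := QuotientGroup.mk'_surjective (Cover.incl N τ).range (z : Cover.grp N τ ⧸ (Cover.incl N τ).range)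
    exact ⟨⟨y, by rw [Subgroup.mem_comap]; change q y ∈ M; rw [hy]; exact z.2⟩, Subtype.ext hy⟩
  let j : N →* L := (Cover.incl N τ).codRestrict L fun n => by
    rw [Subgroup.mem_comap, (QuotientGroup.eq_one_iff (N := (Cover.incl N τ).range) _).2 ⟨n, rfl⟩ |> fun h =>
      (show q (Cover.incl N τ n) = 1 from h)]
    exact one_mem M
  have hqj : ∀ (y : L) (n : N), qL (y * j n) = qL y := fun y n =>
    Subtype.ext (incl_range_mul N τ (y : Cover.grp N τ) n)
  let : Fintype L := Fintype.ofFinite L
  let : Fintype M := Fintype.ofFinite M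
  let : Fintype H := Fintype.ofFinite H
  let TL : L → ℂ := fun y => T y
  have hiso : ∀ a b : M → ℂ, Cfsg.classInner (fun y : L => TL y * a (qL y))
      (fun y : L => TL y * b (qL y)) = Cfsg.classInner a b := fun a b => by
    refine Eq.trans (isometry N τ L.subtype j (fun n => rfl) (fun y => a (qL y))
      (fun y => b (qL y)) (fun y n => congrArg a (hqj y n)) (fun y n => congrArg b (hqj y n))) ?_
    exact CharTools.classInner_comp_surjective qL hqL a b
  let Φ : L → ℂ := ψ ∘ πL
  have hΦ : IsIrrCharacter L Φ := CharTwist.isIrrCharacter_comp hψ πL hπL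
  have hres : (fun y : L => TL y * ξ (qL y : Cover.grp N τ ⧸ (Cover.incl N τ).range)) = (f : ℂ) • Φ := by
    funext y
    change T y * ξ ((y : Cover.grp N τ) : Cover.grp N τ ⧸ (Cover.incl N τ).range) = (f : ℂ) * ψ (πL y)
    rw [← hfac]
    exact congrFun hf (πL y)
  obtain ⟨ω, hω, hωc⟩ := CfsgLib.Clifford.exists_constituent_res M hξ
  have hprod : IsCharacter L (fun y : L => TL y * ω (qL y)) :=
    IsCharacter.mul (IsCharacter.restrict (isCharacter_character (Cover.rep N τ)) L)
      (IsCharacter.comp (IsIrrCharacter.isCharacter hω) qL)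
  have hΦω : (fun y : L => TL y * ω (qL y)) = Φ := by
    refine eq_of_classInner_ne_zero (IsCharacter.isIrrCharacter_of_classInner_self hprod
      ((hiso ω ω).trans (classInner_irr_self hω))) hΦ fun h0 => hωc ?_
    have h1 := hiso (fun z : M => ξ (z : Cover.grp N τ ⧸ (Cover.incl N τ).range)) ω
    rw [← h1, hres, classInner_smul_left, ← classInner_conj_symm, h0, map_zero, mul_zero]
  refine ⟨ω, f, hω, ?_⟩
  have hz : (fun z : M => ξ (z : Cover.grp N τ ⧸ (Cover.incl N τ).range)) - (f : ℂ) • ω = 0 := by
    refine eq_zero_of_forall_classInner_eq_zero (fun g h => ?_) fun ω' hω' => ?_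
    · simp only [Pi.sub_apply, Pi.smul_apply, IsIrrCharacter.isClassFunction hω g h,
        Subgroup.coe_mul, Subgroup.coe_inv, IsIrrCharacter.isClassFunction hξ (g : _ ⧸ (Cover.incl N τ).range) h]
    · rw [← hiso]
      convert classInner_zero_left (G := L) _ using 2
      funext y
      have h1 := congrFun hres y
      have h2 := congrFun hΦω y
      simp only [Pi.sub_apply, Pi.smul_apply, smul_eq_mul, Pi.zero_apply] at h1 h2 ⊢
      rw [mul_sub, h1, ← h2]
      ring
  exact funext fun z => sub_eq_zero.1 (congrFun hz z)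

end CfsgLib.KGV.Ramified
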