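import Cfsg.Agent.Lib.KGV.ParityBasic
import Cfsg.Agent.Lib.KGV.RamifiedCover
import Cfsg.Agent.Lib.Glauberman.LayerBasic
import Cfsg.Agent.Lib.Char.Twist
import Cfsg.Agent.Lib.Char.Conj
import Mathlib.LinearAlgebra.Trace

/-!
# Parity in a fully ramified section with a complement

`K` is normal with central commutators, `C` meets it in its centre and supplements it; an
involutory automorphism `σ` of `K` fixes the centre, inverts modulo the centre and commutes with
`C`.  Its intertwiner splits the cover's character into two pieces whose difference has norm one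
everywhere; reading restrictions modulo two gives the correspondence.
-/

set_option autoImplicit false

namespace CfsgLib.KGV.Parity

open Cfsg CfsgLib CfsgLib.Char CfsgLib.CharDeep
open scoped ComplexConjugate commutatorElement

universe u

variable {G : Type u} [Group G]

/-- The hypotheses on the section. -/
structure Ram (K C : Subgroup G) [K.Normal] (σ : MulAut K) : Prop where
  odd : Odd (Nat.card G)
  sup : K ⊔ C = ⊤
  inC : ∀ z : K, z ∈ Subgroup.center K → (z : G) ∈ C ∧ (z : G) ∈ Subgroup.center G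
  cen : ∀ z : K, (z : G) ∈ C → z ∈ Subgroup.center K
  comm : ∀ a b : K, ⁅a, b⁆ ∈ Subgroup.center K
  fixσ : ∀ z ∈ Subgroup.center K, σ z = z
  invol : ∀ x, σ (σ x) = x
  inv : ∀ x, x * σ x ∈ Subgroup.center K
  commσ : ∀ c ∈ C, ∀ x, σ (MulAut.conjNormal (H := K) c x) = MulAut.conjNormal (H := K) c (σ x)

/-- The character `χ` of `G` lies over `lam` on the centre of `K`. -/
def Above (K : Subgroup G) (lam : K → ℂ) (χ : G → ℂ) : Prop :=
  ∀ z : K, z ∈ Subgroup.center K → χ z = χ 1 * lam z

/-- The character `ψ` of `C` lies over `lam` on the centre of `K`. -/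
def AboveC (K C : Subgroup G) (lam : K → ℂ) (ψ : C → ℂ) : Prop :=
  ∀ (c : C) (z : K), z ∈ Subgroup.center K → (c : G) = (z : G) → ψ c = ψ 1 * lam z

/-- The three parts of the parity correspondence. -/
def Corresp (K C : Subgroup G) [Fintype C] (lam : K → ℂ) : Prop :=
    (∀ χ : IrrCharacter G, Above K lam χ →
      ∃! ψ : IrrCharacter C, OddMult (fun c : C => (χ : G → ℂ) c) (ψ : C → ℂ)) ∧
    (∀ χ χ' : IrrCharacter G, Above K lam χ → Above K lam χ' → ∀ ψ : IrrCharacter C,
      OddMult (fun c : C => (χ : G → ℂ) c) (ψ : C → ℂ) →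
      OddMult (fun c : C => (χ' : G → ℂ) c) (ψ : C → ℂ) → χ = χ') ∧
    (∀ ψ : IrrCharacter C, AboveC K C lam ψ →
      ∃ χ : IrrCharacter G, Above K lam χ ∧ OddMult (fun c : C => (χ : G → ℂ) c) (ψ : C → ℂ))

theorem conj_central {X : Type u} [Group X] {z : X} (hz : z ∈ Subgroup.center X) (g : X) :
    g * z * g⁻¹ = z := by rw [Subgroup.mem_center_iff.1 hz g, mul_inv_cancel_right]

theorem center_equiv {X : Type u} [Group X] (e : MulAut X) {z : X} (hz : z ∈ Subgroup.center X) :
    e z ∈ Subgroup.center X := Subgroup.mem_center_iff.2 fun y => by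
  rw [← e.apply_symm_apply y, ← map_mul, ← map_mul, Subgroup.mem_center_iff.1 hz]

variable {K C : Subgroup G} [K.Normal] {σ : MulAut K}

omit [K.Normal] in
theorem Above.mul [Finite G] {lam : K → ℂ} {χ : G → ℂ} (hχ : IsIrrCharacter G χ)
    (ha : Above K lam χ) {z : K} (hz : z ∈ Subgroup.center K)
    (hzG : (z : G) ∈ Subgroup.center G) (g : G) : χ (g * z) = lam z * χ g := by
  have h := CharOver.apply_mul_central hχ hzG g
  rw [ha z hz] at h
  exact mul_right_cancel₀ (IsIrrCharacter.apply_one_ne_zero hχ) (by rw [h]; ring)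

/-- Modulo the centre, conjugation by `c` composed with `σ` has no fixed points. -/
theorem Ram.cond (h : Ram K C σ) [Finite G] (c : G) (x : K)
    (hx : x * (MulAut.conjNormal (H := K) c (σ x))⁻¹ ∈ Subgroup.center K) :
    x ∈ Subgroup.center K := by
  let q := QuotientGroup.mk' (Subgroup.center K)
  have hq : ∀ {z : K}, z ∈ Subgroup.center K → q z = 1 := fun hz => (QuotientGroup.eq_one_iff _).2 hz
  let e : G → MulAut K := fun g => MulAut.conjNormal (H := K) g
  have hσx : q (e c (σ x)) = (q (e c x))⁻¹ := eq_inv_of_mul_eq_one_right (by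
    rw [← map_mul, ← map_mul]; exact hq (center_equiv _ (h.inv x)))
  have hrel : q x = (q (e c x))⁻¹ := by
    rw [← hσx, ← mul_inv_eq_one, ← map_inv, ← map_mul]
    exact hq hx
  have hcx : x * e c x ∈ Subgroup.center K := (QuotientGroup.eq_one_iff _).1 (by
    change q (x * e c x) = 1
    rw [map_mul, hrel, inv_mul_cancel])
  have hpow : ∀ i : ℕ, q (e (c ^ i) x) = q x ^ ((-1 : ℤ) ^ i) := by
    intro i
    induction i with
    | zero => simp [e]
    | succ i ih =>
      have h1 := hq (center_equiv (e (c ^ i)) hcx)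
      rw [map_mul, map_mul, ← MulAut.mul_apply, ← map_mul (MulAut.conjNormal (H := K)), ← pow_succ,
        ih] at h1
      rw [eq_inv_of_mul_eq_one_right h1, ← zpow_neg, pow_succ]
      congr 1
      ring
  have h2 := hpow (Nat.card G)
  rw [pow_card_eq_one', h.odd.neg_one_pow, zpow_neg_one] at h2
  simp only [e, map_one, MulAut.one_apply] at h2
  have h3 : q x * q x = 1 := eq_inv_iff_mul_eq_one.1 h2
  have h4 : Odd (orderOf (q x)) :=
    h.odd.of_dvd_nat ((orderOf_map_dvd q x).trans (orderOf_dvd_natCard x |>.trans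
      (Subgroup.card_subgroup_dvd_card K)))
  have h5 : orderOf (q x) = 1 := by
    have h6 : orderOf (q x) ∣ 2 := orderOf_dvd_of_pow_eq_one (by rw [pow_two, h3])
    rcases (Nat.dvd_prime Nat.prime_two).1 h6 with h7 | h7
    · exact h7
    · rw [h7] at h4; exact absurd h4 (by decide)
  exact (QuotientGroup.eq_one_iff _).1 (orderOf_eq_one_iff.1 h5)

/-- An irreducible character of `K` over a faithful character of the centre vanishes off it. -/
theorem Ram.vanish (h : Ram K C σ) [Finite G] [Fintype K] {lam : K → ℂ}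
    (hlam : ∀ z ∈ Subgroup.center K, lam z = 1 → z = 1) {θ : K → ℂ} (hθ : IsIrrCharacter K θ)
    (ha : ∀ z ∈ Subgroup.center K, ∀ x, θ (x * z) = lam z * θ x) (x : K) (hx : θ x ≠ 0) :
    x ∈ Subgroup.center K := by
  refine Subgroup.mem_center_iff.2 fun y => ?_
  by_contra hne
  have hcl : θ (y * x * y⁻¹) = θ x := IsIrrCharacter.isClassFunction hθ x y
  rw [show y * x * y⁻¹ = x * ⁅x⁻¹, y⁆ by simp only [commutatorElement_def]; group,
    ha _ (h.comm _ _)] at hcl
  have h1 : ⁅x⁻¹, y⁆ = 1 := hlam _ (h.comm _ _) (mul_right_cancel₀ hx (hcl.trans (one_mul _).symm))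
  rw [commutatorElement_eq_one_iff_mul_comm] at h1
  exact hne (by
    calc y * x = x * (x⁻¹ * y) * x := by group
      _ = x * (y * x⁻¹) * x := by rw [h1]
      _ = x * y := by group)

variable [Fintype G] [Fintype C] {lam : K → ℂ}

omit [Fintype C] in
/-- A constituent on `K` of a character over `lam`: it is the only one. -/
theorem Ram.exists_tau (h : Ram K C σ) [Fintype K]
    (hlam : ∀ z ∈ Subgroup.center K, lam z = 1 → z = 1) {χ₀ : G → ℂ} (hχ₀ : IsIrrCharacter G χ₀)
    (ha₀ : Above K lam χ₀) :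
    ∃ (t : ℕ) (τ : Representation ℂ K (Fin t → ℂ)), τ.IsIrreducible ∧
      (∀ x, τ.character x ≠ 0 → x ∈ Subgroup.center K) ∧
      (∀ z ∈ Subgroup.center K, τ z = lam z • 1) ∧
      (∀ (g : G) (n : K), τ.character ⟨g * n * g⁻¹, (‹K.Normal›).conj_mem n n.2 g⟩ = τ.character n) ∧
      ∀ χ : G → ℂ, IsIrrCharacter G χ → Above K lam χ →
        ∃ e : ℕ, (fun n : K => χ n) = (e : ℂ) • τ.character := by
  classical
  have hover : ∀ χ : G → ℂ, IsIrrCharacter G χ → Above K lam χ → ∀ θ : K → ℂ,
      IsIrrCharacter K θ → Cfsg.classInner (fun n : K => χ n) θ ≠ 0 →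
      ∀ z ∈ Subgroup.center K, θ z = θ 1 * lam z ∧ ∀ x, θ (x * z) = lam z * θ x :=
    fun χ hχ ha θ hθ hne z hz => constituent_scalar hθ hz
      (fun x => by rw [Subgroup.coe_mul]; exact ha.mul hχ hz (h.inC z hz).2 x) hne
  obtain ⟨θ, hθ, hθc⟩ := Clifford.exists_constituent_res K hχ₀
  have hθv := h.vanish hlam hθ fun z hz => (hover χ₀ hχ₀ ha₀ θ hθ hθc z hz).2
  obtain ⟨t, τ, hτ, rfl⟩ := hθ
  have hinvτ : ∀ (g : G) (n : K),
      τ.character ⟨g * n * g⁻¹, (‹K.Normal›).conj_mem n n.2 g⟩ = τ.character n := fun g n => by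
    by_cases hn : n ∈ Subgroup.center K
    · congr 1
      exact Subtype.ext (conj_central (h.inC n hn).2 g)
    · have hn' : (⟨g * n * g⁻¹, (‹K.Normal›).conj_mem n n.2 g⟩ : K) ∉ Subgroup.center K := fun h' => by
        refine hn ?_
        have h2 := center_equiv (MulAut.conjNormal (H := K) g⁻¹) h'
        rwa [show MulAut.conjNormal (H := K) g⁻¹ (⟨g * n * g⁻¹, _⟩ : K) = n from
          Subtype.ext (by rw [MulAut.conjNormal_apply]; group)] at h2
      rw [not_not.1 (mt (hθv n) hn), not_not.1 (mt (hθv _) hn')]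
  refine ⟨t, τ, hτ, hθv, fun z hz => ?_, hinvτ, fun χ hχ ha => ?_⟩
  · obtain ⟨c, hc⟩ := exists_scalar_of_commute τ (τ z) fun g => by
      rw [← map_mul, ← map_mul, Subgroup.mem_center_iff.1 hz g]
    have h1 := (hover χ₀ hχ₀ ha₀ _ (isIrrCharacter_character τ) hθc z hz).1
    simp only [Representation.character, hc, map_smul, map_one, smul_eq_mul, mul_comm _ (lam z)] at h1
    rw [hc, mul_right_cancel₀ ?_ h1]
    have := IsIrrCharacter.apply_one_ne_zero (isIrrCharacter_character τ)
    simpa [Representation.character] using this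
  · obtain ⟨κ, hκ, hκc⟩ := Clifford.exists_constituent_res K hχ
    have hκs := hover χ hχ ha κ hκ hκc
    have hκv := h.vanish hlam hκ fun z hz => (hκs z hz).2
    have hτs := hover χ₀ hχ₀ ha₀ _ (isIrrCharacter_character τ) hθc
    have hτ1 : τ.character 1 ≠ 0 := IsIrrCharacter.apply_one_ne_zero (isIrrCharacter_character τ)
    have he : κ = τ.character := by
      refine eq_of_classInner_ne_zero hκ (isIrrCharacter_character τ) ?_
      have hp : κ = (κ 1 / τ.character 1) • τ.character := by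
        funext x
        rw [Pi.smul_apply, smul_eq_mul]
        by_cases hx : x ∈ Subgroup.center K
        · rw [(hκs x hx).1, (hτs x hx).1]; field_simp
        · rw [not_not.1 (mt (hκv x) hx), not_not.1 (mt (hθv x) hx), mul_zero]
      rw [hp, classInner_smul_left, classInner_irr_self (isIrrCharacter_character τ), mul_one]
      exact div_ne_zero (IsIrrCharacter.apply_one_ne_zero hκ) hτ1
    obtain ⟨e, -, hee⟩ := Cliff.res_eq_smul K hχ (isIrrCharacter_character τ)
      (fun g => funext fun n => hinvτ g n) (he ▸ hκc)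
    exact ⟨e, hee⟩

variable [Fintype K] {t : ℕ} (τ : Representation ℂ K (Fin t → ℂ)) [τ.IsIrreducible]

omit [Fintype C] in
/-- The parity character of the cover over `C`. -/
theorem Ram.exists_delta (h : Ram K C σ)
    (hvan : ∀ x, τ.character x ≠ 0 → x ∈ Subgroup.center K) :
    ∃ Δ ω : C.comap (Cover.proj K τ) → ℂ,
      IsGeneralizedCharacter (C.comap (Cover.proj K τ)) Δ ∧
      IsCharacter (C.comap (Cover.proj K τ)) ω ∧
      (∀ x : C.comap (Cover.proj K τ), (Cover.rep K τ).character x = 2 * ω x - Δ x) ∧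
      (∀ x, Δ x * conj (Δ x) = 1) ∧
      ∀ (x k : C.comap (Cover.proj K τ)) (c : ℂ), Cover.rep K τ k = c • 1 → Δ (x * k) = c * Δ x := by
  classical
  have := Cover.finite_grp K τ
  have : Nontrivial (Fin t → ℂ) := CharKernel.nontrivial_of_irreducible τ
  obtain ⟨A₀, hA₀⟩ : ∃ A : (Module.End ℂ (Fin t → ℂ))ˣ, ∀ x, τ (σ x) * A.val = A.val * τ x := by
    let τ' : Representation ℂ K (Fin t → ℂ) := τ.comp σ.toMonoidHom
    have : τ'.IsIrreducible := CharTwist.irreducible_comp_surjective τ σ.toMonoidHom σ.surjective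
    have hchar : τ.character = τ'.character := by
      funext x
      change τ.character x = τ.character (σ x)
      by_cases hx : x ∈ Subgroup.center K
      · rw [h.fixσ x hx]
      · have hx' : σ x ∉ Subgroup.center K := fun h' => hx (by
          rwa [σ.injective (h.fixσ _ h')] at h')
        rw [not_not.1 (mt (hvan x) hx), not_not.1 (mt (hvan (σ x)) hx')]
    obtain ⟨A, hA⟩ := Cover.exists_linearEquiv τ τ' hchar
    exact ⟨LinearMap.GeneralLinearGroup.generalLinearEquiv ℂ (Fin t → ℂ) |>.symm A,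
      fun x => LinearMap.ext fun v => (hA x v).symm⟩
  obtain ⟨s, hs⟩ := exists_scalar_of_commute τ (A₀.val * A₀.val) fun x => by
    have h1 := hA₀ (σ x)
    rw [h.invol] at h1
    rw [mul_assoc, ← hA₀, ← mul_assoc, ← h1, mul_assoc]
  have hs0 : s ≠ 0 := fun h0 => by
    rw [h0, zero_smul] at hs
    exact (A₀ * A₀).ne_zero hs
  obtain ⟨w, hw⟩ := IsAlgClosed.exists_pow_nat_eq s⁻¹ two_pos
  set J : Module.End ℂ (Fin t → ℂ) := w • A₀.val with hJdef
  have hJJ : J * J = 1 := by
    rw [hJdef, smul_mul_smul_comm, hs, smul_smul, ← pow_two, hw, inv_mul_cancel₀ hs0, one_smul]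
  have hJτ : ∀ x, τ (σ x) * J = J * τ x := fun x => by
    rw [hJdef, mul_smul_comm, smul_mul_assoc, hA₀]
  clear_value J
  clear hJdef
  let uJ : (Module.End ℂ (Fin t → ℂ))ˣ := ⟨J, J, hJJ, hJJ⟩
  have htrJ : LinearMap.trace ℂ _ J * LinearMap.trace ℂ _ J = 1 :=
    trace_mul_trace_inv τ hvan σ h.fixσ (fun n hn => h.cond 1 n (by simpa using hn)) uJ hJτ
  let H := C.comap (Cover.proj K τ)
  let R : H →* Module.End ℂ (Fin t → ℂ) := (Cover.rep K τ).comp H.subtype
  let α : H → MulAut K := fun x => MulAut.conjNormal (H := K) (Cover.proj K τ x)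
  let ur : H → (Module.End ℂ (Fin t → ℂ))ˣ := fun x =>
    ((x : Cover.grp K τ) : G × (Module.End ℂ (Fin t → ℂ))ˣ).2
  have hα : ∀ (x : H) (n : K), τ (α x n) * R x = R x * τ n := fun x n => by
    change _ = Cover.rep K τ x * τ n
    rw [Cover.rep_intertwines]
    rfl
  have hcomm : ∀ x : H, R x * J = J * R x := by
    intro x
    let A := ur x
    have hA : ∀ n, τ (α x n) * A.val = A.val * τ n := hα x
    have hA' : ∀ n, τ n * A⁻¹.val = A⁻¹.val * τ (α x n) := fun n => by
      rw [← Units.mul_right_inj A, ← mul_assoc, ← hA, mul_assoc, Units.mul_inv, mul_one,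
        Units.mul_inv_cancel_left]
    obtain ⟨c, hc⟩ := exists_scalar_of_commute τ (J * A⁻¹.val * J * A.val) fun n => by
      calc J * A⁻¹.val * J * A.val * τ n
          = J * A⁻¹.val * J * (τ (α x n) * A.val) := by rw [hA]; simp only [mul_assoc]
        _ = J * A⁻¹.val * (J * τ (α x n)) * A.val := by simp only [mul_assoc]
        _ = J * A⁻¹.val * (τ (α x (σ n)) * J) * A.val := by
          rw [show α x (σ n) = σ (α x n) from (h.commσ _ x.2 n).symm, hJτ]
        _ = J * (A⁻¹.val * τ (α x (σ n))) * J * A.val := by simp only [mul_assoc]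
        _ = J * τ (σ n) * A⁻¹.val * J * A.val := by rw [← hA']; simp only [mul_assoc]
        _ = τ n * J * A⁻¹.val * J * A.val := by rw [← hJτ (σ n), h.invol]
        _ = τ n * (J * A⁻¹.val * J * A.val) := by simp only [mul_assoc]
    have h1 : A⁻¹.val * J * A.val = c • J := by
      calc A⁻¹.val * J * A.val = J * J * (A⁻¹.val * J * A.val) := by rw [hJJ, one_mul]
        _ = J * (J * A⁻¹.val * J * A.val) := by simp only [mul_assoc]
        _ = c • J := by rw [hc]; exact (mul_smul_comm c J 1).trans (congrArg (c • ·) (mul_one J))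
    have h2 := congrArg (LinearMap.trace ℂ _) h1
    rw [LinearMap.trace_mul_comm, ← mul_assoc, Units.mul_inv, one_mul, map_smul, smul_eq_mul] at h2
    have hc1 : c = 1 := by
      linear_combination (c - 1) * (-htrJ) - LinearMap.trace ℂ _ J * h2
    rw [hc1, one_smul] at h1
    calc A.val * J = A.val * (A⁻¹.val * J * A.val) := by rw [h1]
      _ = J * A.val := by rw [mul_assoc, Units.mul_inv_cancel_left]
  set P : Module.End ℂ (Fin t → ℂ) := (2 : ℂ)⁻¹ • (1 + J) with hPdef
  have hPP : P * P = P := by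
    rw [hPdef, smul_mul_smul_comm, add_mul, mul_add, mul_add, one_mul, mul_one, one_mul, hJJ,
      show (1 : Module.End ℂ (Fin t → ℂ)) + J + (J + 1) = (2 : ℂ) • (1 + J) by rw [two_smul]; abel,
      smul_smul]
    congr 1
    norm_num
  have hPR : ∀ x : H, R x * P = P * R x := fun x => by
    rw [hPdef, mul_smul_comm, smul_mul_assoc, mul_add, add_mul, mul_one, one_mul, hcomm]
  set W := LinearMap.range P with hW
  have hWinv : ∀ (x : H), ∀ v ∈ W, R x v ∈ W := by
    rintro x _ ⟨v, rfl⟩
    exact ⟨R x v, (LinearMap.congr_fun (hPR x) v).symm⟩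
  let ρW : Representation ℂ H W :=
    { toFun := fun x => (R x).restrict (hWinv x)
      map_one' := LinearMap.ext fun v => Subtype.ext (by simp [LinearMap.restrict_apply])
      map_mul' := fun x y => LinearMap.ext fun v => Subtype.ext (by simp [LinearMap.restrict_apply]) }
  have hω : ∀ x, ρW.character x = LinearMap.trace ℂ _ (R x * P) := fun x => by
    have hmem : ∀ v, (R x * P) v ∈ W := fun v => hWinv x _ ⟨v, rfl⟩
    rw [← LinearMap.trace_restrict_eq_of_forall_mem W (R x * P) hmem]
    change LinearMap.trace ℂ W _ = _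
    congr 1
    refine LinearMap.ext fun v => Subtype.ext ?_
    obtain ⟨u, hu⟩ := v.2
    change R x (v : Fin t → ℂ) = R x (P (v : Fin t → ℂ))
    rw [← hu]
    exact congrArg (R x) (LinearMap.congr_fun hPP u).symm
  let Δ : H → ℂ := fun x => LinearMap.trace ℂ _ (R x * J)
  have hT : ∀ x : H, (Cover.rep K τ).character x = 2 * ρW.character x - Δ x := fun x => by
    rw [hω, hPdef, mul_smul_comm, mul_add, mul_one, map_smul, map_add, smul_eq_mul]
    change LinearMap.trace ℂ _ (Cover.rep K τ x) = _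
    simp only [R, Δ, MonoidHom.coe_comp, Function.comp_apply, Subgroup.coe_subtype]
    ring
  let : Fintype H := Fintype.ofFinite H
  have hTH : IsCharacter H (fun x : H => (Cover.rep K τ).character x) :=
    IsCharacter.restrict (isCharacter_character _) H
  have hωc : IsCharacter H ρW.character := isCharacter_character ρW
  have hΔg : IsGeneralizedCharacter H Δ := by
    have e : Δ = (ρW.character + ρW.character) - fun x : H => (Cover.rep K τ).character x := by
      funext x
      simp only [Pi.sub_apply, Pi.add_apply, hT]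
      ring
    rw [e]
    exact IsGeneralizedCharacter.sub (IsGeneralizedCharacter.add
      (IsCharacter.isGeneralizedCharacter hωc) (IsCharacter.isGeneralizedCharacter hωc))
      (IsCharacter.isGeneralizedCharacter hTH)
  have hconj : ∀ x : H, Δ x⁻¹ = conj (Δ x) := fun x => by
    have e : ∀ y, Δ y = 2 * ρW.character y - (Cover.rep K τ).character (y : Cover.grp K τ) :=
      fun y => by rw [hT]; ring
    rw [e, e, IsCharacter.apply_inv hωc, map_sub, map_mul, map_ofNat]
    congr 1
    exact IsCharacter.apply_inv hTH x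
  refine ⟨Δ, ρW.character, hΔg, hωc, hT, fun x => ?_, fun x k c hk => ?_⟩
  · rw [← hconj]
    let β : MulAut K := α x * σ
    have hβz : ∀ z ∈ Subgroup.center K, β z = z := fun z hz => by
      rw [MulAut.mul_apply, h.fixσ z hz]
      refine Subtype.ext ?_
      rw [MulAut.conjNormal_apply]
      exact conj_central (h.inC z hz).2 _
    let A : (Module.End ℂ (Fin t → ℂ))ˣ := ur x * uJ
    have hA : ∀ n, τ (β n) * A.val = A.val * τ n := fun n => by
      change τ (α x (σ n)) * (R x * J) = R x * J * τ n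
      rw [← mul_assoc, hα, mul_assoc, hJτ, mul_assoc]
    have h1 := trace_mul_trace_inv τ hvan β hβz (fun n hn => h.cond _ n hn) A hA
    rw [← h1]
    congr 1
    change LinearMap.trace ℂ _ (R x⁻¹ * J) = LinearMap.trace ℂ _ (J * R x⁻¹)
    exact LinearMap.trace_mul_comm _ _ _
  · change LinearMap.trace ℂ _ (R (x * k) * J) = c * LinearMap.trace ℂ _ (R x * J)
    rw [map_mul R, show R k = c • (1 : Module.End ℂ (Fin t → ℂ)) from hk, mul_smul_comm, mul_one,
      smul_mul_assoc, map_smul, smul_eq_mul]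

/-- The correspondence, once a constituent on `K` is fixed. -/
theorem Ram.parity_of_tau (h : Ram K C σ)
    (hvan : ∀ x, τ.character x ≠ 0 → x ∈ Subgroup.center K)
    (hscal : ∀ z ∈ Subgroup.center K, τ z = lam z • 1)
    (hinvτ : ∀ (g : G) (n : K),
      τ.character ⟨g * n * g⁻¹, (‹K.Normal›).conj_mem n n.2 g⟩ = τ.character n)
    (hres : ∀ χ : G → ℂ, IsIrrCharacter G χ → Above K lam χ →
      ∃ e : ℕ, (fun n : K => χ n) = (e : ℂ) • τ.character) :
    Corresp K C lam := by
  classical
  have := Cover.finite_grp K τ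
  have := Cover.range_normal K τ
  have := Cover.rep_irreducible K τ hinvτ
  obtain ⟨Δ, ω, hΔg, hω, hT, hΔn, hΔs⟩ := h.exists_delta τ hvan
  let H := C.comap (Cover.proj K τ)
  let : Fintype H := Fintype.ofFinite H
  let Q := Cover.grp K τ ⧸ (Cover.incl K τ).range
  let : Fintype Q := Fintype.ofFinite Q
  let : Fintype (Cover.grp K τ) := Fintype.ofFinite _
  let T := (Cover.rep K τ).character
  have hTirr : IsIrrCharacter (Cover.grp K τ) T := isIrrCharacter_character _
  let π : H →* C := (Cover.proj K τ).subgroupComap C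
  have hπ : Function.Surjective π :=
    MonoidHom.subgroupComap_surjective_of_surjective _ _ (Cover.proj_surjective K τ hinvτ)
  have hπval : ∀ x : H, ((π x : C) : G) = Cover.proj K τ x := fun x => rfl
  let qh : H →* Q := (QuotientGroup.mk' (Cover.incl K τ).range).comp H.subtype
  have hqh : Function.Surjective qh := by
    intro q
    obtain ⟨y, rfl⟩ := QuotientGroup.mk_surjective q
    obtain ⟨k, hk, c, hc, hkc⟩ := Subgroup.mem_sup_of_normal_left.1
      (h.sup.symm ▸ Subgroup.mem_top (Cover.proj K τ y) : Cover.proj K τ y ∈ K ⊔ C)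
    refine ⟨⟨(Cover.incl K τ ⟨k, hk⟩)⁻¹ * y, ?_⟩, ?_⟩
    · rw [Subgroup.mem_comap, map_mul, map_inv, Cover.proj_incl, ← hkc, inv_mul_cancel_left]
      exact hc
    · change QuotientGroup.mk' _ ((Cover.incl K τ ⟨k, hk⟩)⁻¹ * y) = QuotientGroup.mk' _ y
      rw [map_mul, map_inv, show QuotientGroup.mk' (Cover.incl K τ).range (Cover.incl K τ ⟨k, hk⟩) = 1
        from (QuotientGroup.eq_one_iff _).2 ⟨_, rfl⟩, inv_one, one_mul]
  have hkerπ : ∀ k : H, π k = 1 → ∃ c : ℂ, Cover.rep K τ k = c • 1 := fun k hk =>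
    (Cover.exists_scalar_ker K τ (congrArg Subtype.val hk)).imp fun c hc => hc.1
  have hkerq : ∀ k : H, qh k = 1 → ∃ z : K, z ∈ Subgroup.center K ∧
      ((π k : C) : G) = (z : G) ∧ Cover.rep K τ k = lam z • 1 := by
    intro k hk
    obtain ⟨z, hz⟩ := ((QuotientGroup.eq_one_iff _).1 hk : (k : Cover.grp K τ) ∈ (Cover.incl K τ).range)
    have hzG : ((π k : C) : G) = (z : G) := by rw [hπval, ← hz, Cover.proj_incl]
    have hzc : z ∈ Subgroup.center K := h.cen z (hzG ▸ (π k).2)
    exact ⟨z, hzc, hzG, by rw [← hz, Cover.rep_incl, hscal z hzc]⟩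
  have hscalar : ∀ (x k : H) (c : ℂ), Cover.rep K τ k = c • 1 →
      T ((x * k : H) : Cover.grp K τ) = c * T x := fun x k c hk => by
    simp only [T, Representation.character, Subgroup.coe_mul, map_mul, hk, mul_smul_comm, mul_one,
      map_smul, smul_eq_mul]
  -- the signed partner of a factor
  have hhat : ∀ ξ : IrrCharacter Q, ∃ (ψ : IrrCharacter H) (ε : ℤ), (ε = 1 ∨ ε = -1) ∧
      ((fun x : H => Δ x * (ξ : Q → ℂ) (qh x)) = fun x : H => (ε : ℂ) * (ψ : H → ℂ) x) ∧
      ∀ φ : IrrCharacter H, OddMult (fun x : H => T x * (ξ : Q → ℂ) (qh x)) (φ : H → ℂ) ↔ φ = ψ := by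
    intro ξ
    have hξc : IsCharacter H (fun x => (ξ : Q → ℂ) (qh x)) :=
      IsCharacter.comp (IsIrrCharacter.isCharacter ξ.2) qh
    have hgen : IsGeneralizedCharacter H (fun x : H => Δ x * (ξ : Q → ℂ) (qh x)) :=
      IsGeneralizedCharacter.mul hΔg (IsCharacter.isGeneralizedCharacter hξc)
    have hnorm : Cfsg.classInner (fun x : H => Δ x * (ξ : Q → ℂ) (qh x))
        (fun x : H => Δ x * (ξ : Q → ℂ) (qh x)) = 1 := by
      rw [← classInner_irr_self ξ.2, ← CharTools.classInner_comp_surjective qh hqh (ξ : Q → ℂ) ξ]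
      simp only [Cfsg.classInner, map_mul]
      congr 1
      refine Finset.sum_congr rfl fun x _ => ?_
      linear_combination ((ξ : Q → ℂ) (qh x) * conj ((ξ : Q → ℂ) (qh x))) * hΔn x
    obtain ⟨ψ, ε, hε, hψ⟩ := exists_sign_irr hgen hnorm
    refine ⟨ψ, ε, hε, hψ, fun φ => ?_⟩
    have e : (fun x : H => T x * (ξ : Q → ℂ) (qh x)) =
        (2 : ℂ) • (fun x : H => ω x * (ξ : Q → ℂ) (qh x)) - (ε : ℂ) • (ψ : H → ℂ) := by
      funext x
      have h1 : Δ x * (ξ : Q → ℂ) (qh x) = (ε : ℂ) * (ψ : H → ℂ) x := congrFun hψ x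
      simp only [Pi.sub_apply, Pi.smul_apply, smul_eq_mul, T, hT, ← h1]
      ring
    obtain ⟨k, hk⟩ : ∃ k : ℕ,
        Cfsg.classInner (fun x : H => ω x * (ξ : Q → ℂ) (qh x)) (φ : H → ℂ) = (k : ℂ) :=
      IsCharacter.exists_nat_classInner (IsCharacter.mul hω hξc) φ.2
    have hval : Cfsg.classInner (fun x : H => T x * (ξ : Q → ℂ) (qh x)) (φ : H → ℂ) =
        ((2 * (k : ℤ) - ε * (if φ = ψ then 1 else 0) : ℤ) : ℂ) := by
      rw [e, classInner_sub_left, classInner_smul_left, classInner_smul_left, hk,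
        classInner_irrCharacter]
      simp only [eq_comm]
      push_cast
      ring
    constructor
    · rintro ⟨m, hm, hodd⟩
      by_contra hne
      rw [hval, if_neg hne] at hm
      have h1 : (2 * (k : ℤ) - ε * 0) = (m : ℤ) := by exact_mod_cast hm
      obtain ⟨j, hj⟩ := hodd
      omega
    · rintro rfl
      obtain ⟨m, hm⟩ : ∃ m : ℕ,
          Cfsg.classInner (fun x : H => T x * (ξ : Q → ℂ) (qh x)) (φ : H → ℂ) = (m : ℂ) :=
        IsCharacter.exists_nat_classInner
          (IsCharacter.mul (IsCharacter.restrict (IsIrrCharacter.isCharacter hTirr) H) hξc) φ.2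
      refine ⟨m, hm, ?_⟩
      rw [hval, if_pos rfl] at hm
      have h1 : (2 * (k : ℤ) - ε * 1) = (m : ℤ) := by exact_mod_cast hm
      rw [Nat.odd_iff]
      rcases hε with rfl | rfl <;> omega
  have hfac : ∀ χ : IrrCharacter G, Above K lam χ → ∃ ξ : IrrCharacter Q,
      (∀ x : Cover.grp K τ, (χ : G → ℂ) (Cover.proj K τ x) = T x * (ξ : Q → ℂ) x) ∧
      ∀ ψ : IrrCharacter C, OddMult (fun c : C => (χ : G → ℂ) c) (ψ : C → ℂ) ↔
        OddMult (fun x : H => T x * (ξ : Q → ℂ) (qh x)) (fun x : H => (ψ : C → ℂ) (π x)) := by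
    intro χ hχ
    obtain ⟨e, he⟩ := hres χ χ.2 hχ
    obtain ⟨ξ, hξ, hx⟩ := Ramified.exists_quotient_char K τ hinvτ χ.2 he
    refine ⟨⟨ξ, hξ⟩, hx, fun ψ => ?_⟩
    rw [← oddMult_comp π hπ]
    refine Eq.to_iff (congrArg (fun a => OddMult a (fun x : H => (ψ : C → ℂ) (π x))) ?_)
    funext x
    exact hx x
  refine ⟨fun χ hχ => ?_, fun χ χ' hχ hχ' ψ h1 h2 => ?_, fun ψ hψ => ?_⟩
  · obtain ⟨ξ, hx, hiff⟩ := hfac χ hχ
    obtain ⟨ψh, ε, hε, -, hodd⟩ := hhat ξ
    obtain ⟨η, hη, -⟩ := constituent_comp π hπ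
      (IsCharacter.restrict (IsIrrCharacter.isCharacter χ.2) C) ψh.2 (by
        convert ((hodd ψh).2 rfl).ne_zero using 2
        funext x
        exact hx x)
    refine ⟨η, ?_, fun η' hη' => ?_⟩
    · refine (hiff η).2 ?_
      rw [← hη]
      exact (hodd ψh).2 rfl
    · have h1 := (hiff η').1 hη'
      have h2 : (⟨_, CharTools.isIrrCharacter_comp π hπ η'.2⟩ : IrrCharacter H) = ψh :=
        (hodd _).1 h1
      refine Subtype.ext (funext fun c => ?_)
      obtain ⟨x, rfl⟩ := hπ c
      rw [← congrFun hη x, ← h2]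
  · obtain ⟨ξ, hx, hiff⟩ := hfac χ hχ
    obtain ⟨ξ', hx', hiff'⟩ := hfac χ' hχ'
    obtain ⟨ψh, ε, hε, hψh, hodd⟩ := hhat ξ
    obtain ⟨ψh', ε', hε', hψh', hodd'⟩ := hhat ξ'
    have e1 := (hodd ⟨_, CharTools.isIrrCharacter_comp π hπ ψ.2⟩).1 ((hiff ψ).1 h1)
    have e2 := (hodd' ⟨_, CharTools.isIrrCharacter_comp π hπ ψ.2⟩).1 ((hiff' ψ).1 h2)
    subst e1
    subst e2
    have hprop : ∀ q, (ξ : Q → ℂ) q = (ε : ℂ) * ε' * (ξ' : Q → ℂ) q := by
      intro q
      obtain ⟨x, rfl⟩ := hqh q
      have a1 := congrFun hψh x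
      have a2 := congrFun hψh' x
      refine mul_left_cancel₀ (a := Δ x) (fun h0 => ?_) ?_
      · have := hΔn x
        rw [h0, zero_mul] at this
        exact zero_ne_one this
      · have hεε : (ε' : ℂ) * ε' = 1 := by rcases hε' with rfl | rfl <;> simp
        simp only at a1 a2
        linear_combination a1 - (ε : ℂ) * ε' * a2 - (ε : ℂ) * (ψ : C → ℂ) (π x) * hεε
    have hne : Cfsg.classInner (ξ : Q → ℂ) (ξ' : Q → ℂ) ≠ 0 := by
      rw [show (ξ : Q → ℂ) = ((ε : ℂ) * ε') • (ξ' : Q → ℂ) from funext hprop,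
        classInner_smul_left, classInner_irr_self ξ'.2, mul_one]
      rcases hε with rfl | rfl <;> rcases hε' with rfl | rfl <;> simp
    have heq : (ξ : Q → ℂ) = ξ' := eq_of_classInner_ne_zero ξ.2 ξ'.2 hne
    refine Subtype.ext (funext fun g => ?_)
    obtain ⟨x, rfl⟩ := Cover.proj_surjective K τ hinvτ g
    rw [hx, hx', heq]
  · let φ : H → ℂ := fun x => (ψ : C → ℂ) (π x)
    have hφ : IsIrrCharacter H φ := CharTools.isIrrCharacter_comp π hπ ψ.2
    let a : H → ℂ := fun x => conj (Δ x) * φ x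
    have hag : IsGeneralizedCharacter H a := by
      have e : a = ((fun x : H => conj (ω x)) + (fun x : H => conj (ω x)) -
          fun x : H => conj (T x)) * φ := by
        funext x
        simp only [a, Pi.mul_apply, Pi.sub_apply, Pi.add_apply, T, hT, map_sub, map_mul, map_ofNat]
        ring
      rw [e]
      refine IsGeneralizedCharacter.mul (IsGeneralizedCharacter.sub (IsGeneralizedCharacter.add
        ?_ ?_) ?_) (IsIrrCharacter.isGeneralizedCharacter hφ)
      · exact IsCharacter.isGeneralizedCharacter (IsCharacter.conj_apply' hω)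
      · exact IsCharacter.isGeneralizedCharacter (IsCharacter.conj_apply' hω)
      · exact IsCharacter.isGeneralizedCharacter
          (IsCharacter.conj_apply' (IsCharacter.restrict (IsIrrCharacter.isCharacter hTirr) H))
    have hnorm : Cfsg.classInner a a = 1 := by
      rw [← classInner_irr_self hφ]
      simp only [Cfsg.classInner, a, map_mul, Complex.conj_conj]
      congr 1
      refine Finset.sum_congr rfl fun x _ => ?_
      linear_combination (φ x * conj (φ x)) * hΔn x
    obtain ⟨ξh, ε, hε, hξh⟩ := exists_sign_irr hag hnorm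
    have hεε : (ε : ℂ) * ε = 1 := by rcases hε with rfl | rfl <;> simp
    have hξa : ∀ x, (ξh : H → ℂ) x = (ε : ℂ) * (conj (Δ x) * φ x) := fun x => by
      have h1 := congrFun hξh x
      simp only [a] at h1
      rw [h1, ← mul_assoc, hεε, one_mul]
    have hnormscal : ∀ (k : H) (c : ℂ), Cover.rep K τ k = c • 1 → c * conj c = 1 := fun k c hk => by
      have h1 := hΔn ((1 : H) * k)
      rw [hΔs 1 k c hk, map_mul] at h1
      linear_combination h1 - (c * conj c) * hΔn 1
    obtain ⟨ξ, hξ⟩ := exists_below qh hqh ξh.2 fun k hk => by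
      obtain ⟨z, hz, hzG, hrep⟩ := hkerq k hk
      rw [hξa, hξa]
      congr 1
      have h1 : Δ k = lam z * Δ 1 := by rw [← hΔs 1 k _ hrep, one_mul]
      have h2 : φ k = φ 1 * lam z := by
        change (ψ : C → ℂ) (π k) = (ψ : C → ℂ) (π 1) * lam z
        rw [map_one]
        exact hψ _ z hz hzG
      rw [h1, h2, map_mul]
      linear_combination (conj (Δ 1) * φ 1) * hnormscal k _ hrep
    let m : Cover.grp K τ → ℂ := fun y => T y * (ξ : Q → ℂ) (y : Q)
    have hmirr : IsIrrCharacter (Cover.grp K τ) m := by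
      refine IsCharacter.isIrrCharacter_of_classInner_self
        (IsCharacter.mul (IsIrrCharacter.isCharacter hTirr) (IsCharacter.comp
          (IsIrrCharacter.isCharacter ξ.2) (QuotientGroup.mk' (Cover.incl K τ).range))) ?_
      refine (Ramified.isometry K τ (MonoidHom.id _) (Cover.incl K τ) (fun n => rfl)
        (fun y => (ξ : Q → ℂ) (y : Q)) (fun y => (ξ : Q → ℂ) (y : Q))
        (fun y n => congrArg (ξ : Q → ℂ) (Ramified.incl_range_mul K τ y n))
        (fun y n => congrArg (ξ : Q → ℂ) (Ramified.incl_range_mul K τ y n))).trans ?_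
      exact (CharTools.classInner_comp_surjective (QuotientGroup.mk' (Cover.incl K τ).range)
        (QuotientGroup.mk'_surjective _) (ξ : Q → ℂ) ξ).trans (classInner_irr_self ξ.2)
    obtain ⟨χ, hχ⟩ := exists_below (Cover.proj K τ) (Cover.proj_surjective K τ hinvτ) hmirr
      fun k hk => by
        have hkH : k ∈ H := by rw [Subgroup.mem_comap, hk]; exact one_mem C
        obtain ⟨c, hc⟩ := hkerπ ⟨k, hkH⟩ (Subtype.ext hk)
        change T k * (ξ : Q → ℂ) (qh ⟨k, hkH⟩) = T ((1 : H) : Cover.grp K τ) * (ξ : Q → ℂ) (qh 1)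
        have h3 : T k = c * T ((1 : H) : Cover.grp K τ) := by
          rw [← hscalar 1 ⟨k, hkH⟩ c hc, one_mul]
        have h4 : φ ⟨k, hkH⟩ = φ 1 := congrArg (ψ : C → ℂ) ((Subtype.ext hk).trans (map_one π).symm)
        have h5 : Δ ⟨k, hkH⟩ = c * Δ 1 := by rw [← hΔs 1 ⟨k, hkH⟩ c hc, one_mul]
        rw [hξ, hξ, hξa, hξa, h3, h4, h5, map_mul]
        linear_combination ((ε : ℂ) * T ((1 : H) : Cover.grp K τ) * conj (Δ 1) * φ 1) *
          hnormscal ⟨k, hkH⟩ c hc
    have habove : Above K lam χ := fun z hz => by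
      have h1 := hχ (Cover.incl K τ z)
      have h2 := hχ 1
      rw [Cover.proj_incl] at h1
      rw [map_one] at h2
      rw [h1, h2]
      simp only [m, T]
      rw [show ((Cover.incl K τ z : Cover.grp K τ) : Q) = ((1 : Cover.grp K τ) : Q) from
        (QuotientGroup.eq_one_iff _).2 ⟨z, rfl⟩]
      simp only [Representation.character, Cover.rep_incl, hscal z hz, map_smul, map_one, smul_eq_mul]
      ring
    refine ⟨χ, habove, (oddMult_comp π hπ _ _).1 ?_⟩
    obtain ⟨ψh, ε', hε', hψh, hodd⟩ := hhat ξ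
    have hprop : (ψh : H → ℂ) = ((ε : ℂ) * ε') • φ := by
      funext x
      have h1 := congrFun hψh x
      simp only [hξ, hξa] at h1
      rw [Pi.smul_apply, smul_eq_mul]
      have h2 : (ε' : ℂ) * ε' = 1 := by rcases hε' with rfl | rfl <;> simp
      linear_combination (-(ε' : ℂ)) * h1 - (ψh : H → ℂ) x * h2 +
        ((ε : ℂ) * ε' * φ x) * hΔn x
    have heq : φ = (ψh : H → ℂ) := (eq_of_classInner_ne_zero ψh.2 hφ (by
      rw [hprop, classInner_smul_left, classInner_irr_self hφ, mul_one]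
      rcases hε with rfl | rfl <;> rcases hε' with rfl | rfl <;> simp)).symm
    change OddMult (fun x : H => (χ : G → ℂ) ((π x : C) : G)) φ
    rw [show (fun x : H => (χ : G → ℂ) ((π x : C) : G)) = fun x : H => T x * (ξ : Q → ℂ) (qh x) from
      funext fun x => hχ (x : Cover.grp K τ), heq]
    exact (hodd ψh).2 rfl

omit [Fintype K] τ [τ.IsIrreducible] in
/-- The parity correspondence of a fully ramified section. -/
theorem Ram.parity (h : Ram K C σ) (hlam : ∀ z ∈ Subgroup.center K, lam z = 1 → z = 1) :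
    Corresp K C lam := by
  classical
  let : Fintype K := Fintype.ofFinite K
  have main : ∀ χ₀ : G → ℂ, IsIrrCharacter G χ₀ → Above K lam χ₀ → Corresp K C lam := fun χ₀ hχ₀ ha₀ => by
    obtain ⟨t, τ, hτ, hvan, hscal, hinvτ, hres⟩ := h.exists_tau hlam hχ₀ ha₀
    exact h.parity_of_tau τ hvan hscal hinvτ hres
  refine ⟨fun χ hχ => (main χ χ.2 hχ).1 χ hχ,
    fun χ χ' hχ hχ' => (main χ χ.2 hχ).2.1 χ χ' hχ hχ', fun ψ hψ => ?_⟩
  obtain ⟨χ₀, hχ₀, hne⟩ := Clifford.exists_constituent
    (IsCharacter.indFun C (IsIrrCharacter.isCharacter ψ.2)) (by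
      rw [indFun_apply_one]
      exact mul_ne_zero (Nat.cast_ne_zero.2 Subgroup.index_ne_zero_of_finite)
        (IsIrrCharacter.apply_one_ne_zero ψ.2))
  refine (main χ₀ hχ₀ fun z hz => ?_).2.2 ψ hψ
  rw [classInner_indFun C (ψ : C → ℂ) χ₀ (IsIrrCharacter.isClassFunction hχ₀)] at hne
  obtain ⟨hzC, hzG⟩ := h.inC z hz
  let zc : C := ⟨z, hzC⟩
  have hzc : zc ∈ Subgroup.center C :=
    Subgroup.mem_center_iff.2 fun y => Subtype.ext (Subgroup.mem_center_iff.1 hzG y)
  have hψ1 := IsIrrCharacter.apply_one_ne_zero ψ.2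
  have hψz : ∀ x : C, (ψ : C → ℂ) (x * zc) = lam z * (ψ : C → ℂ) x := fun x => by
    have h1 := CharOver.apply_mul_central ψ.2 hzc x
    rw [hψ zc z hz rfl] at h1
    exact mul_right_cancel₀ hψ1 (by rw [h1]; ring)
  have hχz : ∀ g : G, χ₀ (g * z) = χ₀ z / χ₀ 1 * χ₀ g := fun g => by
    rw [div_mul_eq_mul_div, eq_div_iff (IsIrrCharacter.apply_one_ne_zero hχ₀),
      CharOver.apply_mul_central hχ₀ hzG g, mul_comm]
  have h1 := scalar_mul_conj_eq_one hψz (fun x : C => hχz x) hne
  have h2 := scalar_mul_conj_eq_one hψz hψz (by rw [classInner_irr_self ψ.2]; exact one_ne_zero)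
  have he : χ₀ (z : G) / χ₀ 1 = lam z := by
    have h3 := congrArg (starRingEnd ℂ) h1
    have h4 := congrArg (starRingEnd ℂ) h2
    simp only [map_mul, Complex.conj_conj, map_one] at h3 h4
    linear_combination lam z * h3 - (χ₀ (z : G) / χ₀ 1) * h2
  rw [← he, mul_div_cancel₀ _ (IsIrrCharacter.apply_one_ne_zero hχ₀)]

end CfsgLib.KGV.Parity
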