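import Cfsg.Agent.Lib.KGV.RamifiedCover
import Cfsg.Agent.Lib.KGV.CosetFix
import Cfsg.Agent.Lib.Solvable.Core
import Cfsg.Agent.Lib.Char.CentralOver

/-!
# The `p`-part of a primitive degree of a solvable group divides a class size

The induction carries a module for a `p`-group so that the symplectic layers at `p` can be collected.
-/

set_option autoImplicit false

namespace CfsgLib.KGV.PPart

open Cfsg CfsgLib.Char CfsgLib.CharDeep CfsgLib.KGV.CosetFix CfsgLib.KGV.Ramified
open scoped ComplexConjugate commutatorElement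

universe u v

variable (p : ℕ)

/-- Fixed points of a normal subgroup are fixed by every normal `p`-overgroup. -/
def Good {G : Type u} [Group G] {W : Type v} [Group W] (φ : G →* MulAut W) : Prop :=
  ∀ M K : Subgroup G, M.Normal → K.Normal → M ≤ K → (∀ x ∈ K, ∃ j : ℕ, x ^ p ^ j ∈ M) →
    ∀ w, (∀ m ∈ M, φ m w = w) → ∀ k ∈ K, φ k w = w

/-- No nontrivial fixed vectors. -/
def NoFix {G : Type u} [Group G] {W : Type v} [Group W] (φ : G →* MulAut W) : Prop :=
  ∀ w, (∀ g, φ g w = w) → w = 1

section Actions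

variable {p} {G : Type u} [Group G] {W : Type v} [Group W] {φ : G →* MulAut W}

theorem Good.comp_surjective {Δ : Type u} [Group Δ] {f : Δ →* G} (hf : Function.Surjective f)
    (h : Good p φ) : Good p (φ.comp f) := by
  intro M K hM hK hMK hpow w hw k hk
  refine h (M.map f) (K.map f) (hM.map f hf) (hK.map f hf) (Subgroup.map_mono hMK) ?_ w ?_ (f k)
    (Subgroup.mem_map_of_mem f hk)
  · rintro _ ⟨x, hx, rfl⟩
    obtain ⟨j, hj⟩ := hpow x hx
    exact ⟨j, by rw [← map_pow]; exact Subgroup.mem_map_of_mem f hj⟩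
  · rintro _ ⟨m, hm, rfl⟩
    exact hw m hm

theorem Good.of_comp_surjective {Δ : Type u} [Group Δ] {f : Δ →* G} (hf : Function.Surjective f)
    (h : Good p (φ.comp f)) : Good p φ := by
  intro M K hM hK hMK hpow w hw k hk
  obtain ⟨x, rfl⟩ := hf k
  exact h (M.comap f) (K.comap f) (hM.comap f) (hK.comap f) (Subgroup.comap_mono hMK)
    (fun y hy => by
      obtain ⟨j, hj⟩ := hpow (f y) hy
      exact ⟨j, by rw [Subgroup.mem_comap, map_pow]; exact hj⟩) w (fun m hm => hw (f m) hm) x hk

theorem NoFix.of_comp {Δ : Type u} [Group Δ] {f : Δ →* G} (h : NoFix (φ.comp f)) : NoFix φ :=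
  fun w hw => h w fun x => hw (f x)

theorem NoFix.comp_surjective {Δ : Type u} [Group Δ] {f : Δ →* G} (hf : Function.Surjective f)
    (h : NoFix φ) : NoFix (φ.comp f) := fun w hw => h w fun g => by
  obtain ⟨x, rfl⟩ := hf g
  exact hw x

theorem Good.trivial_of_pgroup (h : Good p φ) (A : Subgroup G) [A.Normal] (hA : IsPGroup p A) :
    A ≤ φ.ker := fun a ha => by
  rw [MonoidHom.mem_ker]
  refine MulEquiv.ext fun w => h ⊥ A inferInstance inferInstance bot_le (fun x hx => ?_) w
    (fun m hm => by rw [Subgroup.mem_bot.1 hm, map_one]; rfl) a ha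
  obtain ⟨j, hj⟩ := hA ⟨x, hx⟩
  exact ⟨j, Subgroup.mem_bot.2 (congrArg Subtype.val hj)⟩

variable (φ) in
/-- The fixed points of a subgroup. -/
def fixed (A : Subgroup G) : Subgroup W where
  carrier := {w | ∀ a ∈ A, φ a w = w}
  one_mem' := fun a _ => map_one _
  mul_mem' := fun h1 h2 a ha => by rw [map_mul, h1 a ha, h2 a ha]
  inv_mem' := fun h1 a ha => by rw [map_inv, h1 a ha]

variable (A : Subgroup G) [hA : A.Normal]

theorem fixed_invariant (g : G) {w : W} (hw : w ∈ fixed φ A) : φ g w ∈ fixed φ A := fun a ha => by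
  have h := hw (g⁻¹ * a * g) (by simpa using hA.conj_mem a ha g⁻¹)
  conv_rhs => rw [← h]
  rw [← MulAut.mul_apply, ← MulAut.mul_apply, ← map_mul, ← map_mul]
  congr 2
  group

variable (φ) in
/-- The action on the fixed points of a normal subgroup. -/
def resFixed : G →* MulAut (fixed φ A) where
  toFun g :=
    { toFun := fun w => ⟨φ g w, fixed_invariant A g w.2⟩
      invFun := fun w => ⟨φ g⁻¹ w, fixed_invariant A g⁻¹ w.2⟩
      left_inv := fun w => Subtype.ext (by simp)
      right_inv := fun w => Subtype.ext (by simp)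
      map_mul' := fun x y => Subtype.ext (by simp) }
  map_one' := MulEquiv.ext fun w => Subtype.ext (by simp)
  map_mul' a b := MulEquiv.ext fun w => Subtype.ext (by simp)

theorem resFixed_coe (g : G) (w : fixed φ A) : ((resFixed φ A g w : fixed φ A) : W) = φ g w := rfl

theorem le_ker_resFixed : A ≤ (resFixed φ A).ker := fun a ha => by
  rw [MonoidHom.mem_ker]
  exact MulEquiv.ext fun w => Subtype.ext (w.2 a ha)

theorem Good.resFixed (h : Good p φ) : Good p (PPart.resFixed φ A) :=
  fun M K hM hK hMK hpow w hw k hk => Subtype.ext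
    (h M K hM hK hMK hpow w (fun m hm => congrArg Subtype.val (hw m hm)) k hk)

theorem NoFix.resFixed (h : NoFix φ) : NoFix (PPart.resFixed φ A) :=
  fun w hw => Subtype.ext (h w fun g => congrArg Subtype.val (hw g))

theorem fix_resFixed (g : G) :
    fix (resFixed φ A g) = Nat.card {v : W // v ∈ fixed φ A ∧ φ g v = v} :=
  Nat.card_congr
    { toFun := fun v => ⟨(v.1 : W), v.1.2, congrArg Subtype.val v.2⟩
      invFun := fun v => ⟨⟨v.1, v.2.1⟩, Subtype.ext v.2.2⟩
      left_inv := fun _ => rfl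
      right_inv := fun _ => rfl }

/-- The product of two actions. -/
def prodAct {V : Type v} [Group V] (φ : G →* MulAut W) (ψ : G →* MulAut V) :
    G →* MulAut (W × V) where
  toFun g := MulEquiv.prodCongr (φ g) (ψ g)
  map_one' := MulEquiv.ext fun x =>
    Prod.ext (DFunLike.congr_fun (map_one φ) x.1) (DFunLike.congr_fun (map_one ψ) x.2)
  map_mul' a b := MulEquiv.ext fun x =>
    Prod.ext (DFunLike.congr_fun (map_mul φ a b) x.1) (DFunLike.congr_fun (map_mul ψ a b) x.2)

theorem fix_prodAct {V : Type v} [Group V] (φ : G →* MulAut W) (ψ : G →* MulAut V) (g : G) :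
    fix (prodAct φ ψ g) = fix (φ g) * fix (ψ g) := by
  rw [fix, fix, fix, ← Nat.card_prod]
  exact Nat.card_congr
    { toFun := fun v => (⟨v.1.1, congrArg Prod.fst v.2⟩, ⟨v.1.2, congrArg Prod.snd v.2⟩)
      invFun := fun v => ⟨(v.1.1, v.2.1), Prod.ext v.1.2 v.2.2⟩
      left_inv := fun _ => rfl
      right_inv := fun _ => rfl }

/-- The action on a normal subgroup modulo its centre. -/
def quotAct (N : Subgroup G) [N.Normal] : G →* MulAut (N ⧸ Subgroup.center N) where
  toFun g := QuotientGroup.congr _ _ (MulAut.conjNormal (H := N) g)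
    (Subgroup.characteristic_iff_map_eq.1 inferInstance _)
  map_one' := MulEquiv.ext fun x => by
    induction x using QuotientGroup.induction_on with | H z => simp
  map_mul' a b := MulEquiv.ext fun x => by
    induction x using QuotientGroup.induction_on with
    | H z => exact congrArg QuotientGroup.mk (DFunLike.congr_fun (map_mul MulAut.conjNormal a b) z)

end Actions

/-- The statement carried by the induction. -/
def Holds (G : Type u) [Group G] (χ : G → ℂ) : Prop :=
  ∀ (W : Type u) [CommGroup W] [Finite W], IsPGroup p W → ∀ φ : G →* MulAut W, Good p φ → NoFix φ →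
    ∃ g : G, (p ^ (degree χ).factorization p) ^ 2 * fix (φ g) ^ 2 ≤
      Nat.card W * (p ^ (Subgroup.centralizer ({g} : Set G)).index.factorization p) ^ 2

/-- All characters of one degree. -/
def Ind (d : ℕ) : Prop :=
  ∀ (G : Type u) [Group G] [Fintype G], Group.IsSolvable G → ∀ χ : G → ℂ, IsIrrCharacter G χ →
    Homogeneous χ → degree χ = d → Holds p G χ

/-- Homogeneity descends along surjections. -/
theorem homogeneous_of_surjective {G : Type u} [Group G] [Finite G] {Q : Type u} [Group Q] [Finite Q]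
    (π : G →* Q) (hπ : Function.Surjective π) {η : Q → ℂ} (hη : IsIrrCharacter Q η)
    (hhom : Homogeneous (η ∘ π)) : Homogeneous η := by
  intro N' hN'
  obtain ⟨θ, e, hθ, he⟩ := hhom (N'.comap π) (hN'.comap π)
  have he0 : (e : ℂ) ≠ 0 := fun h0 => by
    have h := congrFun he 1
    rw [h0, zero_smul, Pi.zero_apply] at h
    simp only [Function.comp_apply, Subgroup.coe_one, map_one] at h
    exact IsIrrCharacter.apply_one_ne_zero hη h
  let f : N'.comap π →* N' := (π.comp (N'.comap π).subtype).codRestrict N' fun x => x.2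
  have hf : Function.Surjective f := fun y => by
    obtain ⟨g, hg⟩ := hπ (y : Q)
    exact ⟨⟨g, by rw [Subgroup.mem_comap, hg]; exact y.2⟩, Subtype.ext hg⟩
  have hθf : ∀ x y, f x = f y → θ x = θ y := fun x y h => by
    refine mul_left_cancel₀ he0 ?_
    have h1 := congrFun he x
    have h2 := congrFun he y
    simp only [Pi.smul_apply, smul_eq_mul, Function.comp_apply] at h1 h2
    rw [← h1, ← h2, show π (x : G) = π (y : G) from congrArg Subtype.val h]
  obtain ⟨ζ, hζ, hζθ⟩ := CharTwist.exists_irr_quotient hθ f.ker fun n hn =>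
    hθf n 1 ((MonoidHom.mem_ker.1 hn).trans f.map_one.symm)
  let ε := QuotientGroup.quotientKerEquivOfSurjective f hf
  refine ⟨ζ ∘ ε.symm, e, CharTwist.isIrrCharacter_comp_equiv hζ _, funext fun y => ?_⟩
  obtain ⟨x, rfl⟩ := hf y
  have h1 := congrFun he x
  rw [hζθ] at h1
  simp only [Pi.smul_apply, smul_eq_mul, Function.comp_apply] at h1 ⊢
  rw [show ε.symm (f x) = (x : N'.comap π ⧸ f.ker) from ε.symm_apply_eq.2 rfl]
  exact h1

variable {p} [hp : Fact p.Prime]

theorem coprime_of_pgroup {W : Type v} [Group W] [Finite W] (hW : IsPGroup p W) {n : ℕ}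
    (hn : ¬ p ∣ n) : (Nat.card W).Coprime n := by
  obtain ⟨k, hk⟩ := IsPGroup.iff_card.mp hW
  rw [hk]
  exact Nat.Coprime.pow_left k (hp.out.coprime_iff_not_dvd.2 hn)

/-- The abelian case. -/
theorem holds_of_comm {G : Type u} [Group G] [Fintype G] (hab : ∀ a b : G, a * b = b * a) {χ : G → ℂ}
    (hχ : IsIrrCharacter G χ) : Holds p G χ := by
  intro W _ _ hW φ hgood hnofix
  classical
  set a := (Nat.card G).factorization p
  set m := Nat.card G / p ^ a with hm
  have hmul : p ^ a * m = Nat.card G := Nat.ordProj_mul_ordCompl_eq_self _ _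
  have hpm : ¬ p ∣ m := Nat.not_dvd_ordCompl hp.out Nat.card_pos.ne'
  let A : Subgroup G :=
    { carrier := {y | y ^ m = 1}
      one_mem' := one_pow _
      mul_mem' := fun {x y} (hx : x ^ m = 1) (hy : y ^ m = 1) => by
        change (x * y) ^ m = 1
        rw [(show Commute x y from hab x y).mul_pow, hx, hy, one_mul]
      inv_mem' := fun {x} (hx : x ^ m = 1) => by
        change x⁻¹ ^ m = 1
        rw [inv_pow, hx, inv_one] }
  have hAn : A.Normal := ⟨fun x hx g => by rwa [hab g x, mul_inv_cancel_right]⟩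
  have hAp : ¬ p ∣ Nat.card A := fun h => by
    obtain ⟨y, hy⟩ := exists_prime_orderOf_dvd_card' (G := A) p h
    exact hpm (hy ▸ orderOf_dvd_of_pow_eq_one (Subtype.ext y.2 : y ^ m = 1))
  have hW0 : fixed φ A = ⊥ := by
    rw [eq_bot_iff]
    intro w hw
    refine Subgroup.mem_bot.2 (hnofix w fun g => ?_)
    exact hgood A ⊤ hAn inferInstance le_top (fun x _ => ⟨a, by
      change (x ^ p ^ a) ^ m = 1
      rw [← pow_mul, hmul, pow_card_eq_one']⟩) w hw g (Subgroup.mem_top g)
  obtain ⟨b, -, hb⟩ := exists_coset_fix φ A (fun x _ y _ => by rw [← map_mul, ← map_mul, hab])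
    (coprime_of_pgroup hW hAp) 1 (fixed φ A) fun v => Iff.rfl
  rw [hW0, Subgroup.card_bot, mul_one] at hb
  have h1 : Nat.card {v : W // v ∈ (⊥ : Subgroup W) ∧ φ 1 v = v} = 1 := by
    rw [Nat.card_eq_one_iff_unique]
    exact ⟨⟨fun x y => Subtype.ext ((Subgroup.mem_bot.1 x.2.1).trans (Subgroup.mem_bot.1 y.2.1).symm)⟩,
      ⟨⟨1, one_mem _, map_one _⟩⟩⟩
  rw [h1, one_pow, mul_one] at hb
  refine ⟨1 * b, ?_⟩
  have hd : degree χ = 1 := by simp [degree, (CharOver.abelian_irr hab hχ).1]
  rw [hd, Nat.factorization_one, Finsupp.zero_apply, pow_zero, one_pow, one_mul]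
  exact hb.trans (Nat.le_mul_of_pos_right _ (pow_pos (pow_pos hp.out.pos _) 2))

/-- The case of a nontrivial kernel. -/
theorem holds_of_kernel {G : Type u} [Group G] [Fintype G] (hsolv : Group.IsSolvable G) {d : ℕ}
    (ρ : Representation ℂ G (Fin d → ℂ)) [ρ.IsIrreducible] (hhom : Homogeneous ρ.character)
    (hker : MonoidHom.ker ρ ≠ ⊥)
    (ih : ∀ (Q : Type u) [Group Q] [Fintype Q], Nat.card Q < Nat.card G → Group.IsSolvable Q →
      ∀ η : Q → ℂ, IsIrrCharacter Q η → Homogeneous η → degree η = degree ρ.character → Holds p Q η) :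
    Holds p G ρ.character := by
  classical
  obtain ⟨A, hAn, hA1, hAle, hmin⟩ := Solvable.exists_minimal_normal_le (MonoidHom.ker ρ) hker
  have := hsolv
  obtain ⟨hAc, r, hr, hAr⟩ := Solvable.minimal_normal_elementary_abelian A hA1 hmin
  have hArp : IsPGroup r A := fun x => ⟨1, Subtype.ext (by simp [hAr _ x.2])⟩
  obtain ⟨η, hη, hηχ⟩ := CharTwist.exists_irr_quotient (Char.isIrrCharacter_character ρ) A
    fun n hn => by
      rw [Representation.char_one, Char.character_eq_degree_iff]
      exact hAle hn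
  let : Fintype (G ⧸ A) := Fintype.ofFinite _
  have hcard : Nat.card (G ⧸ A) < Nat.card G := by
    rw [A.card_eq_card_quotient_mul_card_subgroup]
    exact lt_mul_of_one_lt_right Nat.card_pos (Finite.one_lt_card_iff_nontrivial.2
      ((Subgroup.nontrivial_iff_ne_bot A).2 hA1))
  have hdeg : degree η = degree ρ.character := by
    simp only [degree]
    rw [congrFun hηχ 1]
    simp
  have hQ := ih (G ⧸ A) hcard inferInstance η hη
    (homogeneous_of_surjective _ (QuotientGroup.mk'_surjective A) hη (hηχ ▸ hhom)) hdeg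
  intro W _ _ hW φ hgood hnofix
  have hidx : ∀ g : G,
      p ^ (Subgroup.centralizer ({(g : G ⧸ A)} : Set (G ⧸ A))).index.factorization p ≤
        p ^ (Subgroup.centralizer ({g} : Set G)).index.factorization p := fun g =>
    Nat.pow_le_pow_right hp.out.pos ((Nat.factorization_le_iff_dvd Subgroup.index_ne_zero_of_finite
      Subgroup.index_ne_zero_of_finite).2 (index_centralizer_dvd (QuotientGroup.mk' A)
        (QuotientGroup.mk'_surjective A) g) p)
  by_cases hrp : r = p
  · subst hrp
    let ψ := QuotientGroup.lift A φ (hgood.trivial_of_pgroup A hArp)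
    have hψ : ψ.comp (QuotientGroup.mk' A) = φ := MonoidHom.ext fun g => rfl
    obtain ⟨x, hx⟩ := hQ W hW ψ (Good.of_comp_surjective (QuotientGroup.mk'_surjective A) (hψ ▸ hgood))
      (NoFix.of_comp (f := QuotientGroup.mk' A) (hψ ▸ hnofix))
    induction x using QuotientGroup.induction_on with | H g =>
    rw [hdeg] at hx
    exact ⟨g, hx.trans (Nat.mul_le_mul_left _ (Nat.pow_le_pow_left (hidx g) 2))⟩
  · let ψ := QuotientGroup.lift A (resFixed φ A) (le_ker_resFixed A)
    have hψ : ψ.comp (QuotientGroup.mk' A) = resFixed φ A := MonoidHom.ext fun g => rfl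
    obtain ⟨x, hx⟩ := hQ (fixed φ A) (hW.to_subgroup _) ψ
      (Good.of_comp_surjective (QuotientGroup.mk'_surjective A) (hψ ▸ hgood.resFixed A))
      (NoFix.of_comp (f := QuotientGroup.mk' A) (hψ ▸ hnofix.resFixed A))
    induction x using QuotientGroup.induction_on with | H g =>
    rw [hdeg, show ψ (g : G ⧸ A) = resFixed φ A g from rfl, fix_resFixed] at hx
    have := hAc
    obtain ⟨a, ha, hfa⟩ := exists_coset_fix φ A
      (fun x hx y hy => by rw [← map_mul, ← map_mul, setLike_mul_comm hx hy])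
      (coprime_of_pgroup hW fun h => by
        have : Fact r.Prime := ⟨hr⟩
        obtain ⟨k, hk⟩ := IsPGroup.iff_card.mp hArp
        exact hrp ((Nat.prime_dvd_prime_iff_eq hp.out hr).1 (hp.out.dvd_of_dvd_pow (hk ▸ h))).symm)
      g (fixed φ A) fun v => Iff.rfl
    have hga : ((g * a : G) : G ⧸ A) = g := QuotientGroup.mk_mul_of_mem g ha
    refine ⟨g * a, Nat.le_of_mul_le_mul_right ?_ (Nat.card_pos (α := fixed φ A))⟩
    have hi := hidx (g * a)
    rw [hga] at hi
    calc (p ^ (degree ρ.character).factorization p) ^ 2 * fix (φ (g * a)) ^ 2 * Nat.card (fixed φ A)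
        ≤ (p ^ (degree ρ.character).factorization p) ^ 2 *
            (Nat.card W * Nat.card {v : W // v ∈ fixed φ A ∧ φ g v = v} ^ 2) := by
          rw [mul_assoc]; exact Nat.mul_le_mul_left _ hfa
      _ = Nat.card W * ((p ^ (degree ρ.character).factorization p) ^ 2 *
            Nat.card {v : W // v ∈ fixed φ A ∧ φ g v = v} ^ 2) := by ring
      _ ≤ Nat.card W * (Nat.card (fixed φ A) *
            (p ^ (Subgroup.centralizer ({g * a} : Set G)).index.factorization p) ^ 2) :=
          Nat.mul_le_mul_left _ (hx.trans (Nat.mul_le_mul_left _ (Nat.pow_le_pow_left hi 2)))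
      _ = _ := by ring

/-- Fixed cosets modulo the centre. -/
theorem quotAct_fix_iff {G : Type u} [Group G] (N : Subgroup G) [hN : N.Normal]
    (hcen : ∀ z : N, z ∈ Subgroup.center N ↔ (z : G) ∈ Subgroup.center G) (g : G) (z : N) :
    quotAct N g (z : N ⧸ Subgroup.center N) = (z : N ⧸ Subgroup.center N) ↔
      ⁅g, (z : G)⁆ ∈ Subgroup.center G := by
  change ((MulAut.conjNormal (H := N) g z : N) : N ⧸ Subgroup.center N) = _ ↔ _
  rw [eq_comm, QuotientGroup.eq, hcen, Subgroup.coe_mul, Subgroup.coe_inv, MulAut.conjNormal_apply,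
    show (z : G)⁻¹ * (g * z * g⁻¹) = (z : G)⁻¹ * ⁅g, (z : G)⁆ * z by
      simp [commutatorElement_def, mul_assoc]]
  have hn : (Subgroup.center G).Normal := inferInstance
  exact ⟨fun h => by simpa [mul_assoc] using hn.conj_mem _ h (z : G),
    fun h => by simpa using hn.conj_mem _ h (z : G)⁻¹⟩

/-- Without abelian noncentral normal parts, the layer has no fixed vectors. -/
theorem noFix_quotAct {G : Type u} [Group G] [Finite G] (N : Subgroup G) [N.Normal]
    (hcen : ∀ z : N, z ∈ Subgroup.center N ↔ (z : G) ∈ Subgroup.center G)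
    (hab : ∀ A : Subgroup G, A.Normal → A ≤ N → (∀ a ∈ A, ∀ b ∈ A, a * b = b * a) →
      A ≤ Subgroup.center G) :
    NoFix (quotAct N) := by
  intro v hv
  induction v using QuotientGroup.induction_on with | H z =>
  rw [QuotientGroup.eq_one_iff, hcen]
  set Z₀ := N ⊓ Subgroup.center G with hZ₀
  have hz : ∀ g : G, ⁅g, (z : G)⁆ ∈ Z₀ := fun g =>
    ⟨N.mul_mem (Subgroup.Normal.conj_mem inferInstance _ z.2 g) (N.inv_mem z.2),
      (quotAct_fix_iff N hcen g z).1 (hv g)⟩
  let A : Subgroup G := Subgroup.zpowers (z : G) ⊔ Z₀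
  have hA : A.Normal := ⟨fun a ha g => by
    have hle : A ≤ A.comap (MulAut.conj g).toMonoidHom := by
      refine sup_le ?_ ?_
      · rw [Subgroup.zpowers_le, Subgroup.mem_comap]
        change g * (z : G) * g⁻¹ ∈ A
        rw [show g * (z : G) * g⁻¹ = ⁅g, (z : G)⁆ * z by simp [commutatorElement_def]]
        exact A.mul_mem (Subgroup.mem_sup_right (hz g))
          (Subgroup.mem_sup_left (Subgroup.mem_zpowers _))
      · exact fun w hw => Subgroup.mem_sup_right ((inferInstance : Z₀.Normal).conj_mem w hw g)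
    exact hle ha⟩
  refine hab A hA (sup_le (Subgroup.zpowers_le.2 z.2) inf_le_left) (fun a ha b hb => ?_)
    (Subgroup.mem_sup_left (Subgroup.mem_zpowers _))
  have h1 : A ≤ Subgroup.centralizer ((Subgroup.zpowers (z : G) : Subgroup G) : Set G) := sup_le
    (fun u hu => Subgroup.mem_centralizer_iff.2 fun w hw => by
      obtain ⟨i, rfl⟩ := Subgroup.mem_zpowers_iff.1 hu
      obtain ⟨j, rfl⟩ := Subgroup.mem_zpowers_iff.1 hw
      exact ((Commute.refl (z : G)).zpow_zpow j i).eq)
    (fun u hu => Subgroup.mem_centralizer_iff.2 fun w _ => Subgroup.mem_center_iff.1 hu.2 w)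
  have h2 : A ≤ Subgroup.centralizer (A : Set G) := by
    rw [Subgroup.le_centralizer_iff]
    exact sup_le (Subgroup.le_centralizer_iff.1 h1)
      (fun u hu => Subgroup.mem_centralizer_iff.2 fun w _ => Subgroup.mem_center_iff.1 hu.2 w)
  exact (Subgroup.mem_centralizer_iff.1 (h2 ha) b hb).symm

/-- The layer at `p` respects `p`-overgroups, by nondegeneracy of the commutator pairing. -/
theorem good_quotAct {G : Type u} [Group G] [Finite G] (N : Subgroup G) [hN : N.Normal]
    (hNp : IsPGroup p N) {L : G → ℂˣ} (hL : IsLam L)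
    (hcomm : ∀ x ∈ N, ∀ y ∈ N, ⁅x, y⁆ ∈ Subgroup.center G)
    (hcen : ∀ z : N, z ∈ Subgroup.center N ↔ (z : G) ∈ Subgroup.center G)
    (hab : ∀ A : Subgroup G, A.Normal → A ≤ N → (∀ a ∈ A, ∀ b ∈ A, a * b = b * a) →
      A ≤ Subgroup.center G) :
    Good p (quotAct N) := by
  classical
  intro M K hM hK hMK hpow v hv k hk
  let big : Subgroup G → Subgroup G := fun J => (fixed (quotAct N) J).comap
    (QuotientGroup.mk' (Subgroup.center N)) |>.map N.subtype
  have hbig : ∀ (J : Subgroup G) (x : G), x ∈ big J ↔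
      x ∈ N ∧ ∀ j ∈ J, ⁅j, x⁆ ∈ Subgroup.center G := by
    intro J x
    constructor
    · rintro ⟨z, hz, rfl⟩
      exact ⟨z.2, fun j hj => (quotAct_fix_iff N hcen j z).1 (hz j hj)⟩
    · rintro ⟨hx, h⟩
      exact ⟨⟨x, hx⟩, fun j hj => (quotAct_fix_iff N hcen j ⟨x, hx⟩).2 (h j hj), rfl⟩
  have hbigN : ∀ J, big J ≤ N := fun J x hx => ((hbig J x).1 hx).1
  have hbignormal : ∀ J : Subgroup G, J.Normal → (big J).Normal := fun J hJ =>
    ⟨fun x hx g => (hbig J _).2 ⟨hN.conj_mem x (hbigN J hx) g, fun j hj => by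
      have h := (inferInstance : (Subgroup.center G).Normal).conj_mem _
        (((hbig J x).1 hx).2 (g⁻¹ * j * g) (by simpa using hJ.conj_mem j hj g⁻¹)) g
      have e : g * ⁅g⁻¹ * j * g, x⁆ * g⁻¹ = ⁅j, g * x * g⁻¹⁆ := by
        simp only [commutatorElement_def]
        group
      rwa [e] at h⟩⟩
  set Y := big M with hY
  set Y₀ := big K with hY₀
  have hYn := hbignormal M hM
  have hY₀n := hbignormal K hK
  have hY₀Y : Y₀ ≤ Y := fun x hx =>
    (hbig M x).2 ⟨((hbig K x).1 hx).1, fun j hj => ((hbig K x).1 hx).2 j (hMK hj)⟩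
  have hrad : ∀ x ∈ Y₀, (∀ y ∈ Y₀, x * y = y * x) → x ∈ Subgroup.center G := fun x hx hc =>
    hab (Y₀ ⊓ Subgroup.centralizer (Y₀ : Set G)) inferInstance (inf_le_left.trans (hbigN K))
      (fun a ha b hb => (Subgroup.mem_centralizer_iff.1 ha.2 b hb.1).symm)
      ⟨hx, Subgroup.mem_centralizer_iff.2 fun y hy => (hc y hy).symm⟩
  set D := Y ⊓ Subgroup.centralizer (Y₀ : Set G) with hD
  have hDn : D.Normal := inferInstance
  have hDY₀ : D ⊓ Y₀ ≤ Subgroup.center G := fun x hx =>
    hrad x hx.2 fun y hy => (Subgroup.mem_centralizer_iff.1 hx.1.2 y hy).symm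
  -- the centralizer of `Y₀` in `Y` is central
  have hDc : D ≤ Subgroup.center G := by
    by_contra hne
    obtain ⟨x, hxD, hxc⟩ := SetLike.not_le_iff_exists.1 hne
    let VD : Subgroup (N ⧸ Subgroup.center N) :=
      (D.comap N.subtype).map (QuotientGroup.mk' (Subgroup.center N))
    have hVDinv : ∀ (g : G), ∀ w ∈ VD, quotAct N g w ∈ VD := by
      rintro g _ ⟨z, hz, rfl⟩
      refine ⟨MulAut.conjNormal (H := N) g z, ?_, rfl⟩
      change ((MulAut.conjNormal (H := N) g z : N) : G) ∈ D
      rw [MulAut.conjNormal_apply]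
      exact hDn.conj_mem _ hz g
    let act : K →* MulAut VD :=
      { toFun := fun g =>
          { toFun := fun w => ⟨quotAct N g w, hVDinv g w w.2⟩
            invFun := fun w => ⟨quotAct N (g : G)⁻¹ w, hVDinv _ w w.2⟩
            left_inv := fun w => Subtype.ext (by simp)
            right_inv := fun w => Subtype.ext (by simp)
            map_mul' := fun x y => Subtype.ext (by simp) }
        map_one' := MulEquiv.ext fun w => Subtype.ext (by simp)
        map_mul' := fun a b => MulEquiv.ext fun w => Subtype.ext (by simp) }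
    have hactM : ∀ m : K, (m : G) ∈ M → act m = 1 := fun m hm => MulEquiv.ext fun w => by
      refine Subtype.ext ?_
      obtain ⟨z, hz, hzw⟩ := w.2
      change quotAct N m (w : N ⧸ Subgroup.center N) = w
      rw [← hzw]
      exact (quotAct_fix_iff N hcen m z).2 (((hbig M z).1 hz.1).2 m hm)
    have hH : IsPGroup p act.range := by
      rintro ⟨_, m, rfl⟩
      obtain ⟨j, hj⟩ := hpow m m.2
      refine ⟨j, Subtype.ext ?_⟩
      rw [SubmonoidClass.coe_pow, OneMemClass.coe_one, ← map_pow]
      exact hactM _ (by rw [SubmonoidClass.coe_pow]; exact hj)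
    have hVp : IsPGroup p VD := (hNp.to_quotient _).to_subgroup VD
    have : Finite (MulAut VD) := inferInstance
    have hnt : Nontrivial VD := ⟨⟨⟨_, ⟨⟨x, hbigN M hxD.1⟩, hxD, rfl⟩⟩, 1, fun h => hxc
      ((hcen _).1 ((QuotientGroup.eq_one_iff _).1 (congrArg Subtype.val h)))⟩⟩
    have hpV : p ∣ Nat.card VD := by
      obtain ⟨i, hi⟩ := IsPGroup.iff_card.mp hVp
      rw [hi]
      exact dvd_pow_self p fun h0 => by
        rw [h0, pow_zero] at hi
        exact (Finite.one_lt_card_iff_nontrivial.2 hnt).ne' hi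
    obtain ⟨w, hw, hw1⟩ := hH.exists_fixed_point_of_prime_dvd_card_of_fixed_point VD hpV
      (a := (1 : VD)) (fun b => map_one (b : MulAut VD))
    obtain ⟨z, hz, hzw⟩ := w.2
    have hzY₀ : (z : G) ∈ Y₀ := (hbig K z).2 ⟨z.2, fun j hj => (quotAct_fix_iff N hcen j z).1 (by
      rw [show (z : N ⧸ Subgroup.center N) = (w : N ⧸ Subgroup.center N) from hzw]
      exact congrArg Subtype.val (hw ⟨act ⟨j, hj⟩, ⟨j, hj⟩, rfl⟩))⟩
    refine hw1 (Subtype.ext ?_)
    rw [← hzw, Subgroup.coe_one]
    exact ((QuotientGroup.eq_one_iff z).2 ((hcen z).2 (hDY₀ ⟨hz, hzY₀⟩))).symm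
  -- the given vector
  induction v using QuotientGroup.induction_on with | H a =>
  have haY : (a : G) ∈ Y := (hbig M a).2 ⟨a.2, fun j hj => (quotAct_fix_iff N hcen j a).1 (hv j hj)⟩
  have hc₀ : ∀ x ∈ Y₀, ∀ y ∈ Y₀, ⁅x, y⁆ ∈ Subgroup.center G :=
    fun x hx y hy => hcomm x (hbigN K hx) y (hbigN K hy)
  let f : Y₀ →* ℂˣ := MonoidHom.mk' (fun s => L ⁅(a : G), (s : G)⁆) fun s t => by
    rw [Subgroup.coe_mul, comm_mul_right (hcomm a a.2 t (hbigN K t.2)),
      hL.mul _ (hcomm a a.2 s (hbigN K s.2)) _ (hcomm a a.2 t (hbigN K t.2))]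
  obtain ⟨b, hb⟩ := exists_commutator_repr hL Y₀ hc₀ hrad f fun z hz => by
    change L ⁅(a : G), (z : G)⁆ = 1
    rw [commutatorElement_eq_one_iff_mul_comm.2 (Subgroup.mem_center_iff.1 hz _), hL.one]
  have hbD : (b : G)⁻¹ * a ∈ D := by
    refine ⟨Y.mul_mem (Y.inv_mem (hY₀Y b.2)) haY, Subgroup.mem_centralizer_iff.2 fun s hs => ?_⟩
    refine (commutatorElement_eq_one_iff_mul_comm.1 ?_).symm
    have hbs : ⁅(b : G), s⁆ = ⁅(a : G), s⁆ := hL.eq (hc₀ _ b.2 s hs) (hcomm a a.2 s (hbigN K hs))
      (hb ⟨s, hs⟩)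
    rw [comm_mul_left (hcomm a a.2 s (hbigN K hs)), ← hbs,
      ← comm_mul_left (hc₀ _ b.2 s hs), inv_mul_cancel, commutatorElement_one_left]
  have haY₀ : (a : G) ∈ Y₀ := by
    have hbc := hDc hbD
    refine (hbig K a).2 ⟨a.2, fun j hj => ?_⟩
    have e : (a : G) = b * ((b : G)⁻¹ * a) := (mul_inv_cancel_left _ _).symm
    have h2 : ⁅j, (b : G)⁻¹ * a⁆ = 1 :=
      commutatorElement_eq_one_iff_mul_comm.2 (Subgroup.mem_center_iff.1 hbc j)
    rw [e, comm_mul_right (by rw [h2]; exact one_mem _), h2, mul_one]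
    exact ((hbig K b).1 b.2).2 j hj
  exact (quotAct_fix_iff N hcen k a).2 (((hbig K a).1 haY₀).2 k hk)

/-- Data of the faithful step: a noncentral normal `r`-subgroup of symplectic type. -/
theorem exists_noncentral_pCore {G : Type u} [Group G] [Finite G] (hsolv : Group.IsSolvable G)
    (hnab : ¬ ∀ a b : G, a * b = b * a) :
    ∃ r : ℕ, r.Prime ∧ ¬ Cfsg.pCore r G ≤ Subgroup.center G := by
  by_contra hcon
  push Not at hcon
  have hF : Cfsg.fittingSubgroup G ≤ Subgroup.center G := by
    rw [Solvable.fittingSubgroup_eq_iSup_pCore]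
    exact iSup_le fun r => hcon r (Nat.mem_primeFactors.1 r.2).1
  have := hsolv
  refine hnab fun a b => (Subgroup.mem_center_iff.1 (hF (Solvable.centralizer_fittingSubgroup_le
    (Subgroup.mem_centralizer_iff.2 fun x hx => ?_))) a)
  exact (Subgroup.mem_center_iff.1 (hF hx) b).symm

section Layer

variable {G : Type u} [Group G] [Fintype G] (N : Subgroup G) [hN : N.Normal] {t : ℕ}
  (τ : Representation ℂ N (Fin t → ℂ)) [τ.IsIrreducible]

/-- An action trivial on the normal subgroup, moved to the quotient of the cover. -/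
def toCover {X : Type v} [Group X] (φ : G →* MulAut X) (h : N ≤ φ.ker)
    [(Cover.incl N τ).range.Normal] :
    Cover.grp N τ ⧸ (Cover.incl N τ).range →* MulAut X :=
  QuotientGroup.lift _ (φ.comp (Cover.proj N τ)) fun _ ⟨n, hn⟩ => by
    rw [MonoidHom.mem_ker, MonoidHom.comp_apply, ← hn, Cover.proj_incl]
    exact h n.2

variable [(Cover.incl N τ).range.Normal]
  (hinv : ∀ (g : G) (n : N), τ.character ⟨g * n * g⁻¹, hN.conj_mem n n.2 g⟩ = τ.character n)

include hinv in
theorem good_toCover {X : Type v} [Group X] {φ : G →* MulAut X} (h : N ≤ φ.ker) (hg : Good p φ) :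
    Good p (toCover N τ φ h) :=
  Good.of_comp_surjective (QuotientGroup.mk'_surjective _)
    (show Good p ((toCover N τ φ h).comp (QuotientGroup.mk' (Cover.incl N τ).range)) from
      (MonoidHom.ext fun _ => rfl : φ.comp (Cover.proj N τ) =
        (toCover N τ φ h).comp (QuotientGroup.mk' (Cover.incl N τ).range)) ▸
        hg.comp_surjective (Cover.proj_surjective N τ hinv))

include hinv in
theorem noFix_toCover {X : Type v} [Group X] {φ : G →* MulAut X} (h : N ≤ φ.ker) (hg : NoFix φ) :
    NoFix (toCover N τ φ h) := fun w hw => hg w fun g => by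
  obtain ⟨x, rfl⟩ := Cover.proj_surjective N τ hinv g
  exact hw (x : Cover.grp N τ ⧸ (Cover.incl N τ).range)

end Layer

/-- The faithful nonabelian case. -/
theorem holds_of_faithful {G : Type u} [Group G] [Fintype G] (hsolv : Group.IsSolvable G) {d : ℕ}
    (ρ : Representation ℂ G (Fin d → ℂ)) [hρ : ρ.IsIrreducible] (hhom : Homogeneous ρ.character)
    (hinj : Function.Injective ρ) (hnab : ¬ ∀ a b : G, a * b = b * a)
    (ih : ∀ e < degree ρ.character, Ind.{u} p e) :
    Holds p G ρ.character := by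
  classical
  obtain ⟨r, hr, hNc⟩ := exists_noncentral_pCore hsolv hnab
  have : Fact r.Prime := ⟨hr⟩
  set χ := ρ.character
  have hχ : IsIrrCharacter G χ := Char.isIrrCharacter_character ρ
  have hχ1 : χ 1 ≠ 0 := IsIrrCharacter.apply_one_ne_zero hχ
  set N := Cfsg.pCore r G with hNdef
  have hN : N.Normal := Solvable.pCore_normal r G
  have hNr : IsPGroup r N := Solvable.pCore_isPGroup r G
  have hcomm := commutator_mem_center ρ hinj hρ hhom r N hNr
  have hab : ∀ A : Subgroup G, A.Normal → A ≤ N → (∀ a ∈ A, ∀ b ∈ A, a * b = b * a) →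
      A ≤ Subgroup.center G := fun A _ _ hA => le_center_of_abelian ρ hinj hρ hhom A hA
  have hcen : ∀ z : N, z ∈ Subgroup.center N ↔ (z : G) ∈ Subgroup.center G := fun z =>
    ⟨fun hz => hab (N ⊓ Subgroup.centralizer (N : Set G)) inferInstance inf_le_left
        (fun a ha b hb => (Subgroup.mem_centralizer_iff.1 ha.2 b hb.1).symm)
        ⟨z.2, Subgroup.mem_centralizer_iff.2 fun y hy =>
          congrArg Subtype.val (Subgroup.mem_center_iff.1 hz ⟨y, hy⟩)⟩,
      fun hz => Subgroup.mem_center_iff.2 fun y => Subtype.ext (Subgroup.mem_center_iff.1 hz y)⟩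
  -- the central character
  have hmulc : ∀ a ∈ Subgroup.center G, ∀ x, χ (x * a) * χ 1 = χ x * χ a := fun a ha x =>
    CharOver.apply_mul_central hχ ha x
  have hc0 : ∀ a ∈ Subgroup.center G, χ a / χ 1 ≠ 0 := fun a ha => by
    refine div_ne_zero (fun h0 => hχ1 ?_) hχ1
    have h := hmulc a⁻¹ (inv_mem ha) a
    rw [h0, zero_mul, mul_inv_cancel] at h
    exact (mul_self_eq_zero.1 h)
  have hone : ∀ a, χ a = χ 1 → a = 1 := fun a h => hinj (by
    rw [map_one]
    simp only [χ, Representation.char_one] at h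
    exact (Char.character_eq_degree_iff ρ a).1 h)
  let L : G → ℂˣ := fun g => if h : χ g / χ 1 ≠ 0 then Units.mk0 _ h else 1
  have hLv : ∀ a ∈ Subgroup.center G, (L a : ℂ) = χ a / χ 1 := fun a ha => by
    simp only [L]
    rw [dif_pos (hc0 a ha)]
    rfl
  have hL : IsLam L :=
    ⟨fun a ha b hb => Units.ext (by
      rw [Units.val_mul, hLv _ ha, hLv _ hb, hLv _ (mul_mem ha hb)]
      have h := hmulc b hb a
      field_simp
      linear_combination h),
    fun a ha h => hone a (by
      have h1 := hLv a ha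
      rw [h, Units.val_one] at h1
      exact (div_eq_one_iff_eq hχ1).1 h1.symm)⟩
  -- the constituent on `N`
  obtain ⟨θ, e, ⟨t, τ, hτ, rfl⟩, he⟩ := hhom N hN
  have hev : ∀ n : N, χ n = (e : ℂ) * τ.character n := fun n => congrFun he n
  have he0 : (e : ℂ) ≠ 0 := fun h0 => hχ1 (by simpa [h0] using hev 1)
  have hinv : ∀ (g : G) (n : N), τ.character ⟨g * n * g⁻¹, hN.conj_mem n n.2 g⟩ = τ.character n :=
    fun g n => mul_left_cancel₀ he0 (by
      rw [← hev, ← hev]
      exact IsIrrCharacter.isClassFunction hχ (n : G) g)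
  have hvan : ∀ x : N, τ.character x ≠ 0 → x ∈ Subgroup.center N := by
    intro x hx
    rw [Subgroup.mem_center_iff]
    intro y
    by_contra hne
    have hz := hcomm x x.2 y y.2
    have hz1 : ⁅(x : G), (y : G)⁆ ≠ 1 := fun h =>
      hne (Subtype.ext (commutatorElement_eq_one_iff_mul_comm.1 h).symm)
    have h1 := hmulc _ hz (x : G)⁻¹
    rw [show (x : G)⁻¹ * ⁅(x : G), (y : G)⁆ = (y : G) * (x : G)⁻¹ * (y : G)⁻¹ by
      simp only [commutatorElement_def]; group, IsIrrCharacter.isClassFunction hχ] at h1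
    rcases eq_or_ne (χ (x : G)⁻¹) 0 with h0 | h0
    · rw [IsIrrCharacter.apply_inv hχ, map_eq_zero, hev] at h0
      exact hx ((mul_eq_zero.1 h0).resolve_left he0)
    · exact hz1 (hone _ (mul_left_cancel₀ h0 h1).symm)
  let : Fintype N := Fintype.ofFinite N
  have htZ := degree_sq_eq τ hvan
  have hVcard : Nat.card (N ⧸ Subgroup.center N) = t ^ 2 := by
    rw [(Subgroup.center N).card_eq_card_quotient_mul_card_subgroup] at htZ
    exact (Nat.eq_of_mul_eq_mul_right Nat.card_pos htZ).symm
  have ht1 : 1 < t := by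
    by_contra hle
    have ht : t = 1 := le_antisymm (not_lt.1 hle) (Cover.pos_dim N τ)
    rw [ht, one_pow, ← Subgroup.index_eq_card, Subgroup.index_eq_one] at hVcard
    exact hNc fun z hz => (hcen ⟨z, hz⟩).1 (by rw [hVcard]; exact Subgroup.mem_top _)
  obtain ⟨kN, hkN⟩ := IsPGroup.iff_card.mp hNr
  obtain ⟨at', -, hat⟩ := (Nat.dvd_prime_pow hr).1
    (show t ∣ r ^ kN from hkN ▸ htZ ▸ Dvd.dvd.mul_right (dvd_pow_self t two_ne_zero) _)
  -- the cover
  have := Cover.finite_grp N τ
  have hIn : (Cover.incl N τ).range.Normal := Cover.range_normal N τ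
  let : Fintype (Cover.grp N τ ⧸ (Cover.incl N τ).range) := Fintype.ofFinite _
  have hΓsolv : Group.IsSolvable (Cover.grp N τ) := by
    have := hsolv
    have : Group.IsSolvable (Cover.proj N τ).ker := Group.isSolvable_of_comm fun a b =>
      Subtype.ext (Subgroup.mem_center_iff.1 (mem_center_of_proj_eq_one N τ b.2) a)
    exact Group.isSolvable_of_ker_le_range (Cover.proj N τ).ker.subtype (Cover.proj N τ)
      (by rw [Subgroup.range_subtype])
  obtain ⟨ξ, hξ, hfac⟩ := exists_quotient_char N τ hinv hχ he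
  have hdeg : degree χ = t * degree ξ := by
    have h := hfac 1
    rw [map_one, QuotientGroup.mk_one, Representation.char_one, Module.finrank_fin_fun,
      ← IsCharacter.degree_cast (IsIrrCharacter.isCharacter hξ),
      ← IsCharacter.degree_cast (IsIrrCharacter.isCharacter hχ)] at h
    exact_mod_cast h
  have hξpos := IsIrrCharacter.degree_pos hξ
  have hlt : degree ξ < degree χ := by
    rw [hdeg]
    exact lt_mul_of_one_lt_left hξpos ht1
  have hH := ih _ hlt (Cover.grp N τ ⧸ (Cover.incl N τ).range) inferInstance ξ hξ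
    (homogeneous_quotient N τ hinv hhom hξ hfac) rfl
  intro W _ _ hW φ hgood hnofix
  have hidx0 : ∀ (H : Type u) [Group H] [Finite H] (h : H),
      (Subgroup.centralizer ({h} : Set H)).index ≠ 0 := fun H _ _ h => Subgroup.index_ne_zero_of_finite
  have hiota : ∀ y : Cover.grp N τ,
      (Subgroup.centralizer ({(y : Cover.grp N τ ⧸ (Cover.incl N τ).range)} :
        Set (Cover.grp N τ ⧸ (Cover.incl N τ).range))).index ∣
      ((Subgroup.centralizer ({y} : Set (Cover.grp N τ))).map
        (QuotientGroup.mk' (Cover.incl N τ).range)).index := fun y =>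
    Subgroup.index_dvd_of_le (by
      rintro _ ⟨c, hc, rfl⟩
      rw [Subgroup.mem_centralizer_singleton_iff]
      exact congrArg QuotientGroup.mk (Subgroup.mem_centralizer_singleton_iff.1 hc))
  by_cases hrp : r = p
  · -- the layer at `p`
    subst hrp
    have hNW : N ≤ φ.ker := hgood.trivial_of_pgroup N hNr
    let : CommGroup (N ⧸ Subgroup.center N) := { QuotientGroup.Quotient.group (Subgroup.center N) with
      mul_comm := fun a b => by
        induction a using QuotientGroup.induction_on with | H x =>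
        induction b using QuotientGroup.induction_on with | H y =>
        rw [← commutatorElement_eq_one_iff_mul_comm]
        change ((⁅x, y⁆ : N) : N ⧸ Subgroup.center N) = 1
        rw [QuotientGroup.eq_one_iff, hcen]
        exact hcomm x x.2 y y.2 }
    have hNV : N ≤ (quotAct N).ker := fun n hn => by
      rw [MonoidHom.mem_ker]
      refine MulEquiv.ext fun v => ?_
      induction v using QuotientGroup.induction_on with | H z =>
      exact (quotAct_fix_iff N hcen n z).2 (hcomm n hn z z.2)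
    let Φ : G →* MulAut (W × (N ⧸ Subgroup.center N)) := prodAct φ (quotAct N)
    have hNΦ : N ≤ Φ.ker := fun n hn => MonoidHom.mem_ker.2 (MulEquiv.ext fun x => Prod.ext
      (DFunLike.congr_fun (MonoidHom.mem_ker.1 (hNW hn)) x.1)
      (DFunLike.congr_fun (MonoidHom.mem_ker.1 (hNV hn)) x.2))
    have hΦgood : Good r Φ := fun M K hM hK hMK hpow w hw k hk => Prod.ext
      (hgood M K hM hK hMK hpow w.1 (fun m hm => congrArg Prod.fst (hw m hm)) k hk)
      (good_quotAct N hNr hL hcomm hcen hab M K hM hK hMK hpow w.2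
        (fun m hm => congrArg Prod.snd (hw m hm)) k hk)
    have hΦfix : NoFix Φ := fun w hw => Prod.ext (hnofix w.1 fun g => congrArg Prod.fst (hw g))
      (noFix_quotAct N hcen hab w.2 fun g => congrArg Prod.snd (hw g))
    have hWV : IsPGroup r (W × (N ⧸ Subgroup.center N)) := fun x => by
      obtain ⟨i, hi⟩ := hW x.1
      obtain ⟨j, hj⟩ := (hNr.to_quotient (Subgroup.center N)) x.2
      exact ⟨i + j, Prod.ext (by rw [Prod.pow_fst, pow_add, pow_mul, hi, one_pow]; rfl)
        (by rw [Prod.pow_snd, add_comm, pow_add, pow_mul, hj, one_pow]; rfl)⟩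
    obtain ⟨xq, hxq⟩ := hH (W × (N ⧸ Subgroup.center N)) hWV (toCover N τ Φ hNΦ) (good_toCover N τ hinv hNΦ hΦgood)
      (noFix_toCover N τ hinv hNΦ hΦfix)
    obtain ⟨x₀, rfl⟩ := QuotientGroup.mk_surjective xq
    obtain ⟨n, hn⟩ := exists_char_ne_zero N τ x₀
    rw [← incl_range_mul N τ x₀ n] at hxq
    set x := x₀ * Cover.incl N τ n
    set g := Cover.proj N τ x
    rw [show toCover N τ Φ hNΦ (x : Cover.grp N τ ⧸ (Cover.incl N τ).range) = Φ g from rfl,
      fix_prodAct, Nat.card_prod] at hxq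
    obtain ⟨m, hm, hm1, -⟩ := exists_index_cover N τ hinv x
    rw [hm1 hn, mul_one] at hm
    set S := (Subgroup.centralizer ({x} : Set (Cover.grp N τ))).comap (Cover.incl N τ)
    have hsplit := index_split N τ x
    rw [hm] at hsplit
    obtain ⟨j, -, hj⟩ := (Nat.dvd_prime_pow hr).1 (show S.index ∣ r ^ kN from hkN ▸ S.index_dvd_card)
    have hSc : Nat.card S ≤ Nat.card (Subgroup.center N) * fix (quotAct N g) := by
      let f : S →* (N ⧸ Subgroup.center N) := (QuotientGroup.mk' (Subgroup.center N)).comp S.subtype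
      rw [show Nat.card S = Nat.card f.ker * Nat.card f.range by
        rw [← Subgroup.index_ker, Subgroup.card_mul_index]]
      refine Nat.mul_le_mul (Nat.card_le_card_of_injective
        (fun z => (⟨((z : S) : N), (QuotientGroup.eq_one_iff _).1 z.2⟩ : Subgroup.center N))
        fun a b hab => Subtype.ext (Subtype.ext (congrArg (fun z : Subgroup.center N => (z : N)) hab))) ?_
      refine Nat.card_le_card_of_injective (fun z : f.range =>
        (⟨(z : (N ⧸ Subgroup.center N)), ?_⟩ : {v : (N ⧸ Subgroup.center N) // quotAct N g v = v}))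
        fun a b hab => Subtype.ext (Subtype.mk.inj hab)
      obtain ⟨_, s, rfl⟩ := z
      refine (quotAct_fix_iff N hcen g (s : N)).2 ?_
      have hs := congrArg (Cover.proj N τ) (Subgroup.mem_centralizer_singleton_iff.1
        (s.2 : Cover.incl N τ (s : N) ∈ _))
      rw [map_mul, map_mul, Cover.proj_incl] at hs
      have h' : g * ((s : N) : G) = ((s : N) : G) * g := hs.symm
      rw [commutatorElement_eq_one_iff_mul_comm.2 h']
      exact one_mem _
    have hV : Nat.card (N ⧸ Subgroup.center N) ≤ r ^ j * fix (quotAct N g) := by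
      refine Nat.le_of_mul_le_mul_right ?_ (Nat.card_pos (α := Subgroup.center N))
      rw [← (Subgroup.center N).card_eq_card_quotient_mul_card_subgroup, ← S.card_mul_index, hj]
      exact (Nat.mul_le_mul_right _ hSc).trans_eq (by ring)
    have hC0 : ((Subgroup.centralizer ({x} : Set (Cover.grp N τ))).map
        (QuotientGroup.mk' (Cover.incl N τ).range)).index ≠ 0 := Subgroup.index_ne_zero_of_finite
    have hP : r ^ (Subgroup.centralizer ({(x : Cover.grp N τ ⧸ (Cover.incl N τ).range)} :
          Set (Cover.grp N τ ⧸ (Cover.incl N τ).range))).index.factorization r * r ^ j ≤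
        r ^ (Subgroup.centralizer ({g} : Set G)).index.factorization r := by
      rw [← pow_add, hsplit, Nat.factorization_mul hC0 Subgroup.index_ne_zero_of_finite,
        Finsupp.add_apply, hj, hr.factorization_pow, Finsupp.single_eq_same]
      exact Nat.pow_le_pow_right hr.pos (Nat.add_le_add_right
        ((Nat.factorization_le_iff_dvd (hidx0 _ _) hC0).2 (hiota x) r) j)
    refine ⟨g, Nat.le_of_mul_le_mul_right ?_ (pow_pos (fix_pos (quotAct N g)) 2)⟩
    have hPt : r ^ t.factorization r = t := by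
      rw [hat, hr.factorization_pow, Finsupp.single_eq_same]
    rw [hdeg, Nat.factorization_mul (by omega) hξpos.ne', Finsupp.add_apply, pow_add, hPt]
    set A := r ^ (degree ξ).factorization r
    set P := r ^ (Subgroup.centralizer ({(x : Cover.grp N τ ⧸ (Cover.incl N τ).range)} :
          Set (Cover.grp N τ ⧸ (Cover.incl N τ).range))).index.factorization r
    set P' := r ^ (Subgroup.centralizer ({g} : Set G)).index.factorization r
    set F := fix (φ g)
    set c := fix (quotAct N g)
    calc (t * A) ^ 2 * F ^ 2 * c ^ 2 = t ^ 2 * (A ^ 2 * (F * c) ^ 2) := by ring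
      _ ≤ t ^ 2 * (Nat.card W * Nat.card (N ⧸ Subgroup.center N) * P ^ 2) := Nat.mul_le_mul_left _ hxq
      _ = Nat.card W * (Nat.card (N ⧸ Subgroup.center N)) ^ 2 * P ^ 2 := by rw [hVcard]; ring
      _ ≤ Nat.card W * (r ^ j * c) ^ 2 * P ^ 2 :=
          Nat.mul_le_mul_right _ (Nat.mul_le_mul_left _ (Nat.pow_le_pow_left hV 2))
      _ = Nat.card W * (P * r ^ j) ^ 2 * c ^ 2 := by ring
      _ ≤ Nat.card W * P' ^ 2 * c ^ 2 :=
          Nat.mul_le_mul_right _ (Nat.mul_le_mul_left _ (Nat.pow_le_pow_left hP 2))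
  · -- a layer away from `p`
    have hcopN : ¬ p ∣ Nat.card N := fun h =>
      hrp ((Nat.prime_dvd_prime_iff_eq hp.out hr).1 (hp.out.dvd_of_dvd_pow (hkN ▸ h))).symm
    have hpt : ¬ p ∣ t := fun h =>
      hrp ((Nat.prime_dvd_prime_iff_eq hp.out hr).1 (hp.out.dvd_of_dvd_pow (hat ▸ h))).symm
    let ψ₀ := resFixed φ N
    obtain ⟨xq, hxq⟩ := hH (fixed φ N) (hW.to_subgroup _) (toCover N τ ψ₀ (le_ker_resFixed N))
      (good_toCover N τ hinv _ (hgood.resFixed N)) (noFix_toCover N τ hinv _ (hnofix.resFixed N))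
    obtain ⟨x₀, rfl⟩ := QuotientGroup.mk_surjective xq
    set g₀ := Cover.proj N τ x₀
    rw [show toCover N τ ψ₀ (le_ker_resFixed N) (x₀ : Cover.grp N τ ⧸ (Cover.incl N τ).range) =
      ψ₀ g₀ from rfl, fix_resFixed] at hxq
    set Zn := N ⊓ Subgroup.center G
    set W₁ := fixed φ Zn
    let ψ₁ := resFixed φ Zn
    have hW01 : fixed φ N ≤ W₁ := fun w hw a ha => hw a ha.1
    obtain ⟨n, hn, h1⟩ := exists_coset_fix ψ₁ N
      (fun a ha b hb => by
        rw [← commutatorElement_eq_one_iff_mul_comm, ← map_commutatorElement]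
        exact le_ker_resFixed Zn ⟨N.mul_mem (N.mul_mem (N.mul_mem ha hb) (N.inv_mem ha)) (N.inv_mem hb),
          hcomm a ha b hb⟩)
      (coprime_of_pgroup (hW.to_subgroup W₁) hcopN) g₀ ((fixed φ N).subgroupOf W₁)
      fun v => ⟨fun h a ha => Subtype.ext (h a ha), fun h a ha => congrArg Subtype.val (h a ha)⟩
    rw [Nat.card_congr (Subgroup.subgroupOfEquivOfLe hW01).toEquiv] at h1
    have hN0 : Nat.card {v : W₁ // v ∈ (fixed φ N).subgroupOf W₁ ∧ ψ₁ g₀ v = v} =
        Nat.card {v : W // v ∈ fixed φ N ∧ φ g₀ v = v} :=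
      Nat.card_congr
        { toFun := fun v => ⟨(v.1 : W), v.2.1, congrArg Subtype.val v.2.2⟩
          invFun := fun v => ⟨⟨v.1, hW01 v.2.1⟩, v.2.1, Subtype.ext v.2.2⟩
          left_inv := fun _ => rfl
          right_inv := fun _ => rfl }
    rw [hN0, fix_resFixed] at h1
    obtain ⟨z, hz, h2⟩ := exists_coset_fix φ Zn
      (fun a ha b hb => by rw [← map_mul, ← map_mul, Subgroup.mem_center_iff.1 hb.2 a])
      (coprime_of_pgroup hW fun h => hcopN (h.trans (Subgroup.card_dvd_of_le inf_le_left)))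
      (g₀ * n) W₁ fun v => Iff.rfl
    set x := x₀ * Cover.incl N τ (⟨n, hn⟩ * ⟨z, hz.1⟩)
    set g := g₀ * n * z
    have hxg : Cover.proj N τ x = g := by
      simp only [x, g, g₀, map_mul, Cover.proj_incl, Subgroup.coe_mul, mul_assoc]
    have hxq' := incl_range_mul N τ x₀ (⟨n, hn⟩ * ⟨z, hz.1⟩)
    obtain ⟨m, hm, -, hmp⟩ := exists_index_cover N τ hinv x
    rw [hxg] at hm
    have hm0 : m ≠ 0 := fun h0 => hidx0 _ x (by rw [hm, h0, mul_zero])
    have hP : p ^ (Subgroup.centralizer ({(x₀ : Cover.grp N τ ⧸ (Cover.incl N τ).range)} :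
          Set (Cover.grp N τ ⧸ (Cover.incl N τ).range))).index.factorization p ≤
        p ^ (Subgroup.centralizer ({g} : Set G)).index.factorization p := by
      refine Nat.pow_le_pow_right hp.out.pos ?_
      have h := (Nat.factorization_le_iff_dvd (hidx0 _ _) (hidx0 _ x)).2
        (index_centralizer_dvd (QuotientGroup.mk' (Cover.incl N τ).range)
          (QuotientGroup.mk'_surjective _) x) p
      rw [QuotientGroup.mk'_apply, hxq', hm, Nat.factorization_mul (hidx0 _ g) hm0,
        Finsupp.add_apply, Nat.factorization_eq_zero_of_not_dvd (hmp p hp.out hpt), add_zero] at h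
      exact h
    refine ⟨g, Nat.le_of_mul_le_mul_right ?_ (Nat.mul_pos (Nat.card_pos (α := fixed φ N))
      (Nat.card_pos (α := W₁)))⟩
    rw [hdeg, Nat.factorization_mul (by omega) hξpos.ne', Finsupp.add_apply,
      Nat.factorization_eq_zero_of_not_dvd hpt, zero_add]
    set A := p ^ (degree ξ).factorization p
    set P' := p ^ (Subgroup.centralizer ({g} : Set G)).index.factorization p
    set F := fix (φ g)
    set F₀ := Nat.card {v : W // v ∈ fixed φ N ∧ φ g₀ v = v}
    set F₁ := Nat.card {v : W // v ∈ W₁ ∧ φ (g₀ * n) v = v}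
    set w₀ := Nat.card (fixed φ N)
    set w₁ := Nat.card W₁
    calc A ^ 2 * F ^ 2 * (w₀ * w₁) = A ^ 2 * w₀ * (F ^ 2 * w₁) := by ring
      _ ≤ A ^ 2 * w₀ * (Nat.card W * F₁ ^ 2) := Nat.mul_le_mul_left _ h2
      _ = A ^ 2 * Nat.card W * (F₁ ^ 2 * w₀) := by ring
      _ ≤ A ^ 2 * Nat.card W * (w₁ * F₀ ^ 2) := Nat.mul_le_mul_left _ h1
      _ = Nat.card W * w₁ * (A ^ 2 * F₀ ^ 2) := by ring
      _ ≤ Nat.card W * w₁ * (w₀ * P' ^ 2) :=
          Nat.mul_le_mul_left _ (hxq.trans (Nat.mul_le_mul_left _ (Nat.pow_le_pow_left hP 2)))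
      _ = _ := by ring

/-- The induction. -/
theorem holds (d : ℕ) : Ind.{u} p d := by
  induction d using Nat.strong_induction_on with
  | _ d ihd =>
    intro G _ _ hsolv χ hχ hhom hd
    suffices h : ∀ (m : ℕ) (G : Type u) [Group G] [Fintype G], Nat.card G = m → Group.IsSolvable G →
        ∀ χ : G → ℂ, IsIrrCharacter G χ → Homogeneous χ → degree χ = d → Holds p G χ from
      h _ G rfl hsolv χ hχ hhom hd
    clear! G
    intro m
    induction m using Nat.strong_induction_on with
    | _ m ihm =>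
      intro G _ _ hm hsolv χ hχ hhom hd
      by_cases hab : ∀ a b : G, a * b = b * a
      · exact holds_of_comm hab hχ
      obtain ⟨n, ρ, hρ, rfl⟩ := hχ
      by_cases hker : MonoidHom.ker ρ = ⊥
      · exact holds_of_faithful hsolv ρ hhom ((MonoidHom.ker_eq_bot_iff ρ).1 hker) hab
          fun e he => ihd e (hd ▸ he)
      · exact holds_of_kernel hsolv ρ hhom hker fun Q _ _ hlt hQ η hη hηhom hηd =>
          ihm _ (hm ▸ hlt) Q rfl hQ η hη hηhom (hηd.trans hd)

/-- The `p`-part of the degree of a homogeneous character of a solvable group divides a class size. -/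
theorem exists_class_factorization {G : Type u} [Group G] [Fintype G] (hsolv : Group.IsSolvable G)
    {χ : G → ℂ} (hχ : IsIrrCharacter G χ) (hhom : Homogeneous χ) :
    ∃ g : G, (Cfsg.charDegree χ).factorization p ≤
      (Subgroup.centralizer ({g} : Set G)).index.factorization p := by
  obtain ⟨g, hg⟩ := holds (p := p) (degree χ) G hsolv χ hχ hhom rfl PUnit.{u + 1}
    (fun x => ⟨0, Subsingleton.elim _ _⟩) 1 (fun _ _ _ _ _ _ w _ k _ => Subsingleton.elim _ _)
    (fun w _ => Subsingleton.elim _ _)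
  refine ⟨g, (Nat.pow_le_pow_iff_right hp.out.one_lt).1 ((Nat.pow_le_pow_iff_left two_ne_zero).1 ?_)⟩
  rw [Nat.card_unique, one_mul] at hg
  exact (Nat.le_mul_of_pos_right _ (pow_pos (fix_pos _) 2)).trans hg

end CfsgLib.KGV.PPart
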