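import Cfsg.Agent.Lib.Char.Orth
import Cfsg.Agent.Lib.Char.Integral
import Cfsg.Agent.Lib.Char.Kernel
import Cfsg.Agent.Lib.CharDeep.Cover

/-!
# Trace identities for a fully ramified character
-/

set_option autoImplicit false

namespace CfsgLib.KGV.Ramified

open Cfsg CfsgLib.Char

universe u v

variable {N : Type u} [Group N] [Fintype N] {t : ℕ}

/-- Schur: averaging an operator over the group gives a scalar. -/
theorem sum_conj_eq (τ : Representation ℂ N (Fin t → ℂ)) [τ.IsIrreducible]
    (X : Module.End ℂ (Fin t → ℂ)) :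
    (t : ℂ) • ∑ x : N, τ x * X * τ x⁻¹ =
      ((Nat.card N : ℂ) * LinearMap.trace ℂ _ X) • (1 : Module.End ℂ (Fin t → ℂ)) := by
  set S := ∑ x : N, τ x * X * τ x⁻¹ with hS
  have hcomm : ∀ g, S * τ g = τ g * S := by
    intro g
    rw [hS, Finset.sum_mul, Finset.mul_sum]
    symm
    refine Fintype.sum_equiv (Equiv.mulLeft g) _ _ fun x => ?_
    rw [Equiv.coe_mulLeft, mul_inv_rev, map_mul τ g x, map_mul τ x⁻¹ g⁻¹]
    simp only [mul_assoc]
    rw [← map_mul τ g⁻¹ g, inv_mul_cancel, map_one, mul_one]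
  obtain ⟨c, hc⟩ := exists_scalar_of_commute τ S hcomm
  have h1 : LinearMap.trace ℂ _ S = (Nat.card N : ℂ) * LinearMap.trace ℂ _ X := by
    have h2 : ∀ x : N, LinearMap.trace ℂ _ (τ x * X * τ x⁻¹) = LinearMap.trace ℂ _ X := fun x => by
      rw [LinearMap.trace_mul_comm, ← mul_assoc, ← map_mul, inv_mul_cancel, map_one, one_mul]
    rw [hS, map_sum, Finset.sum_congr rfl fun x _ => h2 x, Finset.sum_const, Finset.card_univ,
      nsmul_eq_mul, Nat.card_eq_fintype_card]
  rw [hc, map_smul, LinearMap.trace_one, Module.finrank_fintype_fun_eq_card, Fintype.card_fin,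
    smul_eq_mul] at h1
  rw [hc, smul_smul, mul_comm (t : ℂ), h1]

/-- Schur orthogonality in trace form. -/
theorem sum_trace_mul (τ : Representation ℂ N (Fin t → ℂ)) [τ.IsIrreducible]
    (A B : Module.End ℂ (Fin t → ℂ)) :
    (t : ℂ) * ∑ x : N, LinearMap.trace ℂ _ (τ x * A) * LinearMap.trace ℂ _ (B * τ x⁻¹) =
      (Nat.card N : ℂ) * LinearMap.trace ℂ _ (B * A) := by
  classical
  have htr : ∀ Y : Module.End ℂ (Fin t → ℂ),
      LinearMap.trace ℂ _ Y = ∑ i, Y (Pi.single i 1) i := fun Y => by
    rw [LinearMap.trace_eq_matrix_trace ℂ (Pi.basisFun ℂ (Fin t)), Matrix.trace]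
    exact Finset.sum_congr rfl fun i _ => by
      rw [Matrix.diag_apply, LinearMap.toMatrix_apply, Pi.basisFun_repr, Pi.basisFun_apply]
  let E : Fin t → Fin t → Module.End ℂ (Fin t → ℂ) := fun i j =>
    ((LinearMap.proj (R := ℂ) (φ := fun _ : Fin t => ℂ) j).comp B).smulRight (A (Pi.single i 1))
  have hE : ∀ i j w, E i j w = (B w j) • A (Pi.single i 1) := fun i j w => rfl
  have htE : ∀ i j, LinearMap.trace ℂ _ (E i j) = B (A (Pi.single i 1)) j := by
    intro i j
    rw [htr]
    simp only [hE, Pi.smul_apply, smul_eq_mul]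
    conv_rhs => rw [pi_eq_sum_univ (A (Pi.single i 1)), map_sum, Finset.sum_apply]
    refine Finset.sum_congr rfl fun k _ => ?_
    rw [map_smul, Pi.smul_apply, smul_eq_mul, mul_comm]
    congr 2
    exact congrFun (congrArg B (funext fun m => by simp [Pi.single_apply, eq_comm])) j
  have hentry : ∀ i j, (t : ℂ) * ∑ x : N, (τ x * E i j * τ x⁻¹) (Pi.single j 1) i =
      (Nat.card N : ℂ) * (if i = j then B (A (Pi.single i 1)) j else 0) := by
    intro i j
    have h := congrFun (LinearMap.congr_fun (sum_conj_eq τ (E i j)) (Pi.single j 1)) i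
    rw [LinearMap.smul_apply, LinearMap.sum_apply, Pi.smul_apply, Finset.sum_apply, smul_eq_mul] at h
    rw [h, LinearMap.smul_apply, Module.End.one_apply, Pi.smul_apply, smul_eq_mul, htE, Pi.single_apply]
    split_ifs <;> simp
  have key : ∀ (x : N) (i j : Fin t), (τ x * E i j * τ x⁻¹) (Pi.single j 1) i =
      (τ x * A) (Pi.single i 1) i * (B * τ x⁻¹) (Pi.single j 1) j := by
    intro x i j
    simp only [Module.End.mul_apply, hE, map_smul, Pi.smul_apply, smul_eq_mul]
    ring
  calc (t : ℂ) * ∑ x : N, LinearMap.trace ℂ _ (τ x * A) * LinearMap.trace ℂ _ (B * τ x⁻¹)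
      = ∑ i, ∑ j, (t : ℂ) * ∑ x : N, (τ x * E i j * τ x⁻¹) (Pi.single j 1) i := by
        simp only [key, htr, Finset.mul_sum, Finset.sum_mul]
        rw [Finset.sum_comm]
        conv_rhs => rw [Finset.sum_comm]
        refine Finset.sum_congr rfl fun i _ => ?_
        rw [Finset.sum_comm]
    _ = ∑ i, (Nat.card N : ℂ) * B (A (Pi.single i 1)) i := by
        refine Finset.sum_congr rfl fun i _ => ?_
        rw [Finset.sum_congr rfl fun j _ => hentry i j, ← Finset.mul_sum, Finset.sum_ite_eq,
          if_pos (Finset.mem_univ i)]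
    _ = _ := by rw [htr, Finset.mul_sum]; rfl

/-- Irreducible constituent vanishing off the centre: the degree squared. -/
theorem degree_sq_eq (τ : Representation ℂ N (Fin t → ℂ)) [τ.IsIrreducible]
    (hvan : ∀ x, τ.character x ≠ 0 → x ∈ Subgroup.center N) :
    t ^ 2 * Nat.card (Subgroup.center N) = Nat.card N := by
  classical
  have ht : 0 < t := by simpa using finrank_pos_of_irreducible τ
  have hz : ∀ z ∈ Subgroup.center N, τ.character z * τ.character z⁻¹ = (t : ℂ) ^ 2 := by
    intro z hz
    obtain ⟨c, hc⟩ := exists_scalar_of_commute τ (τ z) fun g => by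
      rw [← map_mul, ← map_mul, Subgroup.mem_center_iff.1 hz g]
    obtain ⟨c', hc'⟩ := exists_scalar_of_commute τ (τ z⁻¹) fun g => by
      rw [← map_mul, ← map_mul, Subgroup.mem_center_iff.1 (inv_mem hz) g]
    have h1 : τ z * τ z⁻¹ = 1 := by rw [← map_mul, mul_inv_cancel, map_one]
    rw [hc, hc', smul_mul_assoc, one_mul, smul_smul] at h1
    have : Nontrivial (Fin t → ℂ) := CharKernel.nontrivial_of_irreducible τ
    have h2 : c * c' = 1 := CharDeep.Cover.smul_one_inj (h1.trans (one_smul ℂ _).symm)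
    simp only [Representation.character, hc, hc', map_smul, LinearMap.trace_one,
      Module.finrank_fintype_fun_eq_card, Fintype.card_fin, smul_eq_mul]
    linear_combination (t : ℂ) ^ 2 * h2
  have h := sum_trace_mul τ 1 1
  simp only [mul_one, one_mul, LinearMap.trace_one, Module.finrank_fintype_fun_eq_card,
    Fintype.card_fin] at h
  rw [← Finset.sum_subset (Finset.subset_univ (Finset.univ.filter fun x => x ∈ Subgroup.center N))
    (fun x _ hx => by
      change τ.character x * _ = 0
      by_contra hne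
      exact hx (Finset.mem_filter.2 ⟨Finset.mem_univ _, hvan x (left_ne_zero_of_mul hne)⟩))] at h
  simp only [Representation.character] at hz
  rw [Finset.sum_congr rfl fun x hx => hz x (Finset.mem_filter.1 hx).2, Finset.sum_const,
    nsmul_eq_mul, show (Finset.univ.filter fun x => x ∈ Subgroup.center N).card =
      Nat.card (Subgroup.center N) by rw [Nat.card_eq_fintype_card, Fintype.card_subtype]] at h
  have h3 : (t : ℂ) * ((t : ℂ) ^ 2 * Nat.card (Subgroup.center N)) = t * Nat.card N := by
    linear_combination h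
  exact_mod_cast mul_left_cancel₀ (Nat.cast_ne_zero.2 ht.ne') h3

end CfsgLib.KGV.Ramified
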