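import Cfsg.Agent.Lib.KGV.SelfDualChar
import Cfsg.Agent.Lib.KGV.SplitDegree
import Mathlib.Algebra.Module.ZMod
import Mathlib.GroupTheory.GroupAction.CardCommute

/-!
# The real vector criterion `k(GV) ≤ |V|`
-/

set_option autoImplicit false

open scoped ComplexConjugate

namespace CfsgLib.KGV

universe u

/-- A character of degree prime to `p` is not divisible by `1 - ε` at an element of order `p`. -/
theorem not_piDvd_character_mul {n p : ℕ} [Fact p.Prime] (hn : 0 < n) (hpn : p ∣ n) {X : Type*}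
    [Group X] [Finite X] {d : ℕ} (ρ : Representation ℂ X (Fin d → ℂ)) {v : X} (hv : v ^ p = 1)
    (e : ℕ) (hd : ¬ p ∣ d * e) : ¬ PiDvd n p (ρ.character v * (e : ℂ)) := by
  intro h
  have hpr : p.Prime := Fact.out
  obtain ⟨μ, hμ, -, -, hpow⟩ := CfsgLib.Char.exists_eigenvalues ρ v
  have hval : ρ.character v = ∑ i, μ i := by simpa using hpow 1
  set ε : ℂ := ZMod.stdAddChar (1 : ZMod p)
  have hε1 : ε ≠ 1 := fun h1 => one_ne_zero
    (ZMod.injective_stdAddChar (h1.trans (AddChar.map_zero_eq_one _).symm))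
  have hε : IsPrimitiveRoot ε p :=
    orderOf_eq_prime (stdAddChar_pow_eq_one dvd_rfl 1) hε1 ▸ IsPrimitiveRoot.orderOf ε
  have hone : ∀ i, PiDvd n p (1 - μ i) := fun i => by
    have : NeZero p := ⟨hpr.ne_zero⟩
    obtain ⟨c, hc⟩ := orderOf_dvd_of_pow_eq_one hv
    obtain ⟨k, -, hk⟩ := hε.eq_pow_of_pow_eq_one (ξ := μ i) (by rw [hc, pow_mul, hμ, one_pow])
    rw [← hk, ← AddChar.map_nsmul_eq_pow]
    exact piDvd_one_sub hn hpn _
  refine hd (dvd_of_piDvd_natCast (n := n) ?_)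
  have heq : ((d * e : ℕ) : ℂ) = (∑ i, (1 - μ i)) * (e : ℂ) + ρ.character v * (e : ℂ) := by
    rw [hval, ← add_mul, Finset.sum_sub_distrib, sub_add_cancel, Nat.cast_mul]
    simp
  rw [heq]
  exact ((PiDvd.sum _ _ fun i _ => hone i).mul_right (natCast_mem_cycInt e)).add h

/-- The virtual character for a multiplicatively written self-dual module. -/
theorem exists_theta_of_commGroup {p : ℕ} [Fact p.Prime] {n : ℕ} {C : Type*} [Group C] [Fintype C]
    {W : Type*} [CommGroup W] [Finite W] (hn : 0 < n) (hC : Nat.card C ∣ n) (hpn : p ∣ n)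
    (hpC : ¬ p ∣ Nat.card C) (hexp : ∀ w : W, w ^ p = 1) (φ : C →* MulAut W) (β : W → W → ZMod p)
    (hl : ∀ u u' w, β (u * u') w = β u w + β u' w) (hr : ∀ u w w', β u (w * w') = β u w + β u w')
    (hinv : ∀ c u w, β (φ c u) (φ c w) = β u w) (hnd : ∀ u, (∀ w, β u w = 0) → u = 1) :
    ∃ θ : C → ℂ, IntVirt n θ ∧ θ 1 = 1 ∧ ∀ c,
      θ c * conj (θ c) * (Nat.card {u : W // φ c u = u} : ℂ) = Nat.card W ∧
      ((∃ u, φ c u ≠ u) → PiDvd n p (θ c)) := by
  have hexp' : ∀ a : Additive W, p • a = 0 := fun a => by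
    rw [← ofMul_toMul a, ← ofMul_pow, ← ofMul_one]
    exact congrArg Additive.ofMul (hexp a.toMul)
  have hmod : Module (ZMod p) (Additive W) := AddCommGroup.zmodModule hexp'
  let ρ₀ : C → Module.End (ZMod p) (Additive W) := fun c =>
    AddMonoidHom.toZModLinearMap p ((φ c : W ≃* W).toMonoidHom.toAdditive)
  let ρ : Representation (ZMod p) C (Additive W) :=
    { toFun := ρ₀
      map_one' := LinearMap.ext fun a => congrArg Additive.ofMul
        (show φ 1 a.toMul = a.toMul by rw [map_one]; rfl)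
      map_mul' := fun c d => LinearMap.ext fun a => congrArg Additive.ofMul
        (show φ (c * d) a.toMul = φ c (φ d a.toMul) by rw [map_mul]; rfl) }
  let B₀ : Additive W → (Additive W →ₗ[ZMod p] ZMod p) := fun a =>
    AddMonoidHom.toZModLinearMap p (AddMonoidHom.mk' (fun b : Additive W => β a.toMul b.toMul)
      fun b b' => hr _ _ _)
  let B : LinearMap.BilinForm (ZMod p) (Additive W) :=
    AddMonoidHom.toZModLinearMap p (AddMonoidHom.mk' B₀ fun a a' => LinearMap.ext fun b => hl _ _ _)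
  obtain ⟨θ, hθ, hθ1, hθc⟩ := goodTheta_of_selfDual hn hC hpn hpC ρ B
    (fun c a b => hinv c _ _) (fun a ha => congrArg Additive.ofMul (hnd a.toMul fun w => ha (Additive.ofMul w)))
  refine ⟨θ, hθ, hθ1, fun c => ⟨?_, fun ⟨u, hu⟩ => (hθc c).2
    ⟨Additive.ofMul u, fun h => hu (congrArg Additive.toMul h)⟩⟩⟩
  rw [Nat.card_congr (Additive.ofMul : W ≃ Additive W), ← (hθc c).1,
    Nat.card_congr (Additive.ofMul.subtypeEquiv (p := fun u : W => φ c u = u)
      (q := fun u : Additive W => ρ c u = u) fun u => ⟨fun h => congrArg Additive.ofMul h,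
        fun h => congrArg Additive.toMul h⟩)]

/-- The real vector criterion. -/
theorem class_number_le_of_real_vector {X : Type u} [Group X] [Finite X] (p : ℕ) [Fact p.Prime]
    (V : Subgroup X) [V.Normal] (hVexp : ∀ v ∈ V, v ^ p = 1) (hidx : ¬ p ∣ V.index)
    (hself : Subgroup.centralizer (V : Set X) = V) (G : Subgroup X)
    (hGV : Subgroup.IsComplement' V G) (v : X) (hv : v ∈ V) (U : Subgroup X) (hUV : U ≤ V)
    (hUinv : ∀ h ∈ G, h * v * h⁻¹ = v → ∀ u ∈ U, h * u * h⁻¹ ∈ U)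
    (hUfaith : ∀ h ∈ G, h * v * h⁻¹ = v → (∀ u ∈ U, h * u * h⁻¹ = u) → h = 1)
    (β : X → X → ZMod p) (hβl : ∀ u ∈ U, ∀ u' ∈ U, ∀ w ∈ U, β (u * u') w = β u w + β u' w)
    (hβr : ∀ u ∈ U, ∀ w ∈ U, ∀ w' ∈ U, β u (w * w') = β u w + β u w')
    (hβinv : ∀ h ∈ G, h * v * h⁻¹ = v → ∀ u ∈ U, ∀ w ∈ U, β (h * u * h⁻¹) (h * w * h⁻¹) = β u w)
    (hβnd : ∀ u ∈ U, (∀ w ∈ U, β u w = 0) → u = 1) :
    Nat.card (ConjClasses X) ≤ Nat.card V := by
  classical
  have hpr : p.Prime := Fact.out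
  let : Fintype X := Fintype.ofFinite X
  have hVab : ∀ a ∈ V, ∀ b ∈ V, a * b = b * a := fun a ha b hb => by
    rw [← hself] at ha
    exact (Subgroup.mem_centralizer_iff.mp ha b hb).symm
  set C : Subgroup X := G ⊓ Subgroup.centralizer ({v} : Set X) with hCdef
  let : Fintype ↥C := Fintype.ofFinite _
  have hCv : ∀ c : ↥C, (c : X) * v * (c : X)⁻¹ = v := fun c =>
    mul_inv_eq_iff_eq_mul.mpr (Subgroup.mem_centralizer_singleton_iff.mp c.2.2)
  have hidxG : V.index = Nat.card ↥G := hGV.symm.index_eq_card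
  have hpC : ¬ p ∣ Nat.card ↥C := fun h => hidx
    (hidxG ▸ h.trans (Subgroup.card_dvd_of_le inf_le_left))
  -- the module
  let : CommGroup ↥U :=
    { Subgroup.toGroup U with mul_comm := fun a b => Subtype.ext (hVab a (hUV a.2) b (hUV b.2)) }
  let φU : ↥C →* MulAut ↥U :=
    { toFun := fun c =>
        { toFun := fun a => ⟨(c : X) * a * (c : X)⁻¹, hUinv c c.2.1 (hCv c) _ a.2⟩
          invFun := fun a => ⟨((c⁻¹ : ↥C) : X) * a * ((c⁻¹ : ↥C) : X)⁻¹,
            hUinv _ (c⁻¹).2.1 (hCv c⁻¹) _ a.2⟩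
          left_inv := fun a => Subtype.ext (by simp [mul_assoc])
          right_inv := fun a => Subtype.ext (by simp [mul_assoc])
          map_mul' := fun a b => Subtype.ext (by simp [mul_assoc]) }
      map_one' := MulEquiv.ext fun a => Subtype.ext (by simp)
      map_mul' := fun c d => MulEquiv.ext fun a => Subtype.ext (by simp [mul_assoc]) }
  let n := Nat.card X * p
  have hn : 0 < n := Nat.mul_pos Nat.card_pos hpr.pos
  have hCn : Nat.card ↥C ∣ n := (Subgroup.card_subgroup_dvd_card C).mul_right p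
  have hpn : p ∣ n := dvd_mul_left p _
  obtain ⟨θ, hθ, hθ1, hθc⟩ := exists_theta_of_commGroup (W := ↥U) hn hCn hpn hpC
    (fun w => Subtype.ext (hVexp _ (hUV w.2))) φU (fun a b => β (a : X) (b : X))
    (fun u u' w => hβl _ u.2 _ u'.2 _ w.2) (fun u w w' => hβr _ u.2 _ w.2 _ w'.2)
    (fun c u w => hβinv c c.2.1 (hCv c) _ u.2 _ w.2)
    (fun u hu => Subtype.ext (hβnd _ u.2 fun w hw => hu ⟨w, hw⟩))
  have hθdvd : ∀ c : ↥C, c ≠ 1 → PiDvd n p (θ c) := fun c hc => by
    refine (hθc c).2 ?_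
    by_contra h
    push Not at h
    exact hc (Subtype.ext (hUfaith c c.2.1 (hCv c) fun u hu => congrArg Subtype.val (h ⟨u, hu⟩)))
  -- the functions `c ↦ χ (v c)`
  let H : Subgroup X := Subgroup.centralizer ({v} : Set X)
  let z : ↥H := ⟨v, Subgroup.mem_centralizer_singleton_iff.mpr rfl⟩
  let f : Cfsg.IrrCharacter X → ↥C → ℂ := fun χ c => (χ : X → ℂ) (v * (c : X))
  have hf : ∀ χ, IntVirt n (f χ) := fun χ =>
    IntVirt.slice hn (F := fun h : ↥H => (χ : X → ℂ) h)
      (CfsgLib.Char.IsCharacter.restrict (CfsgLib.Char.IsIrrCharacter.isCharacter χ.2) H)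
      (z := z) (Subgroup.mem_center_iff.mpr fun h =>
        Subtype.ext (Subgroup.mem_centralizer_singleton_iff.mp h.2))
      (Subtype.ext (by
        rw [SubmonoidClass.coe_pow]
        change v ^ n = 1
        rw [pow_mul, pow_card_eq_one', one_pow]))
      (Subgroup.inclusion inf_le_right)
  let : Fintype (Cfsg.IrrCharacter X) := Fintype.ofFinite _
  let : Fintype (Cfsg.IrrCharacter ↥C) := Fintype.ofFinite _
  let a : Cfsg.IrrCharacter X × Cfsg.IrrCharacter ↥C → ℂ := fun q =>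
    Cfsg.classInner (f q.1 * θ) (q.2 : ↥C → ℂ)
  have ha : ∀ q, a q ∈ cycInt n := fun q => ((hf q.1).mul hθ).2 q.2
  have hane : ∀ q, a q ≠ 0 := by
    intro q h0
    obtain ⟨dd, R, hR, hRe⟩ := q.1.2
    obtain ⟨e, -, he⟩ := CfsgLib.Char.IsIrrCharacter.exists_degree q.2.2
    obtain ⟨e', R', hR', hR'e⟩ := q.2.2
    have hdd : dd ∣ Nat.card ↥G := by
      simpa using finrank_dvd_card_complement R V G hVab hGV
    have hee : e = e' := by
      have h1 := congrFun hR'e 1
      rw [he, Representation.char_one, Module.finrank_fin_fun] at h1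
      exact_mod_cast h1.symm
    have hed : e ∣ Nat.card ↥C := by
      rw [hee]
      simpa using CfsgLib.Char.finrank_dvd_card R'
    refine not_piDvd_character_mul hn hpn R (hVexp v hv) e
      (fun h => (hpr.dvd_mul.mp h).elim (fun h1 => hidx (hidxG ▸ h1.trans hdd))
        fun h1 => hpC (h1.trans hed)) ?_
    have hsum : ∑ c : ↥C, (f q.1 c * θ c) * conj ((q.2 : ↥C → ℂ) c) = 0 :=
      (mul_eq_zero.mp h0).resolve_left (inv_ne_zero (Nat.cast_ne_zero.mpr Nat.card_pos.ne'))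
    rw [← Finset.add_sum_erase _ _ (Finset.mem_univ (1 : ↥C)), hθ1, he, Complex.conj_natCast,
      mul_one, add_eq_zero_iff_eq_neg] at hsum
    have hR1 : R.character v * (e : ℂ) = f q.1 1 * (e : ℂ) := by
      simp [f, hRe]
    rw [hR1, hsum, ← neg_one_mul]
    refine (PiDvd.sum _ _ fun c hc => ?_).mul_left (neg_mem (one_mem _))
    exact (((hθdvd c (Finset.ne_of_mem_erase hc)).mul_left ((hf q.1).apply_mem hn hCn c))).mul_right
      (conj_mem_cycInt hn ((IntVirt.of_isCharacter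
        (CfsgLib.Char.IsIrrCharacter.isCharacter q.2.2)).apply_mem hn hCn c))
  -- centralisers
  let φ : ↥C →* MulAut ↥V := (MulAut.conjNormal (H := V)).comp C.subtype
  have hφ : ∀ (c : ↥C) (x : ↥V), ((φ c x : ↥V) : X) = c * x * (c : X)⁻¹ := fun c x =>
    MulAut.conjNormal_apply (c : X) x
  have hfixc : ∀ (c : ↥C) (x : {x : ↥V // φ c x = x}), Commute ((x : ↥V) : X) (c : X) := fun c x => by
    have := (hφ c x.1).symm.trans (congrArg Subtype.val x.2)
    exact (mul_inv_eq_iff_eq_mul.mp this).symm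
  have hcent : ∀ c : ↥C, Nat.card ↥(Subgroup.centralizer ({v * (c : X)} : Set X)) =
      Nat.card {x : ↥V // φ c x = x} * Nat.card {g : ↥C // Commute c g} := by
    intro c
    have hcn : (c : X) ^ Nat.card ↥C = 1 := by
      rw [← SubmonoidClass.coe_pow, pow_card_eq_one', OneMemClass.coe_one]
    have hvc : Commute v (c : X) := (Subgroup.mem_centralizer_singleton_iff.mp c.2.2).symm
    have hsplit : ∀ x : X, Commute x (v * (c : X)) → Commute x v ∧ Commute x (c : X) := by
      intro x hx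
      have h1 : Commute x (v ^ Nat.card ↥C) := by
        have := hx.pow_right (Nat.card ↥C)
        rwa [hvc.mul_pow, hcn, mul_one] at this
      obtain ⟨i, hi⟩ := exists_pow_eq_self_of_coprime (x := v) (n := Nat.card ↥C)
        (Nat.Coprime.coprime_dvd_right (orderOf_dvd_of_pow_eq_one (hVexp v hv))
          (hpr.coprime_iff_not_dvd.mpr hpC).symm)
      have hxv : Commute x v := hi ▸ h1.pow_right i
      refine ⟨hxv, ?_⟩
      have := hxv.inv_right.mul_right hx
      rwa [inv_mul_cancel_left] at this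
    rw [← Nat.card_prod]
    refine (Nat.card_eq_of_bijective
      (fun q : {x : ↥V // φ c x = x} × {g : ↥C // Commute c g} => (⟨(q.1.1 : X) * q.2.1, ?_⟩ :
        ↥(Subgroup.centralizer ({v * (c : X)} : Set X)))) ⟨?_, ?_⟩).symm
    · rw [Subgroup.mem_centralizer_singleton_iff]
      exact ((Commute.mul_left (hVab _ q.1.1.2 v hv)
        (Subgroup.mem_centralizer_singleton_iff.mp q.2.1.2.2)).mul_right
        ((hfixc c q.1).mul_left (congrArg Subtype.val q.2.2.symm.eq :))).eq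
    · rintro ⟨x, g⟩ ⟨y, h⟩ he
      have := hGV.1 (a₁ := (x.1, ⟨g.1, g.1.2.1⟩)) (a₂ := (y.1, ⟨h.1, h.1.2.1⟩))
        (congrArg Subtype.val he)
      simp only [Prod.mk.injEq, Subtype.mk.injEq] at this
      exact Prod.ext (Subtype.ext this.1) (Subtype.ext (Subtype.ext this.2))
    · rintro ⟨w, hw⟩
      obtain ⟨⟨x, g⟩, rfl⟩ := hGV.2 w
      have hw' := Subgroup.mem_centralizer_singleton_iff.mp hw
      obtain ⟨h1, h2⟩ := hsplit _ hw'
      have hgC : (g : X) ∈ C := ⟨g.2, Subgroup.mem_centralizer_singleton_iff.mpr (by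
        have := (Commute.inv_left (hVab x x.2 v hv)).mul_left h1
        rwa [inv_mul_cancel_left] at this)⟩
      have hcx : φ c x = x ∧ Commute c ⟨g, hgC⟩ := by
        have hconj : (c : X) * ((x : X) * (g : X)) * (c : X)⁻¹ = (x : X) * (g : X) :=
          mul_inv_eq_iff_eq_mul.mpr h2.symm.eq
        have h3 := hGV.1 (a₁ := (φ c x, ⟨(c : X) * g * (c : X)⁻¹,
          G.mul_mem (G.mul_mem c.2.1 g.2) (G.inv_mem c.2.1)⟩)) (a₂ := (x, g)) (by
            change ((φ c x : ↥V) : X) * ((c : X) * g * (c : X)⁻¹) = (x : X) * g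
            rw [hφ]
            conv_rhs => rw [← hconj]
            group)
        simp only [Prod.mk.injEq] at h3
        exact ⟨h3.1, Subtype.ext (mul_inv_eq_iff_eq_mul.mp (congrArg Subtype.val h3.2))⟩
      exact ⟨(⟨x, hcx.1⟩, ⟨⟨g, hgC⟩, hcx.2⟩), rfl⟩
  have hfixle : ∀ c : ↥C, Nat.card ↥U * Nat.card {x : ↥V // φ c x = x} ≤
      Nat.card ↥V * Nat.card {x : ↥U // φU c x = x} := by
    intro c
    let F : Subgroup X := V ⊓ Subgroup.centralizer ({(c : X)} : Set X)
    have hF : Nat.card {x : ↥V // φ c x = x} = Nat.card ↥F := Nat.card_congr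
      { toFun := fun x => ⟨x.1, x.1.2, Subgroup.mem_centralizer_singleton_iff.mpr (hfixc c x).eq⟩
        invFun := fun x => ⟨⟨x, x.2.1⟩, Subtype.ext (by
          rw [hφ]
          exact mul_inv_eq_iff_eq_mul.mpr (Subgroup.mem_centralizer_singleton_iff.mp x.2.2).symm)⟩
        left_inv := fun x => rfl
        right_inv := fun x => rfl }
    have hUF : Nat.card {x : ↥U // φU c x = x} = Nat.card ↥(F ⊓ U) := Nat.card_congr
      { toFun := fun x => ⟨x.1, ⟨hUV x.1.2, Subgroup.mem_centralizer_singleton_iff.mpr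
          (mul_inv_eq_iff_eq_mul.mp (congrArg Subtype.val x.2)).symm⟩, x.1.2⟩
        invFun := fun x => ⟨⟨x, x.2.2⟩, Subtype.ext
          (mul_inv_eq_iff_eq_mul.mpr (Subgroup.mem_centralizer_singleton_iff.mp x.2.1.2).symm)⟩
        left_inv := fun x => rfl
        right_inv := fun x => rfl }
    rw [hF, hUF]
    have h1 : (F ⊓ U).relIndex U ≤ F.relIndex V := by
      rw [Subgroup.inf_relIndex_right]
      exact Subgroup.relIndex_le_of_le_right hUV (Subgroup.index_ne_zero_of_finite)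
    have h2 := Subgroup.relIndex_mul_relIndex ⊥ (F ⊓ U) U bot_le inf_le_right
    have h3 := Subgroup.relIndex_mul_relIndex ⊥ F V bot_le inf_le_left
    rw [Subgroup.relIndex_bot_left, Subgroup.relIndex_bot_left, mul_comm] at h2 h3
    calc Nat.card ↥U * Nat.card ↥F = (F ⊓ U).relIndex U * Nat.card ↥(F ⊓ U) * Nat.card ↥F := by
          rw [h2]
      _ ≤ F.relIndex V * Nat.card ↥(F ⊓ U) * Nat.card ↥F :=
          Nat.mul_le_mul_right _ (Nat.mul_le_mul_right _ h1)
      _ = Nat.card ↥V * Nat.card ↥(F ⊓ U) := by rw [← h3]; ring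
  -- the sum of the squares
  let N : ↥C → ℚ := fun c => (Nat.card ↥U : ℚ) / (Nat.card {x : ↥U // φU c x = x} : ℚ) *
    ((Nat.card {x : ↥V // φ c x = x} : ℚ) * (Nat.card {g : ↥C // Commute c g} : ℚ))
  have hfix0 : ∀ c, Nat.card {x : ↥U // φU c x = x} ≠ 0 := fun c => by
    have : Nonempty {x : ↥U // φU c x = x} := ⟨⟨1, map_one _⟩⟩
    exact Nat.card_pos.ne'
  have hsum : ∑ q, a q * conj (a q) = (((Nat.card ↥C : ℚ)⁻¹ * ∑ c, N c : ℚ) : ℂ) := by
    rw [Fintype.sum_prod_type]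
    simp only [a]
    rw [Finset.sum_congr rfl fun χ _ =>
      (CfsgLib.Char.classInner_eq_sum ((hf χ).mul hθ).1 ((hf χ).mul hθ).1).symm]
    simp only [Cfsg.classInner, ← Finset.mul_sum]
    rw [Finset.sum_comm, Rat.cast_mul, Rat.cast_inv, Rat.cast_natCast, Rat.cast_sum]
    congr 1
    refine Finset.sum_congr rfl fun c _ => ?_
    simp only [Pi.mul_apply, map_mul, f, mul_mul_mul_comm _ (θ c), ← Finset.sum_mul]
    rw [CfsgLib.Char.sum_mul_conj (v * (c : X)) (v * (c : X)), if_pos (IsConj.refl _), hcent c,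
      Nat.cast_mul]
    simp only [N, Rat.cast_mul, Rat.cast_div, Rat.cast_natCast]
    rw [← (hθc c).1, mul_div_assoc, div_self (Nat.cast_ne_zero.mpr (hfix0 c)), mul_one]
    ring
  have hle := card_le_of_sum_mul_conj hn Finset.univ a (fun q _ => ha q) (fun q _ => hane q) _ hsum
  rw [Finset.card_univ, Fintype.card_prod, ← Nat.card_eq_fintype_card, ← Nat.card_eq_fintype_card,
    CfsgLib.Char.card_irrCharacter, CfsgLib.Char.card_irrCharacter] at hle
  have hle' : ((Nat.card (ConjClasses X) * Nat.card (ConjClasses ↥C) : ℕ) : ℚ) ≤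
      (Nat.card ↥C : ℚ)⁻¹ * ∑ c, N c := by exact_mod_cast hle
  have hN : ∑ c, N c ≤ ((Nat.card ↥V * (Nat.card (ConjClasses ↥C) * Nat.card ↥C) : ℕ) : ℚ) := by
    rw [← card_comm_eq_card_conjClasses_mul_card,
      Nat.card_congr (Equiv.subtypeProdEquivSigmaSubtype fun g h : ↥C => Commute g h), Nat.card_sigma,
      Finset.mul_sum, Nat.cast_sum]
    refine Finset.sum_le_sum fun c _ => ?_
    simp only [N]
    rw [Nat.cast_mul, ← mul_assoc, div_mul_eq_mul_div]
    refine mul_le_mul_of_nonneg_right ?_ (Nat.cast_nonneg _)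
    rw [div_le_iff₀ (Nat.cast_pos.mpr (Nat.pos_of_ne_zero (hfix0 c)))]
    exact_mod_cast hfixle c
  have hC0 : (0 : ℚ) < Nat.card ↥C := Nat.cast_pos.mpr Nat.card_pos
  have hk0 : 0 < Nat.card (ConjClasses ↥C) := Nat.card_pos
  have h := hle'.trans (mul_le_mul_of_nonneg_left hN (inv_nonneg.mpr hC0.le))
  rw [Nat.cast_mul (Nat.card ↥V), Nat.cast_mul (Nat.card (ConjClasses ↥C)) (Nat.card ↥C),
    ← mul_assoc (Nat.card ↥V : ℚ), mul_comm _ (Nat.card ↥C : ℚ), inv_mul_cancel_left₀ hC0.ne',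
    ← Nat.cast_mul] at h
  exact Nat.le_of_mul_le_mul_right (by exact_mod_cast h) hk0

end CfsgLib.KGV
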