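import Cfsg.Agent.Lib.KGV.WeilChar
import Mathlib.LinearAlgebra.Dual.Lemmas

/-!
# Self-dual modules of groups of order prime to the characteristic

A faithful self-dual module `U` of a group `C` of order prime to `p` gives a virtual character `θ`
of `C` with `|θ(c)|² = |U : C_U(c)|`.
-/

set_option autoImplicit false

open scoped ComplexConjugate

namespace CfsgLib.KGV

universe u w

variable {p : ℕ} [Fact p.Prime] {n : ℕ} {C : Type u} [Group C] [Fintype C] {U : Type w}
  [AddCommGroup U] [Module (ZMod p) U] [Finite U]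

/-- A submodule stable under a representation. -/
def Stable (ρ : Representation (ZMod p) C U) (S : Submodule (ZMod p) U) : Prop :=
  ∀ c, ∀ x ∈ S, ρ c x ∈ S

/-- The representation on a stable submodule. -/
def subRep (ρ : Representation (ZMod p) C U) (S : Submodule (ZMod p) U) (hS : Stable ρ S) :
    Representation (ZMod p) C S where
  toFun c := (ρ c).restrict (hS c)
  map_one' := LinearMap.ext fun x => Subtype.ext (by simp)
  map_mul' c d := LinearMap.ext fun x => Subtype.ext (by simp)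

omit [Fintype C] [Finite U] in
@[simp] theorem subRep_apply (ρ : Representation (ZMod p) C U) (S : Submodule (ZMod p) U)
    (hS : Stable ρ S) (c : C) (x : S) : ((subRep ρ S hS c x : S) : U) = ρ c x := rfl

/-- A minimal nonzero stable submodule. -/
def MinStable (ρ : Representation (ZMod p) C U) (S : Submodule (ZMod p) U) : Prop :=
  Stable ρ S ∧ S ≠ ⊥ ∧ ∀ T, Stable ρ T → T ≤ S → T = ⊥ ∨ T = S

omit [Fintype C] in
theorem exists_minStable (ρ : Representation (ZMod p) C U) {X : Submodule (ZMod p) U}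
    (hX : Stable ρ X) (hX0 : X ≠ ⊥) : ∃ S, MinStable ρ S ∧ S ≤ X := by
  have : Finite (Submodule (ZMod p) U) := Finite.of_injective _ SetLike.coe_injective
  obtain ⟨S, ⟨hS1, hS2, hS3⟩, hmin⟩ := WellFounded.has_min
    (r := ((· < ·) : Submodule (ZMod p) U → Submodule (ZMod p) U → Prop)) wellFounded_lt
    {S | Stable ρ S ∧ S ≠ ⊥ ∧ S ≤ X} ⟨X, hX, hX0, le_rfl⟩
  refine ⟨S, ⟨hS1, hS2, fun T hT hle => ?_⟩, hS3⟩
  by_contra h
  push Not at h
  exact hmin T ⟨hT, h.1, hle.trans hS3⟩ (lt_of_le_of_ne hle h.2)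

omit [Finite U] in
/-- Stable complements (Maschke). -/
theorem exists_stable_compl (hpC : ¬ p ∣ Nat.card C) (ρ : Representation (ZMod p) C U)
    {L : Submodule (ZMod p) U} (hL : Stable ρ L) : ∃ X, Stable ρ X ∧ IsCompl L X := by
  have hN : (Nat.card C : ZMod p) ≠ 0 := fun h => hpC ((ZMod.natCast_eq_zero_iff _ _).mp h)
  obtain ⟨π₀, hπ₀⟩ := L.subtype.exists_leftInverse_of_injective L.ker_subtype
  let π : U →ₗ[ZMod p] U :=
    (Nat.card C : ZMod p)⁻¹ • ∑ c : C, ρ c ∘ₗ L.subtype ∘ₗ π₀ ∘ₗ ρ c⁻¹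
  have hπmem : ∀ x, π x ∈ L := fun x => by
    simp only [π, LinearMap.smul_apply, LinearMap.sum_apply, LinearMap.comp_apply]
    exact L.smul_mem _ (L.sum_mem fun c _ => hL c _ (Subtype.prop _))
  have hπid : ∀ x ∈ L, π x = x := fun x hx => by
    have h : ∀ c : C, ρ c (π₀ (ρ c⁻¹ x) : U) = x := fun c => by
      have h1 := LinearMap.congr_fun hπ₀ ⟨ρ c⁻¹ x, hL c⁻¹ x hx⟩
      simp only [LinearMap.comp_apply, Submodule.subtype_apply, LinearMap.id_apply] at h1
      rw [h1]
      simp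
    simp only [π, LinearMap.smul_apply, LinearMap.sum_apply, LinearMap.comp_apply,
      Submodule.subtype_apply, h, Finset.sum_const, Finset.card_univ, ← Nat.card_eq_fintype_card]
    rw [← Nat.cast_smul_eq_nsmul (ZMod p), inv_smul_smul₀ hN]
  have hπc : ∀ d x, π (ρ d x) = ρ d (π x) := fun d x => by
    simp only [π, LinearMap.smul_apply, LinearMap.sum_apply, LinearMap.comp_apply, map_smul, map_sum]
    congr 1
    refine Fintype.sum_equiv (Equiv.mulLeft d⁻¹) _ _ fun c => ?_
    simp [map_mul]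
  refine ⟨LinearMap.ker π, fun c x hx => ?_, ?_, ?_⟩
  · rw [LinearMap.mem_ker] at hx ⊢
    rw [hπc, hx, map_zero]
  · rw [Submodule.disjoint_def]
    intro x hx hx'
    rw [← hπid x hx]
    exact LinearMap.mem_ker.mp hx'
  · rw [codisjoint_iff, Submodule.eq_top_iff']
    intro x
    rw [← add_sub_cancel (π x) x]
    exact Submodule.add_mem_sup (hπmem x)
      (by rw [LinearMap.mem_ker, map_sub, hπid _ (hπmem x), sub_self])

theorem exists_minStable_not_le (hpC : ¬ p ∣ Nat.card C) (ρ : Representation (ZMod p) C U)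
    {L : Submodule (ZMod p) U} (hL : Stable ρ L) (hne : L ≠ ⊤) :
    ∃ T, MinStable ρ T ∧ ¬ T ≤ L := by
  obtain ⟨X, hX, hc⟩ := exists_stable_compl hpC ρ hL
  obtain ⟨T, hT, hTX⟩ := exists_minStable ρ hX fun h => hne (by
    have := hc.sup_eq_top
    rwa [h, sup_bot_eq] at this)
  exact ⟨T, hT, fun hle => hT.2.1 (le_bot_iff.mp (hc.inf_eq_bot ▸ le_inf hle hTX))⟩

omit [Finite U] in
/-- The product of two pieces. -/
theorem goodTheta_of_isCompl (hn : 0 < n) (hC : Nat.card C ∣ n) (ρ : Representation (ZMod p) C U)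
    (W X : Submodule (ZMod p) U) (hW : Stable ρ W) (hX : Stable ρ X) (hc : IsCompl W X)
    (h1 : GoodTheta n (subRep ρ W hW)) (h2 : GoodTheta n (subRep ρ X hX)) : GoodTheta n ρ := by
  obtain ⟨θ, hθ, hθ1, hθc⟩ := h1
  obtain ⟨η, hη, hη1, hηc⟩ := h2
  refine ⟨θ * η, hθ.mul hη, by simp [hθ1, hη1], fun c => ⟨?_, fun hu => ?_⟩⟩
  · let e := Submodule.prodEquivOfIsCompl W X hc
    have he : ∀ z, ρ c (e z) = e (subRep ρ W hW c z.1, subRep ρ X hX c z.2) := fun z => by
      simp [e]
    have hfix : Nat.card {u : U // ρ c u = u} =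
        Nat.card {u : W // subRep ρ W hW c u = u} * Nat.card {u : X // subRep ρ X hX c u = u} := by
      rw [← Nat.card_prod]
      refine Nat.card_congr ((e.toEquiv.subtypeEquiv fun z => ?_).symm.trans Equiv.subtypeProdEquivProd)
      rw [LinearEquiv.coe_toEquiv, he, e.injective.eq_iff, Prod.ext_iff]
    have hU : Nat.card U = Nat.card W * Nat.card X := by
      rw [← Nat.card_prod]
      exact (Nat.card_congr e.toEquiv).symm
    rw [hfix, hU, Nat.cast_mul, Nat.cast_mul, ← (hθc c).1, ← (hηc c).1, Pi.mul_apply, map_mul]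
    ring
  · rw [Pi.mul_apply]
    by_cases hw : ∃ u, subRep ρ W hW c u ≠ u
    · exact ((hθc c).2 hw).mul_right (hη.apply_mem hn hC c)
    · refine ((hηc c).2 ?_).mul_left (hθ.apply_mem hn hC c)
      by_contra hx
      push Not at hw hx
      obtain ⟨u, hu⟩ := hu
      obtain ⟨⟨a, b⟩, rfl⟩ := (Submodule.prodEquivOfIsCompl W X hc).surjective u
      refine hu ?_
      rw [Submodule.coe_prodEquivOfIsCompl', map_add, ← subRep_apply ρ W hW, ← subRep_apply ρ X hX,
        hw a, hx b]

omit [Fintype C] in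
theorem right_nondeg (β : LinearMap.BilinForm (ZMod p) U) (hnd : ∀ u, (∀ w, β u w = 0) → u = 0)
    {s : U} (hs : ∀ u, β u s = 0) : s = 0 := by
  have : Module.Finite (ZMod p) U := Module.Finite.of_finite
  refine (Module.forall_dual_apply_eq_zero_iff (ZMod p) s).mp fun f => ?_
  have hinj : Function.Injective β := by
    rw [← LinearMap.ker_eq_bot, Submodule.eq_bot_iff]
    intro u hu
    exact hnd u fun w => by rw [LinearMap.mem_ker.mp hu, LinearMap.zero_apply]
  obtain ⟨u, rfl⟩ := (LinearMap.injective_iff_surjective_of_finrank_eq_finrank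
    (Subspace.dual_finrank_eq (K := ZMod p) (V := U)).symm).mp hinj f
  exact hs u

theorem zmod_two_eq_one : ∀ x : ZMod 2, x ≠ 0 → x = 1 := by decide

theorem zmod_two_one_add : ∀ x : ZMod 2, 1 + x + (x + 1) = 0 := by decide

theorem zmod_two_two : (2 : ZMod 2) = 0 := by decide

/-- The irreducible case. -/
theorem goodTheta_of_irreducible (hn : 0 < n) (hC : Nat.card C ∣ n) (hpn : p ∣ n)
    (hpC : ¬ p ∣ Nat.card C) (ρ : Representation (ZMod p) C U)
    (hirr : ∀ S, Stable ρ S → S = ⊥ ∨ S = ⊤) (β : LinearMap.BilinForm (ZMod p) U)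
    (hinv : ∀ c u w, β (ρ c u) (ρ c w) = β u w) (hnd : ∀ u, (∀ w, β u w = 0) → u = 0) :
    GoodTheta n ρ := by
  let α : LinearMap.BilinForm (ZMod p) U := β - β.flip
  have hα : ∀ u w, α u w = β u w - β w u := fun u w => rfl
  let R : Submodule (ZMod p) U := LinearMap.ker α
  have hRmem : ∀ u, u ∈ R ↔ ∀ w, β u w = β w u := fun u => by
    rw [LinearMap.mem_ker]
    refine ⟨fun h w => ?_, fun h => LinearMap.ext fun w => by rw [hα, h w, sub_self]; rfl⟩
    rw [← sub_eq_zero, ← hα, h, LinearMap.zero_apply]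
  have hR : Stable ρ R := fun c u hu => (hRmem _).mpr fun w => by
    have h := (hRmem u).mp hu (ρ c⁻¹ w)
    rw [← hinv c, ← hinv c (ρ c⁻¹ w)] at h
    simpa using h
  rcases hirr R hR with h | h
  · refine goodTheta_of_alternating hn hC hpn hpC ρ α (fun c u w => by simp only [hα, hinv])
      (fun u => by rw [hα, sub_self]) fun u hu => ?_
    exact (Submodule.eq_bot_iff R).mp h u (LinearMap.mem_ker.mpr (LinearMap.ext hu))
  have hsym : ∀ u w, β u w = β w u := fun u => (hRmem u).mp (h ▸ Submodule.mem_top)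
  by_cases hp2 : p ≠ 2
  · exact goodTheta_of_symmetric hn hC hpn hpC hp2 ρ β hinv hsym hnd
  push Not at hp2
  subst hp2
  let D : Submodule (ZMod 2) U :=
    { carrier := {u | β u u = 0}
      zero_mem' := by simp
      add_mem' := fun {a b} ha hb => by
        simp only [Set.mem_ofPred_eq, map_add, LinearMap.add_apply] at *
        rw [ha, hb, hsym b a, zero_add, add_zero, ← two_mul]
        exact mul_eq_zero_of_left zmod_two_two _
      smul_mem' := fun r a ha => by
        simp only [Set.mem_ofPred_eq, map_smul, LinearMap.smul_apply] at *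
        rw [ha, smul_zero, smul_zero] }
  have hD : Stable ρ D := fun c u hu => by
    change β (ρ c u) (ρ c u) = 0
    rw [hinv]
    exact hu
  rcases hirr D hD with h | h
  · refine goodTheta_of_trivial ρ fun c u => ?_
    by_cases hu : u = 0
    · rw [hu, map_zero]
    have hone : ∀ v, v ≠ 0 → β v v = 1 := fun v hv => by
      have h1 : β v v ≠ 0 := fun h0 => hv ((Submodule.eq_bot_iff D).mp h v h0)
      exact zmod_two_eq_one _ h1
    have hcu : ρ c u ≠ 0 := fun h0 => hu (by simpa using congrArg (ρ c⁻¹) h0)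
    have h2 : ρ c u + u = 0 := (Submodule.eq_bot_iff D).mp h _ (by
      change β (ρ c u + u) (ρ c u + u) = 0
      simp only [map_add, LinearMap.add_apply, hsym u (ρ c u), hinv, hone u hu]
      exact zmod_two_one_add _)
    rw [eq_neg_of_add_eq_zero_left h2, neg_eq_iff_add_eq_zero, ← two_smul (ZMod 2), zmod_two_two,
      zero_smul]
  · exact goodTheta_of_alternating hn hC hpn hpC ρ β hinv
      (fun u => show u ∈ D from h ▸ Submodule.mem_top) hnd

/-- A minimal stable submodule paired nondegenerately with an isotropic one. -/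
theorem exists_partner (hpC : ¬ p ∣ Nat.card C) (ρ : Representation (ZMod p) C U)
    (β : LinearMap.BilinForm (ZMod p) U) (hinv : ∀ c u w, β (ρ c u) (ρ c w) = β u w)
    (hnd : ∀ u, (∀ w, β u w = 0) → u = 0) {S : Submodule (ZMod p) U} (hS : MinStable ρ S) :
    ∃ T, MinStable ρ T ∧ (∃ t ∈ T, ∃ s ∈ S, β s t ≠ 0) ∧ ∃ t ∈ T, ∃ s ∈ S, β t s ≠ 0 := by
  have : Module.Finite (ZMod p) U := Module.Finite.of_finite
  obtain ⟨s₀, hs₀, hs₀0⟩ := Submodule.exists_mem_ne_zero_of_ne_bot hS.2.1
  have hmove : ∀ c u w, β (ρ c u) w = β u (ρ c⁻¹ w) := fun c u w => by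
    conv_lhs => rw [← Representation.self_inv_apply ρ c w]
    rw [hinv]
  have hmove' : ∀ c u w, β u (ρ c w) = β (ρ c⁻¹ u) w := fun c u w => by
    rw [hmove, inv_inv]
  let L : Submodule (ZMod p) U :=
    { carrier := {u | ∀ s ∈ S, β s u = 0}
      zero_mem' := fun s _ => map_zero _
      add_mem' := fun ha hb s hs => by rw [map_add, ha s hs, hb s hs, add_zero]
      smul_mem' := fun r a ha s hs => by rw [map_smul, ha s hs, smul_zero] }
  let R : Submodule (ZMod p) U :=
    { carrier := {u | ∀ s ∈ S, β u s = 0}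
      zero_mem' := fun s _ => by simp
      add_mem' := fun ha hb s hs => by rw [map_add, LinearMap.add_apply, ha s hs, hb s hs, add_zero]
      smul_mem' := fun r a ha s hs => by rw [map_smul, LinearMap.smul_apply, ha s hs, smul_zero] }
  have hL : Stable ρ L := fun c u hu s hs => by
    rw [hmove']
    exact hu _ (hS.1 _ s hs)
  have hR : Stable ρ R := fun c u hu s hs => by
    rw [hmove]
    exact hu _ (hS.1 _ s hs)
  obtain ⟨T, hT, hTL⟩ := exists_minStable_not_le hpC ρ hL fun h =>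
    hs₀0 (hnd s₀ fun w => (show w ∈ L from h ▸ Submodule.mem_top) s₀ hs₀)
  obtain ⟨T', hT', hTR⟩ := exists_minStable_not_le hpC ρ hR fun h =>
    hs₀0 (right_nondeg β hnd fun w => (show w ∈ R from h ▸ Submodule.mem_top) s₀ hs₀)
  obtain ⟨t₁, ht₁, ht₁L⟩ := SetLike.not_le_iff_exists.mp hTL
  obtain ⟨t₂, ht₂, ht₂R⟩ := SetLike.not_le_iff_exists.mp hTR
  have hex1 : ∀ {u}, u ∉ L → ∃ s ∈ S, β s u ≠ 0 := fun {u} h => by
    by_contra h'
    push Not at h'
    exact h h'
  have hex2 : ∀ {u}, u ∉ R → ∃ s ∈ S, β u s ≠ 0 := fun {u} h => by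
    by_contra h'
    push Not at h'
    exact h h'
  by_cases hTR' : T ≤ R
  swap
  · obtain ⟨t, ht, htR⟩ := SetLike.not_le_iff_exists.mp hTR'
    exact ⟨T, hT, ⟨t₁, ht₁, hex1 ht₁L⟩, t, ht, hex2 htR⟩
  by_cases hTL' : T' ≤ L
  swap
  · obtain ⟨t, ht, htL⟩ := SetLike.not_le_iff_exists.mp hTL'
    exact ⟨T', hT', ⟨t, ht, hex1 htL⟩, t₂, ht₂, hex2 ht₂R⟩
  -- the diagonal of the two isomorphic submodules
  let A : T →ₗ[ZMod p] Module.Dual (ZMod p) S := (β.flip.compl₁₂ T.subtype S.subtype)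
  let B : T' →ₗ[ZMod p] Module.Dual (ZMod p) S := (β.compl₁₂ T'.subtype S.subtype)
  have hA : ∀ (t : T) (s : S), A t s = β s t := fun t s => rfl
  have hB : ∀ (t : T') (s : S), B t s = β t s := fun t s => rfl
  have hAbij : Function.Bijective A := by
    have hAi : Function.Injective A := by
      rw [← LinearMap.ker_eq_bot, Submodule.eq_bot_iff]
      intro t ht
      rcases hT.2.2 (L ⊓ T) (fun c x hx => ⟨hL c x hx.1, hT.1 c x hx.2⟩) inf_le_right with h | h
      · exact Subtype.ext ((Submodule.eq_bot_iff _).mp h _ ⟨fun s hs => by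
          rw [← hA t ⟨s, hs⟩, LinearMap.mem_ker.mp ht, LinearMap.zero_apply], t.2⟩)
      · exact absurd (inf_eq_right.mp h) hTL
    have hAi' : Function.Injective A.flip := by
      rw [← LinearMap.ker_eq_bot, Submodule.eq_bot_iff]
      intro s hs
      let K : Submodule (ZMod p) U := (LinearMap.ker A.flip).map S.subtype
      have hK : Stable ρ K := by
        rintro c _ ⟨s, hs, rfl⟩
        refine ⟨⟨ρ c s, hS.1 c s s.2⟩, LinearMap.mem_ker.mpr (LinearMap.ext fun t => ?_), rfl⟩
        change β (ρ c s) t = 0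
        rw [hmove]
        exact LinearMap.congr_fun (LinearMap.mem_ker.mp hs) ⟨ρ c⁻¹ t, hT.1 _ t t.2⟩
      rcases hS.2.2 K hK (Submodule.map_subtype_le S _) with h | h
      · exact Subtype.ext ((Submodule.eq_bot_iff _).mp h _ ⟨s, hs, rfl⟩)
      · exfalso
        obtain ⟨s₁, hs₁, hne⟩ := hex1 ht₁L
        obtain ⟨s', hs', hs'e⟩ := h.ge hs₁
        exact hne (hs'e ▸ LinearMap.congr_fun (LinearMap.mem_ker.mp hs') ⟨t₁, ht₁⟩)
    have h1 := LinearMap.finrank_le_finrank_of_injective hAi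
    have h2 := LinearMap.finrank_le_finrank_of_injective hAi'
    rw [Subspace.dual_finrank_eq] at h1 h2
    exact ⟨hAi, (LinearMap.injective_iff_surjective_of_finrank_eq_finrank
      (by rw [Subspace.dual_finrank_eq]; omega)).mp hAi⟩
  have hBbij : Function.Bijective B := by
    have hBi : Function.Injective B := by
      rw [← LinearMap.ker_eq_bot, Submodule.eq_bot_iff]
      intro t ht
      rcases hT'.2.2 (R ⊓ T') (fun c x hx => ⟨hR c x hx.1, hT'.1 c x hx.2⟩) inf_le_right with h | h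
      · exact Subtype.ext ((Submodule.eq_bot_iff _).mp h _ ⟨fun s hs => by
          rw [← hB t ⟨s, hs⟩, LinearMap.mem_ker.mp ht, LinearMap.zero_apply], t.2⟩)
      · exact absurd (inf_eq_right.mp h) hTR
    have hBi' : Function.Injective B.flip := by
      rw [← LinearMap.ker_eq_bot, Submodule.eq_bot_iff]
      intro s hs
      let K : Submodule (ZMod p) U := (LinearMap.ker B.flip).map S.subtype
      have hK : Stable ρ K := by
        rintro c _ ⟨s, hs, rfl⟩
        refine ⟨⟨ρ c s, hS.1 c s s.2⟩, LinearMap.mem_ker.mpr (LinearMap.ext fun t => ?_), rfl⟩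
        change β t (ρ c s) = 0
        rw [hmove']
        exact LinearMap.congr_fun (LinearMap.mem_ker.mp hs) ⟨ρ c⁻¹ t, hT'.1 _ t t.2⟩
      rcases hS.2.2 K hK (Submodule.map_subtype_le S _) with h | h
      · exact Subtype.ext ((Submodule.eq_bot_iff _).mp h _ ⟨s, hs, rfl⟩)
      · exfalso
        obtain ⟨s₁, hs₁, hne⟩ := hex2 ht₂R
        obtain ⟨s', hs', hs'e⟩ := h.ge hs₁
        exact hne (hs'e ▸ LinearMap.congr_fun (LinearMap.mem_ker.mp hs') ⟨t₂, ht₂⟩)
    have h1 := LinearMap.finrank_le_finrank_of_injective hBi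
    have h2 := LinearMap.finrank_le_finrank_of_injective hBi'
    rw [Subspace.dual_finrank_eq] at h1 h2
    exact ⟨hBi, (LinearMap.injective_iff_surjective_of_finrank_eq_finrank
      (by rw [Subspace.dual_finrank_eq]; omega)).mp hBi⟩
  let φ : T →ₗ[ZMod p] T' := (LinearEquiv.ofBijective B hBbij).symm.toLinearMap ∘ₗ A
  have hφ : ∀ (t : T) (s : U) (hs : s ∈ S), β (φ t) s = β s t := fun t s hs => by
    rw [← hA t ⟨s, hs⟩, ← hB (φ t) ⟨s, hs⟩]
    congr 1
    exact (LinearEquiv.ofBijective B hBbij).apply_symm_apply (A t)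
  have hφc : ∀ c (t : T), φ ⟨ρ c t, hT.1 c t t.2⟩ = ⟨ρ c (φ t), hT'.1 c _ (φ t).2⟩ := fun c t => by
    refine hBbij.1 (LinearMap.ext fun s => ?_)
    rw [hB, hB, hφ _ _ s.2]
    change β (s : U) (ρ c t) = β (ρ c (φ t)) s
    rw [hmove', hmove c]
    exact (hφ t _ (hS.1 _ _ s.2)).symm
  let g : T →ₗ[ZMod p] U := T.subtype + T'.subtype ∘ₗ φ
  have hgc : ∀ c (t : T), ρ c (g t) = g ⟨ρ c t, hT.1 c t t.2⟩ := fun c t => by
    simp only [g, LinearMap.add_apply, LinearMap.comp_apply, map_add, hφc]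
    rfl
  have hg1 : ∀ (t : T) (s : U), s ∈ S → β s (g t) = β s t := fun t s hs => by
    simp only [g, LinearMap.add_apply, LinearMap.comp_apply, Submodule.subtype_apply, map_add,
      hTL' (φ t).2 s hs, add_zero]
  have hg2 : ∀ (t : T) (s : U), s ∈ S → β (g t) s = β s t := fun t s hs => by
    simp only [g, LinearMap.add_apply, LinearMap.comp_apply, Submodule.subtype_apply, map_add,
      hTR' t.2 s hs, zero_add, hφ t s hs]
  obtain ⟨s₁, hs₁, hne⟩ := hex1 ht₁L
  refine ⟨LinearMap.range g, ⟨?_, ?_, ?_⟩, ⟨g ⟨t₁, ht₁⟩, ⟨_, rfl⟩, s₁, hs₁, ?_⟩,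
    g ⟨t₁, ht₁⟩, ⟨_, rfl⟩, s₁, hs₁, ?_⟩
  · rintro c _ ⟨t, rfl⟩
    exact ⟨_, (hgc c t).symm⟩
  · intro h
    refine hne ?_
    rw [← hg1 ⟨t₁, ht₁⟩ s₁ hs₁, (Submodule.eq_bot_iff _).mp h _ ⟨_, rfl⟩, map_zero]
  · intro Y hY hle
    let Z : Submodule (ZMod p) U := (Y.comap g).map T.subtype
    have hZ : Stable ρ Z := by
      rintro c _ ⟨t, ht, rfl⟩
      refine ⟨⟨ρ c t, hT.1 c t t.2⟩, ?_, rfl⟩
      change g _ ∈ Y
      rw [← hgc]
      exact hY c _ ht
    rcases hT.2.2 Z hZ (Submodule.map_subtype_le T _) with h | h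
    · left
      rw [Submodule.eq_bot_iff]
      intro y hy
      obtain ⟨t, rfl⟩ := hle hy
      rw [Subtype.ext ((Submodule.eq_bot_iff _).mp h _ ⟨t, hy, rfl⟩) (a2 := (0 : T)), map_zero]
    · right
      refine le_antisymm hle ?_
      rintro _ ⟨t, rfl⟩
      obtain ⟨t', ht', hte⟩ := h.ge t.2
      rwa [← Subtype.ext hte]
  · rwa [hg1 _ _ hs₁]
  · rwa [hg2 _ _ hs₁]

/-- The main existence theorem. -/
theorem goodTheta_of_selfDual (hn : 0 < n) (hC : Nat.card C ∣ n) (hpn : p ∣ n)
    (hpC : ¬ p ∣ Nat.card C) (ρ : Representation (ZMod p) C U)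
    (β : LinearMap.BilinForm (ZMod p) U) (hinv : ∀ c u w, β (ρ c u) (ρ c w) = β u w)
    (hnd : ∀ u, (∀ w, β u w = 0) → u = 0) : GoodTheta n ρ := by
  suffices h : ∀ (m : ℕ) (U : Type w) [AddCommGroup U] [Module (ZMod p) U] [Finite U],
      Nat.card U = m → ∀ (ρ : Representation (ZMod p) C U) (β : LinearMap.BilinForm (ZMod p) U),
      (∀ c u w, β (ρ c u) (ρ c w) = β u w) → (∀ u, (∀ w, β u w = 0) → u = 0) → GoodTheta n ρ from
    h _ U rfl ρ β hinv hnd
  intro m
  induction m using Nat.strong_induction_on with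
  | _ m ih =>
  intro U _ _ _ hm ρ β hinv hnd
  have : Module.Finite (ZMod p) U := Module.Finite.of_finite
  have hsplit : ∀ W, Stable ρ W → W ≠ ⊥ → W ≠ ⊤ →
      (∀ x ∈ W, (∀ y ∈ W, β x y = 0) → x = 0) → GoodTheta n ρ := by
    intro W hW hW0 hW1 hWnd
    let X : Submodule (ZMod p) U :=
      { carrier := {u | ∀ y ∈ W, β u y = 0}
        zero_mem' := fun y _ => by simp
        add_mem' := fun ha hb y hy => by rw [map_add, LinearMap.add_apply, ha y hy, hb y hy, add_zero]
        smul_mem' := fun r a ha y hy => by rw [map_smul, LinearMap.smul_apply, ha y hy, smul_zero] }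
    have hX : Stable ρ X := fun c u hu y hy => by
      conv_lhs => rw [← Representation.self_inv_apply ρ c y]
      rw [hinv]
      exact hu _ (hW _ y hy)
    have hc : IsCompl W X := by
      refine ⟨Submodule.disjoint_def.mpr fun x hx hx' => hWnd x hx hx', ?_⟩
      rw [codisjoint_iff, Submodule.eq_top_iff']
      intro u
      let B : W →ₗ[ZMod p] Module.Dual (ZMod p) W := β.compl₁₂ W.subtype W.subtype
      have hBi : Function.Injective B := by
        rw [← LinearMap.ker_eq_bot, Submodule.eq_bot_iff]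
        intro x hx
        exact Subtype.ext (hWnd x x.2 fun y hy =>
          LinearMap.congr_fun (LinearMap.mem_ker.mp hx) ⟨y, hy⟩)
      obtain ⟨x, hx⟩ := (LinearMap.injective_iff_surjective_of_finrank_eq_finrank
        (Subspace.dual_finrank_eq (K := ZMod p) (V := W)).symm).mp hBi ((β u).comp W.subtype)
      rw [← add_sub_cancel (x : U) u]
      refine Submodule.add_mem_sup x.2 fun y hy => ?_
      have h : β x y = β u y := LinearMap.congr_fun hx ⟨y, hy⟩
      rw [map_sub, LinearMap.sub_apply, h, sub_self]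
    have hcard : Nat.card U = Nat.card W * Nat.card X := by
      rw [← Nat.card_prod]
      exact (Nat.card_congr (Submodule.prodEquivOfIsCompl W X hc).toEquiv).symm
    have hone : ∀ {Y : Submodule (ZMod p) U}, Y ≠ ⊥ → 1 < Nat.card Y := fun {Y} h =>
      Finite.one_lt_card_iff_nontrivial.mpr ((Submodule.nontrivial_iff_ne_bot).mpr h)
    have hX0 : X ≠ ⊥ := fun h => hW1 (by simpa [h] using hc.sup_eq_top)
    have hlW : Nat.card W < m := by
      rw [← hm, hcard]
      exact lt_mul_of_one_lt_right Nat.card_pos (hone hX0)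
    have hlX : Nat.card X < m := by
      rw [← hm, hcard]
      exact lt_mul_of_one_lt_left Nat.card_pos (hone hW0)
    refine goodTheta_of_isCompl hn hC ρ W X hW hX hc
      (ih _ hlW W rfl (subRep ρ W hW) (β.compl₁₂ W.subtype W.subtype) (fun c u w => hinv c u w)
        fun x hx => Subtype.ext (hWnd x x.2 fun y hy => hx ⟨y, hy⟩))
      (ih _ hlX X rfl (subRep ρ X hX) (β.compl₁₂ X.subtype X.subtype) (fun c u w => hinv c u w)
        fun x hx => Subtype.ext (hnd x fun u => ?_))
    obtain ⟨⟨a, b⟩, rfl⟩ := (Submodule.prodEquivOfIsCompl W X hc).surjective u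
    rw [Submodule.coe_prodEquivOfIsCompl', map_add, x.2 a a.2, zero_add]
    exact hx b
  by_cases htriv : (⊤ : Submodule (ZMod p) U) = ⊥
  · refine goodTheta_of_trivial ρ fun c u => ?_
    have h0 : ∀ v : U, v = 0 := fun v => (Submodule.eq_bot_iff _).mp htriv v Submodule.mem_top
    rw [h0 (ρ c u), h0 u]
  by_cases hA : ∃ S, MinStable ρ S ∧ ∃ x ∈ S, ∃ y ∈ S, β x y ≠ 0
  · obtain ⟨S, hS, x, hx, y, hy, hxy⟩ := hA
    have hSnd : ∀ a ∈ S, (∀ b ∈ S, β a b = 0) → a = 0 := by
      let K : Submodule (ZMod p) U :=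
        { carrier := {a | a ∈ S ∧ ∀ b ∈ S, β a b = 0}
          zero_mem' := ⟨S.zero_mem, fun b _ => by simp⟩
          add_mem' := fun ha hb => ⟨S.add_mem ha.1 hb.1, fun c hc => by
            rw [map_add, LinearMap.add_apply, ha.2 c hc, hb.2 c hc, add_zero]⟩
          smul_mem' := fun r a ha => ⟨S.smul_mem r ha.1, fun c hc => by
            rw [map_smul, LinearMap.smul_apply, ha.2 c hc, smul_zero]⟩ }
      rcases hS.2.2 K (fun c a ha => ⟨hS.1 c a ha.1, fun b hb => by
        conv_lhs => rw [← Representation.self_inv_apply ρ c b]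
        rw [hinv]
        exact ha.2 _ (hS.1 _ b hb)⟩) (fun a ha => ha.1) with h | h
      · exact fun a ha hb => (Submodule.eq_bot_iff _).mp h a ⟨ha, hb⟩
      · exact absurd ((h.ge hx).2 y hy) hxy
    by_cases hS1 : S = ⊤
    · subst hS1
      exact goodTheta_of_irreducible hn hC hpn hpC ρ (fun T hT => hS.2.2 T hT le_top) β hinv hnd
    · exact hsplit S hS.1 hS.2.1 hS1 hSnd
  push Not at hA
  obtain ⟨S, hS, -⟩ := exists_minStable ρ (X := ⊤) (fun c x _ => Submodule.mem_top) htriv
  obtain ⟨T, hT, ⟨t₁, ht₁, s₁, hs₁, hst⟩, t₂, ht₂, s₂, hs₂, hts⟩ := exists_partner hpC ρ β hinv hnd hS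
  have hST : ∀ a ∈ S, (∀ b ∈ T, β a b = 0) → a = 0 := by
    let K : Submodule (ZMod p) U :=
      { carrier := {a | a ∈ S ∧ ∀ b ∈ T, β a b = 0}
        zero_mem' := ⟨S.zero_mem, fun b _ => by simp⟩
        add_mem' := fun ha hb => ⟨S.add_mem ha.1 hb.1, fun c hc => by
          rw [map_add, LinearMap.add_apply, ha.2 c hc, hb.2 c hc, add_zero]⟩
        smul_mem' := fun r a ha => ⟨S.smul_mem r ha.1, fun c hc => by
          rw [map_smul, LinearMap.smul_apply, ha.2 c hc, smul_zero]⟩ }
    rcases hS.2.2 K (fun c a ha => ⟨hS.1 c a ha.1, fun b hb => by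
      conv_lhs => rw [← Representation.self_inv_apply ρ c b]
      rw [hinv]
      exact ha.2 _ (hT.1 _ b hb)⟩) (fun a ha => ha.1) with h | h
    · exact fun a ha hb => (Submodule.eq_bot_iff _).mp h a ⟨ha, hb⟩
    · exact absurd ((h.ge hs₁).2 t₁ ht₁) hst
  have hTS : ∀ b ∈ T, (∀ a ∈ S, β b a = 0) → b = 0 := by
    let K : Submodule (ZMod p) U :=
      { carrier := {b | b ∈ T ∧ ∀ a ∈ S, β b a = 0}
        zero_mem' := ⟨T.zero_mem, fun b _ => by simp⟩
        add_mem' := fun ha hb => ⟨T.add_mem ha.1 hb.1, fun c hc => by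
          rw [map_add, LinearMap.add_apply, ha.2 c hc, hb.2 c hc, add_zero]⟩
        smul_mem' := fun r a ha => ⟨T.smul_mem r ha.1, fun c hc => by
          rw [map_smul, LinearMap.smul_apply, ha.2 c hc, smul_zero]⟩ }
    rcases hT.2.2 K (fun c a ha => ⟨hT.1 c a ha.1, fun b hb => by
      conv_lhs => rw [← Representation.self_inv_apply ρ c b]
      rw [hinv]
      exact ha.2 _ (hS.1 _ b hb)⟩) (fun a ha => ha.1) with h | h
    · exact fun a ha hb => (Submodule.eq_bot_iff _).mp h a ⟨ha, hb⟩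
    · exact absurd ((h.ge ht₂).2 s₂ hs₂) hts
  have hdisj : Disjoint S T := by
    rw [Submodule.disjoint_def]
    exact fun x hx hx' => hST x hx fun b hb => hA T hT x hx' b hb
  by_cases hW1 : S ⊔ T = ⊤
  swap
  · refine hsplit (S ⊔ T) (fun c x hx => ?_) (fun h => hS.2.1 (le_bot_iff.mp (h ▸ le_sup_left)))
      hW1 fun x hx hxy => ?_
    · obtain ⟨a, ha, b, hb, rfl⟩ := Submodule.mem_sup.mp hx
      rw [map_add]
      exact Submodule.add_mem_sup (hS.1 c a ha) (hT.1 c b hb)
    · obtain ⟨a, ha, b, hb, rfl⟩ := Submodule.mem_sup.mp hx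
      have hb0 : b = 0 := hTS b hb fun a' ha' => by
        have h := hxy a' (Submodule.mem_sup_left ha')
        rwa [map_add, LinearMap.add_apply, hA S hS a ha a' ha', zero_add] at h
      have ha0 : a = 0 := hST a ha fun b' hb' => by
        have h := hxy b' (Submodule.mem_sup_right hb')
        rwa [map_add, LinearMap.add_apply, hb0, map_zero, LinearMap.zero_apply, add_zero] at h
      rw [ha0, hb0, add_zero]
  have hc : IsCompl S T := ⟨hdisj, codisjoint_iff.mpr hW1⟩
  let P : U →ₗ[ZMod p] U := S.subtype ∘ₗ S.projectionOnto T hc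
  have hP : ∀ a ∈ S, ∀ b ∈ T, P (a + b) = a := fun a ha b hb => by
    simp only [P, LinearMap.comp_apply, map_add, Submodule.subtype_apply]
    rw [Submodule.projectionOnto_apply_left hc ⟨a, ha⟩,
      Submodule.projectionOnto_apply_right hc ⟨b, hb⟩, Submodule.coe_zero, add_zero]
  have hdec : ∀ x, ∃ a ∈ S, ∃ b ∈ T, a + b = x := fun x =>
    Submodule.mem_sup.mp (hW1 ▸ Submodule.mem_top)
  have hPc : ∀ c x, P (ρ c x) = ρ c (P x) := fun c x => by
    obtain ⟨a, ha, b, hb, rfl⟩ := hdec x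
    rw [hP a ha b hb, map_add, hP _ (hS.1 c a ha) _ (hT.1 c b hb)]
  refine goodTheta_of_alternating hn hC hpn hpC ρ (β ∘ₗ P - (β ∘ₗ P).flip) (fun c u w => ?_)
    (fun u => ?_) fun x hx => ?_
  · simp only [LinearMap.sub_apply, LinearMap.flip_apply, LinearMap.comp_apply, hPc, hinv]
  · simp only [LinearMap.sub_apply, LinearMap.flip_apply, LinearMap.comp_apply, sub_self]
  · simp only [LinearMap.sub_apply, LinearMap.flip_apply, LinearMap.comp_apply] at hx
    obtain ⟨a, ha, b, hb, rfl⟩ := hdec x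
    have ha0 : a = 0 := hST a ha fun b' hb' => by
      have h := hx (0 + b')
      rwa [hP a ha b hb, hP 0 S.zero_mem b' hb', map_zero, LinearMap.zero_apply, sub_zero,
        zero_add] at h
    have hb0 : b = 0 := by
      refine hTS b hb fun a' ha' => ?_
      by_contra hne
      have hK : ∀ s ∈ S, β s b = 0 := fun s hs => by
        have h := hx (s + 0)
        rw [hP a ha b hb, hP s hs 0 T.zero_mem, ha0, map_zero, LinearMap.zero_apply, zero_sub,
          neg_eq_zero, zero_add] at h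
        exact h
      refine hne ?_
      rw [right_nondeg β hnd (s := b) fun u => ?_, map_zero, LinearMap.zero_apply]
      obtain ⟨a'', ha'', b'', hb'', rfl⟩ := hdec u
      rw [map_add, LinearMap.add_apply, hK a'' ha'', hA T hT b'' hb'' b hb, add_zero]
    rw [ha0, hb0, add_zero]

end CfsgLib.KGV
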