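import Cfsg.Agent.Lib.Char.Twist
import Cfsg.Agent.Lib.Char.Clifford
import Cfsg.Agent.Lib.Char.Linear
import Cfsg.Agent.Lib.Char.Kernel
import Cfsg.Agent.Lib.Char.Orth
import Cfsg.Agent.Lib.Char.Integral
import Cfsg.Agent.Lib.CharDeep.Clifford
import Cfsg.Agent.Lib.CharDeep.PrimePowerDegrees
import Cfsg.Agent.Lib.Solvable.Core
import Cfsg.Agent.Lib.Solvable.Frattini
import Cfsg.Agent.Lib.FrattiniEmbed.Basic
import Cfsg.Agent.Lib.Transfer.PGroup
import Cfsg.Agent.Lib.PGroup.Basic
import Cfsg.Agent.Lib.Factor.DerivedLength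
import Cfsg.Prelude.Def_Blocks

/-!
# Solvable groups all of whose character degrees are squarefree
-/

set_option autoImplicit false

namespace CfsgLib.KGV

open Cfsg CfsgLib.Char
open scoped commutatorElement

universe u v

/-- If the centralizer of the derived group is central, the derived group is central. -/
theorem commutator_le_center_of_centralizer {X : Type u} [Group X] [Finite X] [Group.IsNilpotent X]
    (h : Subgroup.centralizer (commutator X : Set X) ≤ Subgroup.center X) :
    commutator X ≤ Subgroup.center X := by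
  let A₀ : Subgroup X := Subgroup.upperCentralSeriesStep (Subgroup.center X) ⊓ commutator X
  have hA₀ : A₀ ≤ Subgroup.center X := by
    rintro a ⟨ha, -⟩
    have hz : ∀ t, ⁅a, t⁆ ∈ Subgroup.center X := (Subgroup.mem_upperCentralSeriesStep _ a).1 ha
    let g : X →* Subgroup.center X :=
      { toFun := fun t => ⟨⁅a, t⁆, hz t⟩
        map_one' := Subtype.ext (commutatorElement_one_right a)
        map_mul' := fun s t => Subtype.ext (by
          change ⁅a, s * t⁆ = ⁅a, s⁆ * ⁅a, t⁆
          have e : ⁅a, s * t⁆ = ⁅a, s⁆ * (s * ⁅a, t⁆ * s⁻¹) := by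
            simp only [commutatorElement_def]
            group
          rw [e, Subgroup.mem_center_iff.1 (hz t) s, mul_inv_cancel_right]) }
    have hle : commutator X ≤ g.ker := by
      rw [commutator_def, Subgroup.commutator_le]
      intro x _ y _
      rw [MonoidHom.mem_ker, map_commutatorElement, commutatorElement_eq_one_iff_mul_comm]
      exact Subtype.ext (Subgroup.mem_center_iff.1 (g y).2 (g x))
    refine h (Subgroup.mem_centralizer_iff.2 fun c hc => ?_)
    exact (commutatorElement_eq_one_iff_mul_comm.1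
      (congrArg Subtype.val (MonoidHom.mem_ker.1 (hle hc)))).symm
  have : ((commutator X).map (QuotientGroup.mk' (Subgroup.center X))).Normal :=
    (inferInstance : (commutator X).Normal).map _ (QuotientGroup.mk'_surjective _)
  by_contra hne
  refine CfsgLib.Transfer.inf_center_ne_bot
    (N := (commutator X).map (QuotientGroup.mk' (Subgroup.center X)))
    (fun h => hne fun x hx => (QuotientGroup.eq_one_iff x).1
      ((Subgroup.eq_bot_iff_forall _).1 h _ ⟨x, hx, rfl⟩)) (eq_bot_iff.2 ?_)
  rintro _ ⟨⟨a, ha, rfl⟩, ha2⟩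
  refine Subgroup.mem_bot.2 ((QuotientGroup.eq_one_iff a).2 (hA₀ ⟨?_, ha⟩))
  rw [Subgroup.upperCentralSeriesStep_eq_comap_center]
  exact ha2

/-- An intertwiner of a representation with irreducible character is scalar. -/
theorem scalar_of_classInner_one {N : Type u} [Group N] [Fintype N] {d : ℕ}
    (σ : Representation ℂ N (Fin d → ℂ)) (h : classInner σ.character σ.character = 1)
    (T : Module.End ℂ (Fin d → ℂ)) (hT : ∀ n, T * σ n = σ n * T) : ∃ c : ℂ, T = c • 1 := by
  rw [classInner_character, Nat.cast_eq_one] at h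
  let f : Representation.IntertwiningMap σ σ := ⟨T, hT⟩
  let i : Representation.IntertwiningMap σ σ :=
    ⟨1, fun g => (one_mul (σ g)).trans (mul_one (σ g)).symm⟩
  by_cases hi : i = 0
  · refine ⟨0, LinearMap.ext fun v => ?_⟩
    have hv : v = 0 := by
      have h0 := DFunLike.congr_fun hi v
      exact h0
    simp [hv]
  obtain ⟨c, hc⟩ := (finrank_eq_one_iff_of_nonzero' i hi).1 h f
  exact ⟨c, LinearMap.ext fun v => (DFunLike.congr_fun hc v).symm⟩

/-- A `p`-group with all degrees at most `p` is metabelian. -/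
theorem derived_two_eq_bot {P : Type u} [Group P] [Finite P] (p : ℕ) [Fact p.Prime]
    (hP : IsPGroup p P)
    (h : ∀ (n : ℕ) (σ : Representation ℂ P (Fin n → ℂ)), σ.IsIrreducible → ¬ p ^ 2 ∣ n) :
    derivedSeries P 2 = ⊥ := by
  classical
  have hp : p.Prime := Fact.out
  let : Fintype P := Fintype.ofFinite P
  rw [Subgroup.eq_bot_iff_forall]
  intro g hg
  by_contra hg1
  obtain ⟨d, ρ, hρ, hρg⟩ := CharKernel.exists_irreducible_apply_ne_one g hg1
  apply hρg
  let N := commutator P
  let : Fintype N := Fintype.ofFinite N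
  have hg2 : g ∈ ⁅N, N⁆ := by
    have : derivedSeries P 2 = ⁅N, N⁆ := by rw [derivedSeries_succ, derivedSeries_one]
    rwa [this] at hg
  have hχ := isIrrCharacter_character ρ
  obtain ⟨θ, hθ, hθc⟩ := CfsgLib.Clifford.exists_constituent_res N hχ
  obtain ⟨t, ht0, ht⟩ := IsIrrCharacter.exists_degree hθ
  have hres := CfsgLib.Clifford.res_eq N hχ hθ hθc
  set c := CharDeep.Cliff.mult (fun n : N => ρ.character n) θ
  have hc : classInner (fun n : N => ρ.character n) θ = c :=
    CharDeep.Cliff.classInner_eq_mult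
      (CfsgLib.Clifford.isCharacter_res (IsIrrCharacter.isCharacter hχ) N)
      (IsIrrCharacter.isCharacter hθ)
  have hdeg : d = c * (CharTwist.inertia N θ).index * t := by
    have h1 := CfsgLib.Clifford.apply_one_eq N hχ hθ hθc
    rw [hc, ht, Representation.char_one, Module.finrank_fintype_fun_eq_card, Fintype.card_fin] at h1
    exact_mod_cast h1
  obtain ⟨k, hk⟩ := IsPGroup.iff_card.mp hP
  obtain ⟨j, -, hj⟩ := (Nat.dvd_prime_pow hp).1
    (hk ▸ (by simpa using CfsgLib.Char.finrank_dvd_card ρ) : d ∣ p ^ k)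
  have hdp : d ∣ p := by
    have hj1 : j ≤ 1 := by
      by_contra hj2
      exact h d ρ hρ (hj ▸ pow_dvd_pow p (show 2 ≤ j by omega))
    rw [hj]
    exact (pow_dvd_pow p hj1).trans (pow_one p).dvd
  rcases (Nat.dvd_prime hp).1 ((Dvd.intro_left _ hdeg.symm).trans hdp) with ht1 | htp
  · -- linear constituents
    have hval : ρ.character g = (Module.finrank ℂ (Fin d → ℂ) : ℂ) * 1 := by
      have hgN : g ∈ N := Subgroup.commutator_le_left N N hg2
      have hgm : (⟨g, hgN⟩ : N) ∈ commutator N := by
        rw [← Subgroup.map_subtype_commutator N] at hg2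
        obtain ⟨x, hx, hxg⟩ := hg2
        rwa [show (⟨g, hgN⟩ : N) = x from Subtype.ext hxg.symm]
      have h1 := congrFun hres ⟨g, hgN⟩
      have h2 := congrFun hres 1
      simp only [Pi.smul_apply, Finset.sum_apply, smul_eq_mul, OneMemClass.coe_one] at h1 h2
      rw [mul_one, ← Representation.char_one ρ, h1, h2]
      congr 1
      refine Finset.sum_congr rfl fun ψ hψ => ?_
      obtain ⟨y, rfl⟩ := (CfsgLib.Clifford.mem_orbit N).mp hψ
      obtain ⟨f, hf⟩ := (isIrrCharacter_degree_one_iff (χ := CharTwist.conjFun N θ y)).1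
        ⟨CharTwist.isIrrCharacter_conjFun N hθ y, by
          change θ _ = 1
          rw [show (⟨y * ((1 : N) : P) * y⁻¹, _⟩ : N) = 1 from Subtype.ext (by simp), ht, ht1,
            Nat.cast_one]⟩
      rw [hf]
      have hfg : f ⟨g, hgN⟩ = 1 := MonoidHom.mem_ker.1 (Abelianization.commutator_subset_ker f hgm)
      simp [hfg]
    rw [eq_smul_id_of_character_eq ρ g 1 (by simp) hval, one_smul]
    rfl
  · -- irreducible restriction
    have htd : d = p := Nat.dvd_antisymm hdp (htp ▸ Dvd.intro_left _ hdeg.symm)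
    have h11 : c * (CharTwist.inertia N θ).index = 1 := by
      rw [htd, htp] at hdeg
      exact (Nat.eq_of_mul_eq_mul_right hp.pos ((one_mul p).trans hdeg)).symm
    have horb : CfsgLib.Clifford.orbit N θ = {θ} := by
      obtain ⟨ψ, hψ⟩ := Finset.card_eq_one.1
        ((CfsgLib.Clifford.card_orbit N θ).trans (Nat.eq_one_of_mul_eq_one_left h11))
      have := CfsgLib.Clifford.self_mem_orbit N θ
      rw [hψ, Finset.mem_singleton] at this
      rw [hψ, this]
    have hkey : (fun n : N => ρ.character n) = θ := by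
      rw [hres, horb, hc, Nat.eq_one_of_mul_eq_one_right h11, Nat.cast_one, one_smul,
        Finset.sum_singleton]
    let σ : Representation ℂ N (Fin d → ℂ) := ρ.comp N.subtype
    have hσ : classInner σ.character σ.character = 1 := by
      rw [show σ.character = θ from hkey]
      exact classInner_irr_self hθ
    let R : P →* (Module.End ℂ (Fin d → ℂ))ˣ := MonoidHom.toHomUnits ρ
    have hnil : Group.IsNilpotent R.range :=
      (hP.of_surjective R.rangeRestrict R.rangeRestrict_surjective).isNilpotent
    have hN : N.map R.rangeRestrict = commutator R.range := by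
      rw [show N = ⁅(⊤ : Subgroup P), ⊤⁆ from rfl, Subgroup.map_commutator,
        Subgroup.map_top_of_surjective _ R.rangeRestrict_surjective]
      rfl
    have hcen : commutator R.range ≤ Subgroup.center R.range := by
      refine commutator_le_center_of_centralizer fun x hx => ?_
      obtain ⟨y, rfl⟩ := R.rangeRestrict_surjective x
      obtain ⟨s, hs⟩ := scalar_of_classInner_one σ hσ (ρ y) fun n => by
        have h1 := Subgroup.mem_centralizer_iff.1 hx (R.rangeRestrict (n : P))
          (hN ▸ ⟨n, n.2, rfl⟩)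
        exact (congrArg (fun w : R.range => ((w : (Module.End ℂ (Fin d → ℂ))ˣ) :
          Module.End ℂ (Fin d → ℂ))) h1).symm
      refine Subgroup.mem_center_iff.2 fun z => ?_
      obtain ⟨z, rfl⟩ := R.rangeRestrict_surjective z
      refine Subtype.ext (Units.ext ?_)
      change ρ z * ρ y = ρ y * ρ z
      rw [hs, mul_smul_comm, smul_mul_assoc, mul_one, one_mul]
    have hgb : R.rangeRestrict g ∈ ⁅commutator R.range, commutator R.range⁆ := by
      rw [← hN, ← Subgroup.map_commutator]
      exact ⟨g, hg2, rfl⟩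
    have hbot : ⁅commutator R.range, commutator R.range⁆ = ⊥ := by
      rw [Subgroup.commutator_eq_bot_iff_le_centralizer]
      exact fun x hx => Subgroup.mem_centralizer_iff.2 fun y _ =>
        (Subgroup.mem_center_iff.1 (hcen hx) y)
    rw [hbot, Subgroup.mem_bot] at hgb
    exact congrArg (fun w : R.range => ((w : (Module.End ℂ (Fin d → ℂ))ˣ) :
      Module.End ℂ (Fin d → ℂ))) hgb

/-- A `p`-group acting faithfully on an abelian `p'`-group with all orbits of size at most `p` has
order at most `p`. -/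
theorem card_dvd_of_orbits {L : Type v} [CommGroup L] [Finite L] {P : Type u} [Group P] [Finite P]
    {p : ℕ} [Fact p.Prime] (hP : IsPGroup p P) (φ : P →* MulAut L) (hφ : Function.Injective φ)
    (hcop : (Nat.card L).Coprime p)
    (hidx : ∀ v : L, ((MulAction.stabilizer (MulAut L) v).comap φ).index ∣ p) :
    Nat.card P ∣ p := by
  classical
  have hp : p.Prime := Fact.out
  obtain ⟨k, hk⟩ := IsPGroup.iff_card.mp hP
  rcases Nat.eq_zero_or_pos k with hk0 | hk0
  · rw [hk, hk0, pow_zero]
    exact one_dvd p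
  let S : L → Subgroup P := fun v => (MulAction.stabilizer (MulAut L) v).comap φ
  have hmem : ∀ a v, a ∈ S v ↔ φ a v = v := fun a v => Iff.rfl
  have hSn : ∀ v, (S v).Normal := by
    intro v
    rcases (Nat.dvd_prime hp).1 (hidx v) with h1 | h1
    · rw [show S v = ⊤ from Subgroup.index_eq_one.1 h1]
      infer_instance
    · refine Subgroup.normal_of_index_eq_minFac_card ?_
      rw [h1, hk, hp.pow_minFac hk0.ne']
  have hquot : ∀ v (a b : P), ⁅a, b⁆ ∈ S v ∧ a ^ p ∈ S v := by
    intro v a b
    have := hSn v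
    have hcyc : IsCyclic (P ⧸ S v) := by
      rcases (Nat.dvd_prime hp).1 (hidx v) with h1 | h1
      · have : Subsingleton (P ⧸ S v) := (Nat.card_eq_one_iff_unique.1 h1).1
        infer_instance
      · exact isCyclic_of_prime_card (p := p) h1
    let : CommGroup (P ⧸ S v) := IsCyclic.commGroup
    constructor
    · rw [← QuotientGroup.eq_one_iff]
      change QuotientGroup.mk' (S v) ⁅a, b⁆ = 1
      rw [map_commutatorElement, commutatorElement_eq_one_iff_mul_comm]
      exact mul_comm _ _
    · obtain ⟨m, hm⟩ := hidx v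
      rw [← QuotientGroup.eq_one_iff, QuotientGroup.mk_pow, hm, pow_mul, Subgroup.index,
        pow_card_eq_one', one_pow]
  have hab : ∀ a b : P, a * b = b * a := fun a b =>
    commutatorElement_eq_one_iff_mul_comm.1 (hφ (by
      rw [map_one]
      exact MulEquiv.ext fun v => (hmem _ v).1 (hquot v a b).1))
  have hexp : ∀ a : P, φ (a ^ p) = 1 := fun a => MulEquiv.ext fun v => (hmem _ v).1 (hquot v a a).2
  let δ : P → L →* L := fun a =>
    { toFun := fun z => φ a z / z
      map_one' := by simp
      map_mul' := fun x y => by rw [map_mul, mul_div_mul_comm] }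
  have hδ : ∀ a z, δ a z = φ a z / z := fun a z => rfl
  have hδφ : ∀ a c z, φ c (δ a z) = δ a (φ c z) := by
    intro a c z
    rw [hδ, hδ, map_div, ← MulAut.mul_apply, ← MulAut.mul_apply, ← map_mul, ← map_mul, hab]
  have hδ2 : ∀ a y, δ a (δ a y) = 1 → δ a y = 1 := by
    intro a y hy
    set z := δ a y with hz
    have hz1 : φ a z = z := div_eq_one.1 hy
    have hi : ∀ i : ℕ, φ (a ^ i) y = y * z ^ i := by
      intro i
      induction i with
      | zero => simp
      | succ i ih =>
        rw [pow_succ', map_mul, MulAut.mul_apply, ih, map_mul, map_pow, hz1, pow_succ', ← mul_assoc]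
        congr 1
        rw [hz, hδ, mul_div_cancel]
    have hzp : z ^ p = 1 := by
      have h1 := hi p
      rw [hexp] at h1
      exact (mul_eq_left.1 h1.symm)
    exact orderOf_eq_one_iff.1 (Nat.eq_one_of_dvd_coprimes hcop (orderOf_dvd_natCard z)
      (orderOf_dvd_of_pow_eq_one hzp))
  obtain ⟨lam, hlam⟩ : ∃ v, (S v).index = p := by
    by_contra hne
    simp only [not_exists] at hne
    have h1 : Subsingleton P := ⟨fun a b => hφ (MulEquiv.ext fun v => by
      have htop : S v = ⊤ := Subgroup.index_eq_one.1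
        (((Nat.dvd_prime hp).1 (hidx v)).resolve_right (hne v))
      rw [(hmem a v).1 (htop ▸ Subgroup.mem_top a : a ∈ S v),
        (hmem b v).1 (htop ▸ Subgroup.mem_top b : b ∈ S v)])⟩
    have h2 : Nat.card P = 1 := Nat.card_eq_one_iff_unique.2 ⟨h1, ⟨1⟩⟩
    rw [hk] at h2
    exact (Nat.one_lt_pow hk0.ne' hp.one_lt).ne' h2
  by_cases hA : S lam = ⊥
  · rw [← Subgroup.index_bot, ← hA, hlam]
  exfalso
  obtain ⟨a, ha, ha1⟩ := (Subgroup.bot_or_exists_ne_one (S lam)).resolve_left hA
  obtain ⟨μ, hμ⟩ : ∃ μ, φ a μ ≠ μ := by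
    by_contra hne
    simp only [not_exists, not_not] at hne
    exact ha1 (hφ (by rw [map_one]; exact MulEquiv.ext hne))
  set v := lam * δ a μ with hv
  have hδlam : δ a lam = 1 := div_eq_one.2 ((hmem a lam).1 ha)
  have hle : S v ≤ S lam := by
    intro c hc
    have hc' : φ c v = v := (hmem c v).1 hc
    have h1 : φ c (δ a (δ a μ)) = δ a (δ a μ) := by
      have h2 := congrArg (δ a) hc'
      rw [hv, map_mul, map_mul, map_mul, hδlam, one_mul, ← hδφ, ← hδφ, hδlam, map_one, one_mul] at h2
      exact h2
    have hcμ : φ c (δ a μ) = δ a μ := by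
      have h3 : δ a (δ a (φ c μ / μ)) = 1 := by
        rw [map_div, map_div, ← hδφ, ← hδφ, h1, div_self']
      have h4 := hδ2 a _ h3
      rwa [map_div, ← hδφ, div_eq_one] at h4
    rw [hmem]
    rw [hv, map_mul, hcμ] at hc'
    exact mul_right_cancel hc'
  have hav : a ∉ S v := by
    rw [hmem, hv, map_mul, (hmem a lam).1 ha]
    intro h1
    exact hμ (div_eq_one.1 (hδ2 a μ (div_eq_one.2 (mul_left_cancel h1))))
  rcases (Nat.dvd_prime hp).1 (hidx v) with h1 | h1
  · exact hav (by rw [show S v = ⊤ from Subgroup.index_eq_one.1 h1]; trivial)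
  · refine hav ?_
    rcases hle.eq_or_lt with h2 | h2
    · rw [h2]; exact ha
    · exact absurd (Subgroup.index_strictAnti h2) (by rw [hlam, show (S v).index = p from h1]; simp)

variable {G : Type u} [Group G] [Finite G]

/-- Squarefree degrees pass to normal subgroups. -/
theorem squarefree_degrees_normal
    (h : ∀ χ : IrrCharacter G, Squarefree (charDegree (χ : G → ℂ))) (N : Subgroup G) [N.Normal]
    (θ : IrrCharacter N) : Squarefree (charDegree (θ : N → ℂ)) := by
  obtain ⟨χ, m, hm⟩ := CharDeep.PPowDeg.exists_overchar N θ.2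
  obtain ⟨t, -, ht⟩ := IsIrrCharacter.exists_degree θ.2
  refine Squarefree.squarefree_of_dvd ?_ (h χ)
  have h1 : charDegree (χ : G → ℂ) = m * charDegree (θ : N → ℂ) := by
    simp only [charDegree, hm, ht]
    rw [← Nat.cast_mul, Complex.natCast_re, Nat.floor_natCast, Complex.natCast_re, Nat.floor_natCast]
  exact h1 ▸ Dvd.intro_left m rfl

/-- A nilpotent group with squarefree degrees is metabelian. -/
theorem derived_two_eq_bot_of_nilpotent [Group.IsNilpotent G]
    (h : ∀ χ : IrrCharacter G, Squarefree (charDegree (χ : G → ℂ))) : derivedSeries G 2 = ⊥ := by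
  classical
  obtain ⟨e⟩ := ((Group.isNilpotent_of_finite_tfae (G := G)).out 0 4 rfl rfl).1 ‹Group.IsNilpotent G›
  rw [Subgroup.eq_bot_iff_forall]
  intro g hg
  refine e.symm.injective (funext fun r => funext fun P => ?_)
  have : Fact (r : ℕ).Prime := ⟨Nat.prime_of_mem_primeFactors r.2⟩
  have hn : (P : Subgroup G).Normal :=
    Sylow.normal_of_normalizerCondition Group.normalizerCondition_of_isNilpotent P
  let π : G →* (P : Subgroup G) :=
    ((Pi.evalMonoidHom _ P).comp (Pi.evalMonoidHom _ r)).comp e.symm.toMonoidHom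
  have hb := derived_two_eq_bot (r : ℕ) P.isPGroup' fun n σ hσ hdvd => by
    have hsq := squarefree_degrees_normal h (P : Subgroup G) ⟨σ.character, ⟨n, σ, hσ, rfl⟩⟩
    have hn' : charDegree (G := (P : Subgroup G)) σ.character = n := by simp [charDegree]
    rw [hn'] at hsq
    exact (Fact.out : (r : ℕ).Prime).ne_one
      (Nat.isUnit_iff.1 (hsq _ (by rw [← sq]; exact hdvd)))
  have hπg : π g ∈ derivedSeries (P : Subgroup G) 2 :=
    map_derivedSeries_le_derivedSeries π 2 ⟨g, hg, rfl⟩
  rw [hb, Subgroup.mem_bot] at hπg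
  exact hπg.trans (congrFun (congrFun (map_one e.symm) r) P).symm

/-- For squarefree degrees, each `O_r(G / F(G))` has order at most `r`. -/
theorem card_pCore_quotient_fitting [Group.IsSolvable G] [(fittingSubgroup G).Normal]
    (h : ∀ χ : IrrCharacter G, Squarefree (charDegree (χ : G → ℂ))) (r : ℕ) [Fact r.Prime] :
    Nat.card (pCore r (G ⧸ fittingSubgroup G)) ∣ r := by
  classical
  let : Fintype G := Fintype.ofFinite G
  have hr : r.Prime := Fact.out
  set F := fittingSubgroup G with hFdef
  set R := pCore r G with hRdef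
  have hRn : R.Normal := Solvable.pCore_normal r G
  have hRF : R ≤ F := Solvable.pCore_le_fittingSubgroup
  let P := pCore r (G ⧸ F)
  have hPn : P.Normal := Solvable.pCore_normal r _
  have hPp : IsPGroup r P := Solvable.pCore_isPGroup r _
  let : Fintype F := Fintype.ofFinite F
  have hFin : Finite (F →* ℂˣ) := Finite.of_equiv _ (linearCharEquiv (G := F)).symm
  let L : Subgroup (F →* ℂˣ) :=
    { carrier := {lam | ∀ x : F, (x : G) ∈ R → lam x = 1}
      one_mem' := fun x _ => rfl
      mul_mem' := fun h1 h2 x hx => by rw [MonoidHom.mul_apply, h1 x hx, h2 x hx, one_mul]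
      inv_mem' := fun h1 x hx => by rw [MonoidHom.inv_apply, h1 x hx, inv_one] }
  let act : G → L → L := fun g lam =>
    ⟨(lam : F →* ℂˣ).comp (MulAut.conjNormal (H := F) g⁻¹).toMonoidHom, fun x hx => lam.2 _ (by
      change ((MulAut.conjNormal (H := F) g⁻¹ x : F) : G) ∈ R
      rw [MulAut.conjNormal_apply]
      exact hRn.conj_mem _ hx g⁻¹)⟩
  have hact : ∀ g (lam : L) (x : F),
      (act g lam : F →* ℂˣ) x = (lam : F →* ℂˣ) (MulAut.conjNormal (H := F) g⁻¹ x) :=
    fun _ _ _ => rfl
  have hact1 : ∀ lam, act 1 lam = lam := fun lam => Subtype.ext (MonoidHom.ext fun x => by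
    rw [hact]; simp)
  have hactm : ∀ a b lam, act (a * b) lam = act a (act b lam) := fun a b lam =>
    Subtype.ext (MonoidHom.ext fun x => by
      rw [hact, hact, hact, mul_inv_rev, map_mul, MulAut.mul_apply])
  let ψ : G →* MulAut L :=
    { toFun := fun g =>
        { toFun := act g
          invFun := act g⁻¹
          left_inv := fun lam => by rw [← hactm, inv_mul_cancel, hact1]
          right_inv := fun lam => by rw [← hactm, mul_inv_cancel, hact1]
          map_mul' := fun a b => Subtype.ext (MonoidHom.ext fun x => rfl) }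
      map_one' := MulEquiv.ext hact1
      map_mul' := fun a b => MulEquiv.ext (hactm a b) }
  have hFker : F ≤ ψ.ker := fun f hf => MonoidHom.mem_ker.2 (MulEquiv.ext fun lam =>
    Subtype.ext (MonoidHom.ext fun x => by
      change (act f lam : F →* ℂˣ) x = (lam : F →* ℂˣ) x
      rw [hact, show MulAut.conjNormal (H := F) f⁻¹ x = ⟨f, hf⟩⁻¹ * x * ⟨f, hf⟩ from
        Subtype.ext (by simp [MulAut.conjNormal_apply]), map_mul, map_mul, map_inv,
        mul_comm _ ((lam : F →* ℂˣ) x), mul_assoc, inv_mul_cancel, mul_one]))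
  let φ : P →* MulAut L := (QuotientGroup.lift F ψ hFker).comp P.subtype
  -- coprimality
  have hcop : (Nat.card L).Coprime r := by
    refine (Nat.Coprime.symm ((hr.coprime_iff_not_dvd).2 fun hdvd => ?_))
    obtain ⟨lam, hlam⟩ := exists_prime_orderOf_dvd_card' r hdvd
    have hR' : (R.subgroupOf F).Normal := Subgroup.normal_subgroupOf
    have hidx : ¬ r ∣ (R.subgroupOf F).index := by
      have hFnil : Group.IsNilpotent F := Solvable.fittingSubgroup_isNilpotent G
      obtain ⟨S'⟩ : Nonempty (Sylow r F) := inferInstance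
      have hS'n : (S' : Subgroup F).Normal :=
        Sylow.normal_of_normalizerCondition Group.normalizerCondition_of_isNilpotent S'
      have : (S' : Subgroup F).Characteristic := Sylow.characteristic_of_normal S' hS'n
      have hle : (S' : Subgroup F).map F.subtype ≤ R :=
        Solvable.le_pCore ConjAct.normal_of_characteristic_of_normal (S'.isPGroup'.map _)
      exact fun h => S'.not_dvd_index (h.trans (Subgroup.index_dvd_of_le fun x hx =>
        Subgroup.mem_subgroupOf.2 (hle ⟨x, hx, rfl⟩)))
    have h1 : lam = 1 := by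
      refine Subtype.ext (MonoidHom.ext fun x => orderOf_eq_one_iff.1 ?_)
      refine Nat.eq_one_of_dvd_coprimes ((hr.coprime_iff_not_dvd).2 hidx) ?_ ?_
      · refine orderOf_dvd_of_pow_eq_one ?_
        have h2 := pow_orderOf_eq_one lam
        rw [hlam] at h2
        exact DFunLike.congr_fun (congrArg Subtype.val h2) x
      · refine orderOf_dvd_of_pow_eq_one ?_
        rw [← map_pow]
        exact lam.2 _ (Subgroup.mem_subgroupOf.1 ((R.subgroupOf F).pow_index_mem x))
    rw [h1, orderOf_one] at hlam
    exact hr.ne_one hlam.symm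
  -- orbits
  have hidx : ∀ lam : L, ((MulAction.stabilizer (MulAut L) lam).comap φ).index ∣ r := by
    intro lam
    let SH : Subgroup (G ⧸ F) :=
      (MulAction.stabilizer (MulAut L) lam).comap (QuotientGroup.lift F ψ hFker)
    have h1 : ((MulAction.stabilizer (MulAut L) lam).comap φ).index ∣ SH.index := by
      rw [show (MulAction.stabilizer (MulAut L) lam).comap φ = SH.subgroupOf P from rfl]
      exact CfsgLib.PGroup.relIndex_dvd_index_normal_right SH P
    let θ : F → ℂ := fun x => ((lam : F →* ℂˣ) x : ℂ)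
    have hθ : IsIrrCharacter F θ := isIrrCharacter_linear _
    have h2 : SH.comap (QuotientGroup.mk' F) = CharTwist.inertia F θ := by
      ext g
      rw [← inv_mem_iff (H := CharTwist.inertia F θ)]
      change act g lam = lam ↔ CharTwist.conjFun F θ g⁻¹ = θ
      constructor
      · intro hg
        funext x
        exact congrArg Units.val (DFunLike.congr_fun (congrArg Subtype.val hg) x)
      · intro hg
        exact Subtype.ext (MonoidHom.ext fun x => Units.ext (congrFun hg x))
    have h3 : SH.index = (CharTwist.inertia F θ).index := by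
      rw [← h2, Subgroup.index_comap_of_surjective _ (QuotientGroup.mk'_surjective F)]
    obtain ⟨χ, hχ⟩ : ∃ χ : IrrCharacter G, classInner (fun x : F => (χ : G → ℂ) x) θ ≠ 0 := by
      obtain ⟨χ, hχ, hne⟩ := CfsgLib.Clifford.exists_constituent
        (IsCharacter.indFun F (IsIrrCharacter.isCharacter hθ))
        (by
          rw [indFun_apply_one]
          exact mul_ne_zero (Nat.cast_ne_zero.mpr Subgroup.index_ne_zero_of_finite)
            (IsIrrCharacter.apply_one_ne_zero hθ))
      refine ⟨⟨χ, hχ⟩, fun h0 => hne ?_⟩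
      rw [classInner_indFun F _ χ (IsIrrCharacter.isClassFunction hχ),
        ← classInner_conj_symm (fun n : F => χ n) θ]
      simp only [h0, map_zero]
    have h4 : (CharTwist.inertia F θ).index ∣ charDegree (χ : G → ℂ) := by
      have e := CfsgLib.Clifford.apply_one_eq F χ.2 hθ hχ
      rw [CharDeep.Cliff.classInner_eq_mult
        (CfsgLib.Clifford.isCharacter_res (IsIrrCharacter.isCharacter χ.2) F)
        (IsIrrCharacter.isCharacter hθ), show θ 1 = 1 by simp [θ], mul_one, ← Nat.cast_mul] at e
      simp only [charDegree, e, Complex.natCast_re, Nat.floor_natCast]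
      exact Dvd.intro_left _ rfl
    obtain ⟨k, hk⟩ := hPp.index ((MulAction.stabilizer (MulAut L) lam).comap φ)
    rw [hk] at h1 ⊢
    have hk1 : k ≤ 1 := by
      by_contra hk2
      refine hr.ne_one (Nat.isUnit_iff.1 (h χ r ?_))
      rw [← sq]
      exact (pow_dvd_pow r (show 2 ≤ k by omega)).trans (h1.trans (h3 ▸ h4))
    exact (pow_dvd_pow r hk1).trans (pow_one r).dvd
  refine card_dvd_of_orbits hPp φ ?_ hcop hidx
  -- faithfulness
  rw [injective_iff_map_eq_one]
  intro a ha
  obtain ⟨g, hg⟩ := QuotientGroup.mk_surjective (a : G ⧸ F)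
  let E₀ : Subgroup G := P.comap (QuotientGroup.mk' F) ⊓ ψ.ker
  have hgE : g ∈ E₀ := ⟨by
    change (g : G ⧸ F) ∈ P
    rw [hg]
    exact a.2, by
    change QuotientGroup.lift F ψ hFker (a : G ⧸ F) = 1 at ha
    rw [← hg] at ha
    exact ha⟩
  suffices hE : E₀ ≤ F by
    refine Subtype.ext ?_
    rw [← hg]
    exact (QuotientGroup.eq_one_iff g).2 (hE hgE)
  have hFE : F ≤ E₀ := fun f hf => ⟨by
    change (f : G ⧸ F) ∈ P
    rw [(QuotientGroup.eq_one_iff f).2 hf]
    exact one_mem _, hFker hf⟩
  set D : Subgroup G := ⁅F, F⁆ with hDdef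
  have hDF : D ≤ F := Subgroup.commutator_le_left F F
  have hcomm : ⁅F, E₀⁆ ≤ D ⊔ R := by
    rw [Subgroup.commutator_le]
    intro f hf e he
    set y : G := ⁅f, e⁆
    have hy : y ∈ F := by
      rw [show y = f * (e * f⁻¹ * e⁻¹) by simp [y, commutatorElement_def, mul_assoc]]
      exact F.mul_mem hf (‹F.Normal›.conj_mem _ (F.inv_mem hf) e)
    let M : Subgroup F := (D ⊔ R).subgroupOf F
    have hM : M.Normal := Subgroup.normal_subgroupOf
    let : CommGroup (F ⧸ M) := { QuotientGroup.Quotient.group M with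
      mul_comm := fun a b => by
        induction a using QuotientGroup.induction_on with | H u =>
        induction b using QuotientGroup.induction_on with | H w =>
        rw [← commutatorElement_eq_one_iff_mul_comm]
        change ((⁅u, w⁆ : F) : F ⧸ M) = 1
        rw [QuotientGroup.eq_one_iff]
        exact Subgroup.mem_subgroupOf.2 (Subgroup.mem_sup_left
          (Subgroup.commutator_mem_commutator u.2 w.2)) }
    by_contra hne
    have hne' : ((⟨y, hy⟩ : F) : F ⧸ M) ≠ 1 := fun h1 =>
      hne (Subgroup.mem_subgroupOf.1 ((QuotientGroup.eq_one_iff _).1 h1))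
    obtain ⟨η, hη⟩ := CommGroup.exists_apply_ne_one_of_hasEnoughRootsOfUnity (F ⧸ M) ℂ hne'
    let lam : L := ⟨η.comp (QuotientGroup.mk' M), fun x hx => by
      change η (x : F ⧸ M) = 1
      rw [(QuotientGroup.eq_one_iff x).2 (Subgroup.mem_subgroupOf.2 (Subgroup.mem_sup_right hx)),
        map_one]⟩
    have hfix : act e lam = lam := DFunLike.congr_fun (MonoidHom.mem_ker.1 he.2) lam
    let f' : F := ⟨f, hf⟩
    let w : F := ⟨e * f⁻¹ * e⁻¹, ‹F.Normal›.conj_mem _ (F.inv_mem hf) e⟩
    have h5 : (act e lam : F →* ℂˣ) w = (lam : F →* ℂˣ) w := by rw [hfix]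
    rw [hact, show MulAut.conjNormal (H := F) e⁻¹ w = f'⁻¹ from Subtype.ext (by
      simp [w, f', MulAut.conjNormal_apply, mul_assoc])] at h5
    apply hη
    have h6 : (lam : F →* ℂˣ) (f' * w) = 1 := by rw [map_mul, ← h5, ← map_mul, mul_inv_cancel, map_one]
    rw [show (⟨y, hy⟩ : F) = f' * w from Subtype.ext (by
      simp [f', w, y, commutatorElement_def, mul_assoc])]
    exact h6
  let π := QuotientGroup.mk' D
  have hπ : Function.Surjective π := QuotientGroup.mk'_surjective D
  let A := F.map π
  let E := E₀.map π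
  let Rb := R.map π
  have hAc : ∀ x ∈ A, ∀ y ∈ A, x * y = y * x := by
    rintro _ ⟨x, hx, rfl⟩ _ ⟨y, hy, rfl⟩
    rw [← commutatorElement_eq_one_iff_mul_comm, ← map_commutatorElement]
    exact (QuotientGroup.eq_one_iff _).2 (Subgroup.commutator_mem_commutator hx hy)
  have hRA : Rb ≤ A := Subgroup.map_mono hRF
  have hAE : A ≤ E := Subgroup.map_mono hFE
  have hAn : A.Normal := ‹F.Normal›.map π hπ
  have hRbn : Rb.Normal := hRn.map π hπ
  have hAER : ⁅A, E⁆ ≤ Rb := by
    rw [← Subgroup.map_commutator]
    refine (Subgroup.map_mono hcomm).trans ?_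
    rw [Subgroup.map_sup, (Subgroup.map_eq_bot_iff D).2 (by rw [QuotientGroup.ker_mk']), bot_sup_eq]
  obtain ⟨k, hk⟩ : ∃ k, E₀.lowerCentralSeries k ≤ F := by
    have hsub : E₀.map (QuotientGroup.mk' F) ≤ P := by
      rintro _ ⟨x, hx, rfl⟩
      exact hx.1
    obtain ⟨k, hk⟩ := (Subgroup.isNilpotent_iff_lowerCentralSeries _).1
      (hPp.to_le hsub).isNilpotent
    refine ⟨k, ?_⟩
    rw [← Subgroup.map_lowerCentralSeries, Subgroup.map_eq_bot_iff, QuotientGroup.ker_mk'] at hk
    exact hk
  have hkA : E.lowerCentralSeries k ≤ A := by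
    rw [show E = E₀.map π from rfl, ← Subgroup.map_lowerCentralSeries]
    exact Subgroup.map_mono hk
  have hA'n : (A.subgroupOf E).Normal := Subgroup.normal_subgroupOf
  have hEA : IsPGroup r (E ⧸ A.subgroupOf E) := by
    intro q
    induction q using QuotientGroup.induction_on with | H x =>
    obtain ⟨e, he, hex⟩ := x.2
    obtain ⟨i, hi⟩ := hPp ⟨(e : G ⧸ F), he.1⟩
    refine ⟨i, ?_⟩
    rw [← QuotientGroup.mk_pow, QuotientGroup.eq_one_iff, Subgroup.mem_subgroupOf,
      SubmonoidClass.coe_pow, ← hex, ← map_pow]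
    refine Subgroup.mem_map_of_mem π ?_
    rw [← QuotientGroup.eq_one_iff, QuotientGroup.mk_pow]
    exact congrArg Subtype.val hi
  have hR'n : (Rb.subgroupOf E).Normal := Subgroup.normal_subgroupOf
  obtain ⟨S₀⟩ : Nonempty (Sylow r E) := inferInstance
  have hRS₀ : Rb.subgroupOf E ≤ S₀ :=
    IsPGroup.le_sylow_of_normal (((Solvable.pCore_isPGroup r G).map π).comap_subtype) S₀
  have htop : A.subgroupOf E ⊔ (S₀ : Subgroup E) = ⊤ := by
    rw [← Subgroup.index_eq_one]
    by_contra h1
    obtain ⟨s, hs, hsd⟩ := Nat.exists_prime_and_dvd h1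
    obtain ⟨i, hi⟩ := IsPGroup.iff_card.mp hEA
    have h2 : s ∣ r ^ i := hi ▸ (hsd.trans (Subgroup.index_dvd_of_le le_sup_left))
    rw [(Nat.prime_dvd_prime_iff_eq hs hr).1 (hs.dvd_of_dvd_pow h2)] at hsd
    exact S₀.not_dvd_index (hsd.trans (Subgroup.index_dvd_of_le le_sup_right))
  let S : Subgroup (G ⧸ D) := (S₀ : Subgroup E).map E.subtype
  have hRS : Rb ≤ S := fun x hx =>
    ⟨⟨x, hAE (hRA hx)⟩, hRS₀ (Subgroup.mem_subgroupOf.2 hx), rfl⟩
  have hstep : ∀ i, E.lowerCentralSeries (k + 1 + i) ≤ S.lowerCentralSeries i ⊓ Rb := by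
    intro i
    induction i with
    | zero =>
      rw [add_zero, Subgroup.lowerCentralSeries_succ, Subgroup.lowerCentralSeries_zero]
      have h1 : ⁅E.lowerCentralSeries k, E⁆ ≤ Rb := (Subgroup.commutator_mono hkA le_rfl).trans hAER
      exact le_inf (h1.trans hRS) h1
    | succ i ih =>
      rw [← add_assoc, Subgroup.lowerCentralSeries_succ, Subgroup.lowerCentralSeries_succ]
      refine (Subgroup.commutator_mono ih le_rfl).trans ?_
      rw [Subgroup.commutator_le]
      rintro x ⟨hx1, hx2⟩ e he
      obtain ⟨a', ha', s', hs', hes⟩ := Subgroup.mem_sup_of_normal_left.1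
        (htop ▸ Subgroup.mem_top (⟨e, he⟩ : E) :
          (⟨e, he⟩ : E) ∈ A.subgroupOf E ⊔ (S₀ : Subgroup E))
      have hes' : (a' : G ⧸ D) * (s' : G ⧸ D) = e := congrArg Subtype.val hes
      have hxs : ⁅x, (s' : G ⧸ D)⁆ ∈ Rb := by
        rw [commutatorElement_def, show x * (s' : G ⧸ D) * x⁻¹ * (s' : G ⧸ D)⁻¹ =
          x * ((s' : G ⧸ D) * x⁻¹ * (s' : G ⧸ D)⁻¹) by group]
        exact Rb.mul_mem hx2 (hRbn.conj_mem _ (Rb.inv_mem hx2) _)
      have ha'' : (a' : G ⧸ D) ∈ A := Subgroup.mem_subgroupOf.1 ha'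
      have e1 : ⁅x, e⁆ = ⁅x, (s' : G ⧸ D)⁆ := by
        rw [← hes', show ⁅x, (a' : G ⧸ D) * s'⁆ =
          ⁅x, (a' : G ⧸ D)⁆ * ((a' : G ⧸ D) * ⁅x, (s' : G ⧸ D)⁆ * (a' : G ⧸ D)⁻¹) by
            simp only [commutatorElement_def]; group,
          commutatorElement_eq_one_iff_mul_comm.2 (hAc x (hRA hx2) _ ha''),
          hAc _ ha'' _ (hRA hxs), mul_inv_cancel_right, one_mul]
      rw [e1]
      exact ⟨Subgroup.commutator_mem_commutator hx1 ⟨s', hs', rfl⟩, hxs⟩
  have hEnil : Group.IsNilpotent E := by
    obtain ⟨n, hn⟩ := (Subgroup.isNilpotent_iff_lowerCentralSeries S).1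
      (S₀.isPGroup'.map E.subtype).isNilpotent
    refine (Subgroup.isNilpotent_iff_lowerCentralSeries E).2 ⟨k + 1 + n, eq_bot_iff.2 ?_⟩
    exact (hstep n).trans (inf_le_left.trans hn.le)
  have hDfr : D ≤ frattini G := by
    have hFnil : Group.IsNilpotent F := Solvable.fittingSubgroup_isNilpotent G
    rw [hDdef, ← Subgroup.map_subtype_commutator F]
    exact (Subgroup.map_mono CfsgLib.FrattiniEmbed.commutator_le_frattini_of_nilpotent).trans
      (CfsgLib.FrattiniEmbed.frattini_map_le F)
  have hEn : E₀.Normal := inferInstance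
  exact Solvable.le_fittingSubgroup hEn
    (Solvable.isNilpotent_of_map_mk'_isNilpotent E₀ D hDfr hEnil)

/-- If every `O_r` has order at most `r`, a solvable group is metabelian. -/
theorem derived_two_eq_bot_of_pCore {H : Type u} [Group H] [Finite H] [Group.IsSolvable H]
    (h : ∀ r : ℕ, r.Prime → Nat.card (pCore r H) ∣ r) : derivedSeries H 2 = ⊥ := by
  classical
  have hFn : (fittingSubgroup H).Normal := Solvable.fittingSubgroup_normal H
  have hcyc : ∀ r : ℕ, r.Prime → IsCyclic (pCore r H) := by
    intro r hr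
    have := Fact.mk hr
    rcases (Nat.dvd_prime hr).1 (h r hr) with h1 | h1
    · have : Subsingleton (pCore r H) := (Nat.card_eq_one_iff_unique.1 h1).1
      infer_instance
    · exact isCyclic_of_prime_card (p := r) h1
  have h1 : commutator H ≤ fittingSubgroup H := by
    refine le_trans ?_ Solvable.centralizer_fittingSubgroup_le
    rw [Subgroup.le_centralizer_iff, Solvable.fittingSubgroup_eq_iSup_pCore]
    refine iSup_le fun r => ?_
    intro a ha
    have hr : (r : ℕ).Prime := (Nat.mem_primeFactors.1 r.2).1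
    have := hcyc r hr
    have : (pCore (r : ℕ) H).Normal := Solvable.pCore_normal _ H
    let c : H →* MulAut (pCore (r : ℕ) H) := MulAut.conjNormal
    have hc : commutator H ≤ c.ker := by
      rw [commutator_def, Subgroup.commutator_le]
      intro y _ z _
      rw [MonoidHom.mem_ker, map_commutatorElement, commutatorElement_eq_one_iff_mul_comm]
      obtain ⟨m, hm⟩ := MonoidHom.map_cyclic (c y).toMonoidHom
      obtain ⟨n, hn⟩ := MonoidHom.map_cyclic (c z).toMonoidHom
      refine MulEquiv.ext fun x => ?_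
      simp only [MulAut.mul_apply]
      rw [show c z x = x ^ n from hn x, map_zpow, show c y x = x ^ m from hm x, map_zpow,
        show c z x = x ^ n from hn x, ← zpow_mul, ← zpow_mul, mul_comm]
    refine Subgroup.mem_centralizer_iff.2 fun g hg => ?_
    have h2 := congrArg Subtype.val (DFunLike.congr_fun (MonoidHom.mem_ker.1 (hc hg)) ⟨a, ha⟩)
    rw [MulAut.conjNormal_apply] at h2
    exact mul_inv_eq_iff_eq_mul.1 h2
  have hFc : fittingSubgroup H ≤ Subgroup.centralizer (fittingSubgroup H : Set H) := by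
    rw [Solvable.fittingSubgroup_eq_iSup_pCore]
    refine iSup_le fun r => ?_
    rw [Subgroup.le_centralizer_iff]
    refine iSup_le fun s => ?_
    intro b hb
    refine Subgroup.mem_centralizer_iff.2 fun a ha => ?_
    have hr : (r : ℕ).Prime := (Nat.mem_primeFactors.1 r.2).1
    have hs : (s : ℕ).Prime := (Nat.mem_primeFactors.1 s.2).1
    by_cases hrs : (r : ℕ) = s
    · have := hcyc r hr
      have : Std.Commutative (α := pCore (r : ℕ) H) (· * ·) := ⟨fun x y => (IsCyclic.commGroup).mul_comm x y⟩
      exact congrArg Subtype.val (Std.Commutative.comm (op := (· * ·))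
        (⟨a, ha⟩ : pCore (r : ℕ) H) ⟨b, hrs ▸ hb⟩)
    · have := Fact.mk hr
      have := Fact.mk hs
      exact Subgroup.commute_of_normal_of_disjoint _ _ (Solvable.pCore_normal _ H)
        (Solvable.pCore_normal _ H) (IsPGroup.disjoint_of_ne _ _ hrs _ _
          (Solvable.pCore_isPGroup _ H) (Solvable.pCore_isPGroup _ H)) a b ha hb
  have h2 : derivedSeries H 2 = ⁅commutator H, commutator H⁆ := by
    rw [derivedSeries_succ, derivedSeries_one]
  rw [h2, Subgroup.commutator_eq_bot_iff_le_centralizer]
  exact h1.trans (hFc.trans (Subgroup.centralizer_le (SetLike.coe_subset_coe.2 h1)))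

/-- A solvable group with squarefree degrees has derived length at most four. -/
theorem derived_four_eq_bot [Group.IsSolvable G]
    (h : ∀ χ : IrrCharacter G, Squarefree (charDegree (χ : G → ℂ))) : derivedSeries G 4 = ⊥ := by
  have hFn : (fittingSubgroup G).Normal := Solvable.fittingSubgroup_normal G
  have hFnil : Group.IsNilpotent (fittingSubgroup G) := Solvable.fittingSubgroup_isNilpotent G
  have h1 : derivedSeries (G ⧸ fittingSubgroup G) 2 = ⊥ :=
    derived_two_eq_bot_of_pCore fun r hr => by
      have := Fact.mk hr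
      exact card_pCore_quotient_fitting h r
  have h2 : derivedSeries G 2 ≤ fittingSubgroup G := by
    rw [← map_derivedSeries_eq (QuotientGroup.mk'_surjective (fittingSubgroup G)),
      Subgroup.map_eq_bot_iff, QuotientGroup.ker_mk'] at h1
    exact h1
  have h3 := Factor.map_derivedSeries_add (fittingSubgroup G) h2 2
  rw [derived_two_eq_bot_of_nilpotent (squarefree_degrees_normal h (fittingSubgroup G)),
    Subgroup.map_bot] at h3
  exact eq_bot_iff.2 h3

end CfsgLib.KGV
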