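import Cfsg.Agent.Lib.Char.Twist
import Cfsg.Agent.Lib.Char.Clifford
import Cfsg.Agent.Lib.Char.Linear
import Cfsg.Agent.Lib.Char.Kernel
import Cfsg.Agent.Lib.CharDeep.Clifford
import Cfsg.Agent.Lib.Solvable.Core
import Cfsg.Agent.Lib.Solvable.CoprimeAction
import Cfsg.Agent.Lib.Solvable.CoprimeGeneration

/-!
# Solvable groups with one class of vanishing `p`-singular elements
-/

set_option autoImplicit false

namespace CfsgLib.KGV.VanOne

open Cfsg CfsgLib.Char
open scoped commutatorElement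

universe u v

/-- An abelian group acting coprimely on a finite abelian group has a point whose stabilizer is the
kernel of the action. -/
theorem exists_regular {L : Type v} [CommGroup L] [Finite L] {P : Type u} [Group P] [Finite P]
    (hab : ∀ a b : P, a * b = b * a) (φ : P →* MulAut L)
    (hcop : (Nat.card L).Coprime (Nat.card P)) : ∃ v : L, ∀ a, φ a v = v → φ a = 1 := by
  classical
  let δ : P → L →* L := fun a =>
    { toFun := fun z => φ a z / z
      map_one' := by simp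
      map_mul' := fun x y => by rw [map_mul, mul_div_mul_comm] }
  have hδ : ∀ a z, δ a z = φ a z / z := fun a z => rfl
  have hδφ : ∀ a c z, φ c (δ a z) = δ a (φ c z) := by
    intro a c z
    rw [hδ, hδ, map_div, ← MulAut.mul_apply, ← MulAut.mul_apply, ← map_mul, ← map_mul, hab]
  have hδ2 : ∀ a y, δ a (δ a y) = 1 → δ a y = 1 := by
    intro a y hy
    set z := δ a y with hz
    have hz1 : φ a z = z := div_eq_one.1 hy
    have hi : ∀ i : ℕ, φ (a ^ i) y = y * z ^ i := by
      intro i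
      induction i with
      | zero => simp
      | succ i ih =>
        rw [pow_succ', map_mul, MulAut.mul_apply, ih, map_mul, map_pow, hz1, pow_succ', ← mul_assoc]
        congr 1
        rw [hz, hδ, mul_div_cancel]
    have hzp : z ^ Nat.card P = 1 := by
      have h1 := hi (Nat.card P)
      rw [pow_card_eq_one', map_one] at h1
      exact mul_eq_left.1 h1.symm
    exact orderOf_eq_one_iff.1 (Nat.eq_one_of_dvd_coprimes hcop (orderOf_dvd_natCard z)
      (orderOf_dvd_of_pow_eq_one hzp))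
  obtain ⟨lam, hlam⟩ := Finite.exists_min fun v : L => Nat.card {a : P // φ a v = v}
  refine ⟨lam, fun a ha => ?_⟩
  by_contra ha1
  obtain ⟨μ, hμ⟩ : ∃ μ, φ a μ ≠ μ := by
    by_contra hne
    simp only [not_exists, not_not] at hne
    exact ha1 (MulEquiv.ext hne)
  have hδlam : δ a lam = 1 := div_eq_one.2 ha
  set v := lam * δ a μ with hv
  have hle : ∀ c, φ c v = v → φ c lam = lam := by
    intro c hc'
    have h1 : φ c (δ a (δ a μ)) = δ a (δ a μ) := by
      have h2 := congrArg (δ a) hc'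
      rw [hv, map_mul, map_mul, map_mul, hδlam, one_mul, ← hδφ, ← hδφ, hδlam, map_one, one_mul] at h2
      exact h2
    have hcμ : φ c (δ a μ) = δ a μ := by
      have h3 : δ a (δ a (φ c μ / μ)) = 1 := by
        rw [map_div, map_div, ← hδφ, ← hδφ, h1, div_self']
      have h4 := hδ2 a _ h3
      rwa [map_div, ← hδφ, div_eq_one] at h4
    rw [hv, map_mul, hcμ] at hc'
    exact mul_right_cancel hc'
  have hav : φ a v ≠ v := by
    rw [hv, map_mul, ha]
    intro h1
    exact hμ (div_eq_one.1 (hδ2 a μ (div_eq_one.2 (mul_left_cancel h1))))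
  let incl : {c : P // φ c v = v} → {c : P // φ c lam = lam} := fun c => ⟨c.1, hle c.1 c.2⟩
  have hinj : Function.Injective incl := fun x y h =>
    Subtype.ext (congrArg (fun w : {c : P // φ c lam = lam} => w.1) h)
  have hsurj : Function.Surjective incl :=
    (hinj.bijective_of_nat_card_le (hlam v)).2
  obtain ⟨⟨c, hc⟩, hca⟩ := hsurj ⟨a, ha⟩
  have hcv : c = a := congrArg Subtype.val hca
  exact hav (hcv ▸ hc)

variable {X : Type u} [Group X] [Finite X]

/-- Facts about a normal subgroup of `p`-power order over a normal `p'`-subgroup. -/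
theorem exists_lift {p : ℕ} [Fact p.Prime] (L : Subgroup X) [L.Normal] (hL : (Nat.card L).Coprime p)
    (A : Subgroup (X ⧸ L)) [A.Normal] (hA : IsPGroup p A) :
    ∃ S : Subgroup X, IsPGroup p S ∧ L ⊔ S = A.comap (QuotientGroup.mk' L) ∧
      S.map (QuotientGroup.mk' L) = A ∧ L ⊓ S = ⊥ ∧ L ⊔ Subgroup.normalizer (S : Set X) = ⊤ := by
  classical
  set E := A.comap (QuotientGroup.mk' L) with hE
  have hEn : E.Normal := (inferInstance : A.Normal).comap _
  obtain ⟨S₀⟩ : Nonempty (Sylow p E) := inferInstance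
  set S := (S₀ : Subgroup E).map E.subtype with hSdef
  have hSp : IsPGroup p S := S₀.isPGroup'.map E.subtype
  have hLE : L ≤ E := fun x hx => by
    change (x : X ⧸ L) ∈ A
    rw [(QuotientGroup.eq_one_iff x).2 hx]
    exact one_mem _
  have hSE : S ≤ E := Subgroup.map_subtype_le _
  have hLn : (L.subgroupOf E).Normal := Subgroup.normal_subgroupOf
  have hEL : IsPGroup p (E ⧸ L.subgroupOf E) := by
    intro q
    induction q using QuotientGroup.induction_on with | H x =>
    obtain ⟨i, hi⟩ := hA ⟨((x : X) : X ⧸ L), x.2⟩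
    refine ⟨i, ?_⟩
    rw [← QuotientGroup.mk_pow, QuotientGroup.eq_one_iff, Subgroup.mem_subgroupOf,
      SubmonoidClass.coe_pow, ← QuotientGroup.eq_one_iff, QuotientGroup.mk_pow]
    exact congrArg Subtype.val hi
  have hp : p.Prime := Fact.out
  have htop : L.subgroupOf E ⊔ (S₀ : Subgroup E) = ⊤ := by
    rw [← Subgroup.index_eq_one]
    by_contra h1
    obtain ⟨s, hs, hsd⟩ := Nat.exists_prime_and_dvd h1
    obtain ⟨i, hi⟩ := IsPGroup.iff_card.mp hEL
    have h2 : s ∣ p ^ i := hi ▸ (hsd.trans (Subgroup.index_dvd_of_le le_sup_left))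
    rw [(Nat.prime_dvd_prime_iff_eq hs hp).1 (hs.dvd_of_dvd_pow h2)] at hsd
    exact S₀.not_dvd_index (hsd.trans (Subgroup.index_dvd_of_le le_sup_right))
  have hsup : L ⊔ S = E := by
    refine le_antisymm (sup_le hLE hSE) fun e he => ?_
    obtain ⟨l, hl, s, hs, hls⟩ := Subgroup.mem_sup_of_normal_left.1
      (htop ▸ Subgroup.mem_top (⟨e, he⟩ : E) : (⟨e, he⟩ : E) ∈ L.subgroupOf E ⊔ (S₀ : Subgroup E))
    rw [show e = (l : X) * s from (congrArg Subtype.val hls).symm]
    exact Subgroup.mul_mem_sup (Subgroup.mem_subgroupOf.1 hl) ⟨s, hs, rfl⟩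
  refine ⟨S, hSp, hsup, ?_, ?_, ?_⟩
  · have h1 := congrArg (Subgroup.map (QuotientGroup.mk' L)) hsup
    rw [Subgroup.map_sup, (Subgroup.map_eq_bot_iff L).2 (by rw [QuotientGroup.ker_mk']), bot_sup_eq,
      hE, Subgroup.map_comap_eq_self_of_surjective (QuotientGroup.mk'_surjective L)] at h1
    exact h1
  · obtain ⟨i, hi⟩ := IsPGroup.iff_card.mp hSp
    refine Subgroup.inf_eq_bot_of_coprime ?_
    rw [hi]
    exact hL.pow_right i
  · have h1 := Sylow.normalizer_sup_eq_top S₀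
    rw [← hSdef, ← hsup] at h1
    rw [eq_top_iff, ← h1]
    exact sup_le le_sup_right (sup_le le_sup_left (Subgroup.le_normalizer.trans le_sup_right))

/-- The vanishing criterion. -/
theorem exists_vanishing [Group.IsSolvable X] {p : ℕ} [Fact p.Prime]
    (hOp : pCore p X = ⊥) (L : Subgroup X) [L.Normal] (hL : (Nat.card L).Coprime p)
    (S : Subgroup X) (hS : IsPGroup p S) (hSab : ∀ a ∈ S, ∀ b ∈ S, a * b = b * a) (hS1 : S ≠ ⊥)
    (hN : L ⊔ Subgroup.normalizer (S : Set X) = ⊤) (hdis : L ⊓ S = ⊥) :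
    ∃ B : Subgroup X, B ≤ S ∧ B ≠ S ∧ (L ⊔ B).Normal ∧
      ∀ (g : X) (n : ℕ) (y : X), y * g ^ n * y⁻¹ ∈ S → y * g ^ n * y⁻¹ ∉ B →
        ∃ χ : IrrCharacter X, (χ : X → ℂ) g = 0 := by
  classical
  let : Fintype X := Fintype.ofFinite X
  have hdecomp : ∀ x : X, ∃ l ∈ L, ∃ n ∈ Subgroup.normalizer (S : Set X), l * n = x := fun x =>
    Subgroup.mem_sup_of_normal_left.1 (hN ▸ Subgroup.mem_top x :
      x ∈ L ⊔ Subgroup.normalizer (S : Set X))
  have hnorm : ∀ n ∈ Subgroup.normalizer (S : Set X), ∀ s ∈ S, n * s * n⁻¹ ∈ S := fun n hn s hs =>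
    (Subgroup.mem_normalizer_iff.1 hn s).1 hs
  have hSL : S ≤ Subgroup.normalizer (L : Set X) := by
    rw [Subgroup.normalizer_eq_top_iff.2 (inferInstance : L.Normal)]
    exact le_top
  obtain ⟨iS, hiS⟩ := IsPGroup.iff_card.mp hS
  have hcopSL : (Nat.card S).Coprime (Nat.card L) := hiS ▸ (hL.symm.pow_left iS)
  set M : Subgroup X := ⁅L, S⁆ with hMdef
  have hML : M ≤ L := Solvable.commutator_le_of_normalizes hSL
  have hMn : M.Normal := ⟨fun m hm x => by
    obtain ⟨l, hl, n, hn, rfl⟩ := hdecomp x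
    have h1 : ∀ m ∈ M, n * m * n⁻¹ ∈ M := by
      have hle : M ≤ M.comap (MulAut.conj n).toMonoidHom := by
        rw [hMdef, Subgroup.commutator_le]
        intro a ha s hs
        rw [Subgroup.mem_comap]
        change n * ⁅a, s⁆ * n⁻¹ ∈ _
        rw [show n * ⁅a, s⁆ * n⁻¹ = ⁅n * a * n⁻¹, n * s * n⁻¹⁆ by
          simp only [commutatorElement_def]; group]
        exact Subgroup.commutator_mem_commutator ((inferInstance : L.Normal).conj_mem a ha n)
          (hnorm n hn s hs)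
      exact fun m hm => hle hm
    have h2 := (Subgroup.mem_normalizer_iff.1 (Solvable.le_normalizer_commutator_left L S hl)
      (n * m * n⁻¹)).1 (h1 m hm)
    rw [show l * n * m * (l * n)⁻¹ = l * (n * m * n⁻¹) * l⁻¹ by group]
    exact h2⟩
  have hM1 : M ≠ ⊥ := by
    intro h0
    have hSn : S.Normal := ⟨fun s hs x => by
      obtain ⟨l, hl, n, hn, rfl⟩ := hdecomp x
      have h1 : ⁅l, n * s * n⁻¹⁆ = 1 := Subgroup.mem_bot.1
        (h0 ▸ Subgroup.commutator_mem_commutator hl (hnorm n hn s hs))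
      rw [commutatorElement_eq_one_iff_mul_comm] at h1
      rw [show l * n * s * (l * n)⁻¹ = l * (n * s * n⁻¹) * l⁻¹ by group, h1, mul_inv_cancel_right]
      exact hnorm n hn s hs⟩
    exact hS1 (eq_bot_iff.2 (hOp ▸ Solvable.le_pCore hSn hS))
  have hMS : ⁅M, S⁆ = M := Solvable.commutator_commutator_eq hSL hcopSL (Or.inr inferInstance)
  obtain ⟨K, hK⟩ := (Set.toFinite {K : Subgroup X | K.Normal ∧ K < M}).exists_maximal
    ⟨⊥, inferInstance, bot_lt_iff_ne_bot.2 hM1⟩
  have hKn : K.Normal := hK.1.1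
  -- the derived group of `M` lies in `K`
  have hMK : ⁅M, M⁆ ≤ K := by
    by_contra hne
    have hlt : K < ⁅M, M⁆ ⊔ K := right_lt_sup.2 hne
    have hle : ⁅M, M⁆ ⊔ K ≤ M := sup_le (Subgroup.commutator_le_left M M) hK.1.2.le
    have htopM : ⁅M, M⁆ ⊔ K = M := by
      by_contra h1
      exact hlt.not_ge (hK.2 ⟨inferInstance, lt_of_le_of_ne hle h1⟩ hlt.le)
    let π := QuotientGroup.mk' K
    have hperf : ⁅M.map π, M.map π⁆ = M.map π := by
      have h1 := congrArg (Subgroup.map π) htopM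
      rwa [Subgroup.map_sup, (Subgroup.map_eq_bot_iff K).2 (by rw [QuotientGroup.ker_mk']),
        sup_bot_eq, Subgroup.map_commutator] at h1
    have hle' : ∀ k, M.map π ≤ derivedSeries (X ⧸ K) k := by
      intro k
      induction k with
      | zero => exact le_top
      | succ k ih => exact hperf ▸ Subgroup.commutator_mono ih ih
    have : Group.IsSolvable (X ⧸ K) :=
      Group.isSolvable_of_surjective (QuotientGroup.mk'_surjective K)
    obtain ⟨k, hk⟩ := (inferInstance : Group.IsSolvable (X ⧸ K)).solvable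
    refine hK.1.2.not_ge ?_
    have h1 : M.map π = ⊥ := eq_bot_iff.2 (hk ▸ hle' k)
    rwa [Subgroup.map_eq_bot_iff, QuotientGroup.ker_mk'] at h1
  -- the linear characters of `M` trivial on `K`
  let : Fintype M := Fintype.ofFinite M
  have hFin : Finite (M →* ℂˣ) := Finite.of_equiv _ (linearCharEquiv (G := M)).symm
  let Lh : Subgroup (M →* ℂˣ) :=
    { carrier := {lam | ∀ x : M, (x : X) ∈ K → lam x = 1}
      one_mem' := fun x _ => rfl
      mul_mem' := fun h1 h2 x hx => by rw [MonoidHom.mul_apply, h1 x hx, h2 x hx, one_mul]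
      inv_mem' := fun h1 x hx => by rw [MonoidHom.inv_apply, h1 x hx, inv_one] }
  let act : X → Lh → Lh := fun g lam =>
    ⟨(lam : M →* ℂˣ).comp (MulAut.conjNormal (H := M) g⁻¹).toMonoidHom, fun x hx => lam.2 _ (by
      change ((MulAut.conjNormal (H := M) g⁻¹ x : M) : X) ∈ K
      rw [MulAut.conjNormal_apply]
      exact hKn.conj_mem _ hx g⁻¹)⟩
  have hact : ∀ g (lam : Lh) (x : M),
      (act g lam : M →* ℂˣ) x = (lam : M →* ℂˣ) (MulAut.conjNormal (H := M) g⁻¹ x) :=
    fun _ _ _ => rfl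
  have hact1 : ∀ lam, act 1 lam = lam := fun lam => Subtype.ext (MonoidHom.ext fun x => by
    rw [hact]; simp)
  have hactm : ∀ a b lam, act (a * b) lam = act a (act b lam) := fun a b lam =>
    Subtype.ext (MonoidHom.ext fun x => by
      rw [hact, hact, hact, mul_inv_rev, map_mul, MulAut.mul_apply])
  let ψ : X →* MulAut Lh :=
    { toFun := fun g =>
        { toFun := act g
          invFun := act g⁻¹
          left_inv := fun lam => by rw [← hactm, inv_mul_cancel, hact1]
          right_inv := fun lam => by rw [← hactm, mul_inv_cancel, hact1]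
          map_mul' := fun a b => Subtype.ext (MonoidHom.ext fun x => rfl) }
      map_one' := MulEquiv.ext hact1
      map_mul' := fun a b => MulEquiv.ext (hactm a b) }
  have hcopLh : (Nat.card Lh).Coprime (Nat.card S) := by
    rw [hiS]
    refine Nat.Coprime.pow_right _ (Nat.Coprime.symm ((Fact.out : p.Prime).coprime_iff_not_dvd.2
      fun hdvd => ?_))
    obtain ⟨lam, hlam⟩ := exists_prime_orderOf_dvd_card' p hdvd
    have h1 : lam = 1 := by
      refine Subtype.ext (MonoidHom.ext fun x => orderOf_eq_one_iff.1 ?_)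
      refine Nat.eq_one_of_dvd_coprimes hL.symm ?_ ?_
      · refine orderOf_dvd_of_pow_eq_one ?_
        have h2 := pow_orderOf_eq_one lam
        rw [hlam] at h2
        exact DFunLike.congr_fun (congrArg Subtype.val h2) x
      · exact ((orderOf_map_dvd (lam : M →* ℂˣ) x).trans (orderOf_dvd_natCard x)).trans
          (Subgroup.card_dvd_of_le hML)
    rw [h1, orderOf_one] at hlam
    exact (Fact.out : p.Prime).ne_one hlam.symm
  -- separation
  have hsep : ∀ s : X, ψ s = 1 → ∀ m ∈ M, ⁅m, s⁆ ∈ K := by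
    intro s hs m hm
    have hy : ⁅m, s⁆ ∈ M := by
      rw [show ⁅m, s⁆ = m * (s * m⁻¹ * s⁻¹) by simp [commutatorElement_def, mul_assoc]]
      exact M.mul_mem hm (hMn.conj_mem _ (M.inv_mem hm) s)
    let KM : Subgroup M := K.subgroupOf M
    have hKM : KM.Normal := Subgroup.normal_subgroupOf
    let : CommGroup (M ⧸ KM) := { QuotientGroup.Quotient.group KM with
      mul_comm := fun a b => by
        induction a using QuotientGroup.induction_on with | H u =>
        induction b using QuotientGroup.induction_on with | H w =>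
        rw [← commutatorElement_eq_one_iff_mul_comm]
        change ((⁅u, w⁆ : M) : M ⧸ KM) = 1
        rw [QuotientGroup.eq_one_iff]
        exact Subgroup.mem_subgroupOf.2 (hMK (Subgroup.commutator_mem_commutator u.2 w.2)) }
    by_contra hne
    have hne' : ((⟨⁅m, s⁆, hy⟩ : M) : M ⧸ KM) ≠ 1 := fun h1 =>
      hne (Subgroup.mem_subgroupOf.1 ((QuotientGroup.eq_one_iff _).1 h1))
    obtain ⟨η, hη⟩ := CommGroup.exists_apply_ne_one_of_hasEnoughRootsOfUnity (M ⧸ KM) ℂ hne'
    let lam : Lh := ⟨η.comp (QuotientGroup.mk' KM), fun x hx => by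
      change η (x : M ⧸ KM) = 1
      rw [(QuotientGroup.eq_one_iff x).2 (Subgroup.mem_subgroupOf.2 hx), map_one]⟩
    have hfix : act s lam = lam := DFunLike.congr_fun hs lam
    let m' : M := ⟨m, hm⟩
    let w : M := ⟨s * m⁻¹ * s⁻¹, hMn.conj_mem _ (M.inv_mem hm) s⟩
    have h5 : (act s lam : M →* ℂˣ) w = (lam : M →* ℂˣ) w := by rw [hfix]
    rw [hact, show MulAut.conjNormal (H := M) s⁻¹ w = m'⁻¹ from Subtype.ext (by
      simp [w, m', mul_assoc])] at h5
    apply hη
    have h6 : (lam : M →* ℂˣ) (m' * w) = 1 := by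
      rw [map_mul, ← h5, ← map_mul, mul_inv_cancel, map_one]
    rw [show (⟨⁅m, s⁆, hy⟩ : M) = m' * w from Subtype.ext (by
      simp [m', w, commutatorElement_def, mul_assoc])]
    exact h6
  have hBn : (L ⊔ (S ⊓ ψ.ker)).Normal := ⟨fun e he x => by
    obtain ⟨l', hl', b, ⟨hbS, hbk⟩, rfl⟩ := Subgroup.mem_sup_of_normal_left.1 he
    obtain ⟨l, hl, n, hn, rfl⟩ := hdecomp x
    have hb' : n * b * n⁻¹ ∈ S ⊓ ψ.ker :=
      ⟨hnorm n hn b hbS, (inferInstance : ψ.ker.Normal).conj_mem b hbk n⟩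
    rw [show l * n * (l' * b) * (l * n)⁻¹ =
      (l * (n * l' * n⁻¹)) * (n * b * n⁻¹) * l⁻¹ by group]
    exact Subgroup.mul_mem _ (Subgroup.mul_mem_sup
      (L.mul_mem hl ((inferInstance : L.Normal).conj_mem l' hl' n)) hb')
      (Subgroup.mem_sup_left (L.inv_mem hl))⟩
  refine ⟨S ⊓ ψ.ker, inf_le_left, fun hBS => ?_, hBn, fun g k y hgS hgB => ?_⟩
  · refine hK.1.2.not_ge ?_
    rw [← hMS, Subgroup.commutator_le]
    intro m hm s hs
    exact hsep s (MonoidHom.mem_ker.1 (hBS.ge hs).2) m hm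
  -- a regular point
  obtain ⟨lam, hlam⟩ := exists_regular (P := S) (L := Lh)
    (fun a b => Subtype.ext (hSab a a.2 b b.2)) (ψ.comp S.subtype) hcopLh
  let θ : M → ℂ := fun x => ((lam : M →* ℂˣ) x : ℂ)
  have hθ : IsIrrCharacter M θ := isIrrCharacter_linear _
  let T := CharTwist.inertia M θ
  let : Fintype T := Fintype.ofFinite T
  have hTker : ∀ s ∈ S, s ∈ T → s ∈ S ⊓ ψ.ker := by
    intro s hs hsT
    refine ⟨hs, MonoidHom.mem_ker.2 (hlam ⟨s, hs⟩ ?_)⟩
    change act s lam = lam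
    refine Subtype.ext (MonoidHom.ext fun x => Units.ext ?_)
    exact congrFun (CharTwist.mem_inertia.1 (T.inv_mem hsT)) x
  have hnot : ∀ h : X, h * (y * g ^ k * y⁻¹) * h⁻¹ ∉ T := by
    intro h hT
    obtain ⟨l, hl, n, hn, rfl⟩ := hdecomp h
    set s' := n * (y * g ^ k * y⁻¹) * n⁻¹ with hs'
    have hs'S : s' ∈ S := hnorm n hn _ hgS
    have hs'B : s' ∉ S ⊓ ψ.ker := fun hmem => hgB ⟨hgS, by
      have h2 := (inferInstance : ψ.ker.Normal).conj_mem s' hmem.2 n⁻¹
      rw [hs'] at h2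
      simpa [mul_assoc] using h2⟩
    have hl' : l ∈ M ⊔ (L ⊓ Subgroup.centralizer (S : Set X)) := by
      rw [Solvable.commutator_sup_centralizer hSL hcopSL (Or.inr inferInstance)]
      exact hl
    obtain ⟨m, hm, c, hc, rfl⟩ := Subgroup.mem_sup_of_normal_left.1 hl'
    rw [show m * c * n * (y * g ^ k * y⁻¹) * (m * c * n)⁻¹ = m * (c * s' * c⁻¹) * m⁻¹ by
      rw [hs']; group,
      show c * s' * c⁻¹ = s' by
        rw [← (Subgroup.mem_centralizer_iff.1 hc.2 s' hs'S), mul_inv_cancel_right]] at hT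
    have hmT : m ∈ T := CharTwist.le_inertia M (IsIrrCharacter.isClassFunction hθ) hm
    have hs'T : s' ∈ T := by
      have h2 := T.mul_mem (T.mul_mem (T.inv_mem hmT) hT) hmT
      rwa [show m⁻¹ * (m * s' * m⁻¹) * m = s' by group] at h2
    exact hs'B (hTker s' hs'S hs'T)
  obtain ⟨χ, hχ⟩ : ∃ χ : IrrCharacter X, classInner (fun x : M => (χ : X → ℂ) x) θ ≠ 0 := by
    obtain ⟨χ, hχ, hne⟩ := CfsgLib.Clifford.exists_constituent
      (IsCharacter.indFun M (IsIrrCharacter.isCharacter hθ))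
      (by
        rw [indFun_apply_one]
        exact mul_ne_zero (Nat.cast_ne_zero.mpr Subgroup.index_ne_zero_of_finite)
          (IsIrrCharacter.apply_one_ne_zero hθ))
    refine ⟨⟨χ, hχ⟩, fun h0 => hne ?_⟩
    rw [classInner_indFun M _ χ (IsIrrCharacter.isClassFunction hχ),
      ← classInner_conj_symm (fun n : M => χ n) θ]
    simp only [h0, map_zero]
  obtain ⟨η, -, hind, -⟩ := CharDeep.Cliff.correspondence M χ.2 hθ T
    (fun g => CharTwist.mem_inertia) (CharTwist.le_inertia M (IsIrrCharacter.isClassFunction hθ)) hχ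
  refine ⟨χ, ?_⟩
  rw [← hind]
  refine indFun_eq_zero_of_forall_notMem T η g fun x hx => hnot (x⁻¹ * y⁻¹) ?_
  have h2 := T.pow_mem hx k
  rw [show (x⁻¹ * g * x) ^ k = x⁻¹ * g ^ k * x by
    simpa using conj_pow (a := x⁻¹) (b := g) (i := k)] at h2
  rwa [show x⁻¹ * y⁻¹ * (y * g ^ k * y⁻¹) * (x⁻¹ * y⁻¹)⁻¹ = x⁻¹ * g ^ k * x by group]

/-- Vanishing. -/
def Van (g : X) : Prop := ∃ χ : IrrCharacter X, (χ : X → ℂ) g = 0

/-- The Sylow bound. -/
theorem not_sq_dvd_card [Group.IsSolvable X] {p : ℕ} [Fact p.Prime] (hOp : pCore p X = ⊥)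
    (hone : ∀ a b : X, Van a → p ∣ orderOf a → Van b → p ∣ orderOf b → IsConj a b) :
    ¬ p ^ 2 ∣ Nat.card X := by
  classical
  have hp : p.Prime := Fact.out
  intro hsq
  set L := pPrimeCore p X with hLdef
  have hLn : L.Normal := Solvable.pPrimeCore_normal p X
  have hL : (Nat.card L).Coprime p := Solvable.pPrimeCore_card_coprime p X
  set π := QuotientGroup.mk' L with hπdef
  have hπ : Function.Surjective π := QuotientGroup.mk'_surjective L
  have hsolY : Group.IsSolvable (X ⧸ L) := Group.isSolvable_of_surjective hπ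
  have hY : pPrimeCore p (X ⧸ L) = ⊥ := Solvable.pPrimeCore_quotient_eq_bot L rfl
  have hmulL : Nat.card X = Nat.card (X ⧸ L) * Nat.card L :=
    L.card_eq_card_quotient_mul_card_subgroup
  have hsqY : p ^ 2 ∣ Nat.card (X ⧸ L) :=
    (Nat.Coprime.pow_left 2 hL.symm).dvd_of_dvd_mul_right (hmulL ▸ hsq)
  set Q := pCore p (X ⧸ L) with hQdef
  have hQn : Q.Normal := Solvable.pCore_normal p _
  have hQp : IsPGroup p Q := Solvable.pCore_isPGroup p _
  have hQ1 : Q ≠ ⊥ := by
    intro h0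
    have hF : fittingSubgroup (X ⧸ L) = ⊥ := by
      rw [Solvable.fittingSubgroup_eq_iSup_pCore, iSup_eq_bot]
      intro r
      have hr : (r : ℕ).Prime := (Nat.mem_primeFactors.1 r.2).1
      have := Fact.mk hr
      by_cases hrp : (r : ℕ) = p
      · rw [hrp]; exact h0
      · refine eq_bot_iff.2 (le_of_le_of_eq (Solvable.le_pPrimeCore (Solvable.pCore_normal _ _) ?_) hY)
        obtain ⟨n, hn⟩ := Solvable.card_pCore (p := (r : ℕ)) (G := X ⧸ L)
        rw [hn]
        exact ((Nat.coprime_primes hr hp).2 hrp).pow_left n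
    have h1 := Solvable.centralizer_fittingSubgroup_le (G := X ⧸ L)
    rw [hF] at h1
    have hc : Subgroup.centralizer ((⊥ : Subgroup (X ⧸ L)) : Set (X ⧸ L)) = ⊤ :=
      eq_top_iff.2 fun x _ => Subgroup.mem_centralizer_iff.2 fun y hy => by
        rw [Subgroup.mem_bot.1 hy, one_mul, mul_one]
    rw [hc] at h1
    have h2 : Nat.card (X ⧸ L) = 1 := by
      rw [← Subgroup.card_top, show (⊤ : Subgroup (X ⧸ L)) = ⊥ from le_bot_iff.1 h1, Subgroup.card_bot]
    rw [h2, Nat.dvd_one, Nat.pow_eq_one] at hsqY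
    exact hp.ne_one (hsqY.resolve_right two_ne_zero)
  set ZQ : Subgroup (X ⧸ L) := (Subgroup.center Q).map Q.subtype with hZQdef
  have hZQn : ZQ.Normal := ConjAct.normal_of_characteristic_of_normal
  have hZQ1 : ZQ ≠ ⊥ := by
    have : Nontrivial Q := (Subgroup.nontrivial_iff_ne_bot Q).2 hQ1
    have := hQp.center_nontrivial
    rw [hZQdef, Ne, Subgroup.map_eq_bot_iff_of_injective _ Q.subtype_injective]
    exact (Subgroup.nontrivial_iff_ne_bot _).1 inferInstance
  have hZQQ : ZQ ≤ Q := Subgroup.map_subtype_le _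
  have hZQc : ∀ a ∈ ZQ, ∀ b ∈ Q, a * b = b * a := by
    rintro _ ⟨a, ha, rfl⟩ b hb
    exact (congrArg Subtype.val (Subgroup.mem_center_iff.1 ha ⟨b, hb⟩)).symm
  obtain ⟨A, hA⟩ := (Set.toFinite {A : Subgroup (X ⧸ L) | A.Normal ∧ A ≠ ⊥ ∧ A ≤ ZQ}).exists_minimal
    ⟨ZQ, hZQn, hZQ1, le_rfl⟩
  obtain ⟨hAn, hA1, hAZ⟩ := hA.1
  have hAp : IsPGroup p A := hQp.to_le (hAZ.trans hZQQ)
  have hAab : ∀ a ∈ A, ∀ b ∈ A, a * b = b * a := fun a ha b hb =>
    hZQc a (hAZ ha) b (hZQQ (hAZ hb))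
  -- general facts about lifts
  have hinjπ : ∀ S : Subgroup X, L ⊓ S = ⊥ → ∀ s ∈ S, π s = 1 → s = 1 := fun S hdis s hs h1 =>
    (Subgroup.eq_bot_iff_forall _).1 hdis s ⟨(QuotientGroup.eq_one_iff s).1 h1, hs⟩
  have habS : ∀ (S : Subgroup X) (C : Subgroup (X ⧸ L)), L ⊓ S = ⊥ → S.map π = C →
      (∀ a ∈ C, ∀ b ∈ C, a * b = b * a) → ∀ a ∈ S, ∀ b ∈ S, a * b = b * a := by
    intro S C hdis hmap hC a ha b hb
    rw [← commutatorElement_eq_one_iff_mul_comm]
    refine hinjπ S hdis _ (by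
      rw [commutatorElement_def]
      exact S.mul_mem (S.mul_mem (S.mul_mem ha hb) (S.inv_mem ha)) (S.inv_mem hb)) ?_
    rw [map_commutatorElement, commutatorElement_eq_one_iff_mul_comm]
    exact hC _ (hmap ▸ ⟨a, ha, rfl⟩) _ (hmap ▸ ⟨b, hb, rfl⟩)
  obtain ⟨S, hSp, -, hSmap, hSdis, hSN⟩ := exists_lift L hL A hAp
  have hSab := habS S A hSdis hSmap hAab
  have hS1 : S ≠ ⊥ := fun h0 => hA1 (by rw [← hSmap, h0, Subgroup.map_bot])
  obtain ⟨B, hBS, hBne, hBn, hvan⟩ := exists_vanishing hOp L hL S hSp hSab hS1 hSN hSdis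
  have hB : B = ⊥ := by
    have h1 : (L ⊔ B).map π = B.map π := by
      rw [Subgroup.map_sup, (Subgroup.map_eq_bot_iff L).2 (by rw [hπdef, QuotientGroup.ker_mk']),
        bot_sup_eq]
    have h2 : (B.map π).Normal := h1 ▸ hBn.map π hπ
    have h3 : B.map π ≤ A := hSmap ▸ Subgroup.map_mono hBS
    by_contra hB0
    have h4 : B.map π ≠ ⊥ := fun h0 => hB0 ((Subgroup.eq_bot_iff_forall B).2 fun b hb =>
      hinjπ S hSdis b (hBS hb) ((Subgroup.eq_bot_iff_forall _).1 h0 _ ⟨b, hb, rfl⟩))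
    have h5 : A ≤ B.map π := hA.2 ⟨h2, h4, h3.trans hAZ⟩ h3
    refine hBne (le_antisymm hBS fun s hs => ?_)
    obtain ⟨b, hb, hbs⟩ := h5 (hSmap ▸ ⟨s, hs, rfl⟩ : π s ∈ A)
    have h6 := hinjπ S hSdis (b⁻¹ * s) (S.mul_mem (S.inv_mem (hBS hb)) hs) (by
      rw [map_mul, map_inv, hbs, inv_mul_cancel])
    rwa [inv_mul_eq_one.1 h6] at hb
  have hordS : ∀ s ∈ S, s ≠ 1 → p ∣ orderOf s := by
    intro s hs hs1
    obtain ⟨k, hk⟩ := hSp ⟨s, hs⟩
    obtain ⟨j, -, hj⟩ := (Nat.dvd_prime_pow hp).1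
      (orderOf_dvd_of_pow_eq_one (by simpa using congrArg Subtype.val hk) : orderOf s ∣ p ^ k)
    rw [hj]
    exact dvd_pow_self p fun h0 => hs1 (orderOf_eq_one_iff.1 (by rw [hj, h0, pow_zero]))
  obtain ⟨x₀, hx₀, hx₀1⟩ := (Subgroup.bot_or_exists_ne_one S).resolve_left hS1
  have hvanS : ∀ (g : X) (n : ℕ), g ^ n ∈ S → g ^ n ≠ 1 → Van g ∧ p ∣ orderOf g := fun g n hg hg1 =>
    ⟨hvan g n 1 (by simpa using hg) (by simpa [hB] using hg1),
      (hordS _ hg hg1).trans (orderOf_pow_dvd n)⟩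
  have hx₀v := hvanS x₀ 1 (by simpa using hx₀) (by simpa using hx₀1)
  -- only `x₀` up to conjugation
  have hconj : ∀ g, Van g → p ∣ orderOf g → IsConj g x₀ := fun g hg hgo =>
    hone g x₀ hg hgo hx₀v.1 hx₀v.2
  have hinA : ∀ g, Van g → p ∣ orderOf g → π g ∈ A := by
    intro g hg hgo
    obtain ⟨c, hc⟩ := isConj_iff.1 (hconj g hg hgo)
    have h1 : g = c⁻¹ * x₀ * c := by rw [← hc]; group
    rw [h1, map_mul, map_mul, map_inv]
    simpa using hAn.conj_mem _ (hSmap ▸ ⟨x₀, hx₀, rfl⟩ : π x₀ ∈ A) (π c)⁻¹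
  have hcp : ∀ s ∈ S, s ≠ 1 → ∀ y : X, y * s = s * y → ¬ p ∣ orderOf y → y = 1 := by
    intro s hs hs1 y hy hyo
    obtain ⟨k, hk⟩ := hSp ⟨s, hs⟩
    have hks : s ^ p ^ k = 1 := by simpa using congrArg Subtype.val hk
    have hco : (orderOf s).Coprime (orderOf y) :=
      Nat.Coprime.coprime_dvd_left (orderOf_dvd_of_pow_eq_one hks)
        ((hp.coprime_iff_not_dvd.2 hyo).pow_left k)
    have hcm : Commute s y := hy.symm
    have hpow : (s * y) ^ orderOf y = s ^ orderOf y := by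
      rw [hcm.mul_pow, pow_orderOf_eq_one, mul_one]
    have hne : s ^ orderOf y ≠ 1 := fun h0 => hs1 (orderOf_eq_one_iff.1
      (Nat.eq_one_of_dvd_coprimes hco dvd_rfl (orderOf_dvd_of_pow_eq_one h0)))
    have hg := hvanS (s * y) (orderOf y) (hpow ▸ S.pow_mem hs _) (hpow ▸ hne)
    have hs' := hvanS s 1 (by simpa using hs) (by simpa using hs1)
    obtain ⟨c, hc⟩ := isConj_iff.1 (hone _ _ hg.1 hg.2 hs'.1 hs'.2)
    have ho : orderOf (s * y) = orderOf s :=
      ((MulAut.conj c).orderOf_eq (s * y)).symm.trans (congrArg orderOf hc)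
    rw [hcm.orderOf_mul_eq_mul_orderOf_of_coprime hco] at ho
    exact orderOf_eq_one_iff.1 (Nat.eq_of_mul_eq_mul_left (orderOf_pos s) (ho.trans (mul_one _).symm))
  have hScyc : IsCyclic S := by
    by_contra hcyc
    have : IsMulCommutative S := ⟨⟨fun a b => Subtype.ext (hSab a a.2 b b.2)⟩⟩
    obtain ⟨iS, hiS⟩ := IsPGroup.iff_card.mp hSp
    have hLbot : L = ⊥ := by
      refine le_bot_iff.1 (Solvable.le_of_centralizer_le hcyc ?_ (hiS ▸ hL.symm.pow_left iS)
        fun a ha ha1 => ?_)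
      · rw [Subgroup.normalizer_eq_top_iff.2 hLn]
        exact le_top
      · intro y ⟨hy, hyc⟩
        refine Subgroup.mem_bot.2 (hcp a ha ha1 y (Subgroup.mem_centralizer_singleton_iff.1 hyc) ?_)
        intro hd
        have h1 : p ∣ Nat.card L :=
          hd.trans (by rw [← Subgroup.orderOf_mk y hy]; exact orderOf_dvd_natCard _)
        exact hp.not_dvd_one (Nat.eq_one_of_dvd_coprimes hL h1 dvd_rfl ▸ dvd_rfl)
    have hSn : S.Normal := by
      rw [← Subgroup.normalizer_eq_top_iff]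
      rwa [hLbot, bot_sup_eq] at hSN
    exact hS1 (eq_bot_iff.2 (hOp ▸ Solvable.le_pCore hSn hSp))
  have hAcyc : IsCyclic A := by
    let f : S →* A := (π.comp S.subtype).codRestrict A fun s => hSmap ▸ ⟨s, s.2, rfl⟩
    exact isCyclic_of_surjective f fun a => by
      obtain ⟨s, hs, hsa⟩ := (hSmap.ge a.2 : (a : X ⧸ L) ∈ S.map π)
      exact ⟨⟨s, hs⟩, Subtype.ext hsa⟩
  have hcardA : Nat.card A = p := by
    have hnt : Nontrivial A := (Subgroup.nontrivial_iff_ne_bot A).2 hA1
    have hexp : ∀ a : A, a ^ p = 1 := by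
      let Ω : Subgroup (X ⧸ L) :=
        { carrier := {a | a ∈ A ∧ a ^ p = 1}
          one_mem' := ⟨one_mem A, one_pow p⟩
          mul_mem' := fun {a b} ha hb => ⟨A.mul_mem ha.1 hb.1, by
            rw [(show Commute a b from hAab a ha.1 b hb.1).mul_pow, ha.2, hb.2, one_mul]⟩
          inv_mem' := fun {a} ha => ⟨A.inv_mem ha.1, by rw [inv_pow, ha.2, inv_one]⟩ }
      have hΩn : Ω.Normal := ⟨fun a ha g => ⟨hAn.conj_mem a ha.1 g, by
        rw [conj_pow, ha.2, mul_one, mul_inv_cancel]⟩⟩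
      have hΩ1 : Ω ≠ ⊥ := by
        obtain ⟨n, hn⟩ := IsPGroup.iff_card.mp hAp
        have hd : p ∣ Nat.card A := hn ▸ dvd_pow_self p fun h0 => by
          rw [h0, pow_zero] at hn
          exact (Finite.one_lt_card_iff_nontrivial.2 hnt).ne' hn
        obtain ⟨a, ha⟩ := exists_prime_orderOf_dvd_card' p hd
        intro h0
        have h1 : (a : X ⧸ L) = 1 := (Subgroup.eq_bot_iff_forall Ω).1 h0 _ ⟨a.2, by
          have h2 := pow_orderOf_eq_one a
          rw [ha] at h2
          simpa using congrArg Subtype.val h2⟩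
        rw [show a = 1 from Subtype.ext h1, orderOf_one] at ha
        exact hp.ne_one ha.symm
      intro a
      exact Subtype.ext (hA.2 ⟨hΩn, hΩ1, fun x hx => hAZ hx.1⟩ (fun x hx => hx.1) a.2).2
    have h1 : Nat.card A ∣ p :=
      IsCyclic.exponent_eq_card (α := A) ▸ Monoid.exponent_dvd_of_forall_pow_eq_one hexp
    exact ((Nat.dvd_prime hp).1 h1).resolve_left (Finite.one_lt_card_iff_nontrivial.2 hnt).ne'
  -- the centralizer of `A` is `Q`
  set C := Subgroup.centralizer (A : Set (X ⧸ L)) with hCdef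
  have hCn : C.Normal := Subgroup.normal_centralizer
  have hQC : Q ≤ C := fun q hq => Subgroup.mem_centralizer_iff.2 fun a ha => hZQc a (hAZ ha) q hq
  have hCQ : C ≤ Q := by
    refine Solvable.le_pCore hCn fun c => ?_
    obtain ⟨g, hg⟩ := hπ (c : X ⧸ L)
    obtain ⟨l, hl, n, hn, rfl⟩ := Subgroup.mem_sup_of_normal_left.1
      (hSN ▸ Subgroup.mem_top g : g ∈ L ⊔ Subgroup.normalizer (S : Set X))
    rw [map_mul, show π l = 1 from (QuotientGroup.eq_one_iff l).2 hl, one_mul] at hg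
    have hnc : n * x₀ = x₀ * n := by
      rw [← commutatorElement_eq_one_iff_mul_comm]
      refine hinjπ S hSdis _ ?_ ?_
      · rw [commutatorElement_def]
        exact S.mul_mem ((Subgroup.mem_normalizer_iff.1 hn x₀).1 hx₀) (S.inv_mem hx₀)
      · rw [map_commutatorElement, hg, commutatorElement_eq_one_iff_mul_comm]
        exact (Subgroup.mem_centralizer_iff.1 c.2 _ (hSmap ▸ ⟨x₀, hx₀, rfl⟩)).symm
    obtain ⟨k, m, hm, hkm⟩ : ∃ k m, ¬ p ∣ m ∧ orderOf n = p ^ k * m :=
      Nat.exists_eq_pow_mul_and_not_dvd (orderOf_pos n).ne' p hp.ne_one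
    refine ⟨k, Subtype.ext ?_⟩
    rw [SubmonoidClass.coe_pow, ← hg, ← map_pow]
    have h1 : n ^ p ^ k = 1 := by
      refine hcp x₀ hx₀ hx₀1 _ ((show Commute n x₀ from hnc).pow_left _).eq ?_
      rw [orderOf_pow' n (pow_ne_zero k hp.ne_zero), hkm, Nat.gcd_eq_right (dvd_mul_right (p ^ k) m),
        Nat.mul_div_cancel_left _ (pow_pos hp.pos k)]
      exact hm
    rw [h1, map_one]
    rfl
  have hCeq : C = Q := le_antisymm hCQ hQC
  have hidx : Q.index ≤ p - 1 ∧ ¬ p ∣ Q.index := by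
    let c : (X ⧸ L) →* MulAut A := MulAut.conjNormal
    have hker : c.ker = C := by
      ext y
      rw [MonoidHom.mem_ker, hCdef, Subgroup.mem_centralizer_iff]
      constructor
      · intro h a ha
        have h1 := congrArg Subtype.val (DFunLike.congr_fun h ⟨a, ha⟩)
        rw [MulAut.conjNormal_apply] at h1
        exact (mul_inv_eq_iff_eq_mul.1 h1).symm
      · intro h
        refine MulEquiv.ext fun a => Subtype.ext ?_
        change ((MulAut.conjNormal (H := A) y a : A) : X ⧸ L) = a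
        rw [MulAut.conjNormal_apply, ← h a a.2, mul_inv_cancel_right]
    have hd : Q.index ∣ p - 1 := by
      rw [← hCeq, ← hker, Subgroup.index_ker]
      refine (Subgroup.card_subgroup_dvd_card _).trans ?_
      rw [IsCyclic.card_mulAut, hcardA, Nat.totient_prime hp]
    have hpos : 0 < p - 1 := by have := hp.two_le; omega
    exact ⟨Nat.le_of_dvd hpos hd, fun h => by
      have := Nat.le_of_dvd hpos (h.trans hd); omega⟩
  have hQcard : p ^ 2 ∣ Nat.card Q := by
    refine (Nat.Coprime.pow_left 2 (hp.coprime_iff_not_dvd.2 hidx.2)).dvd_of_dvd_mul_right ?_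
    rw [Subgroup.card_mul_index]
    exact hsqY
  have hQA : ¬ Q ≤ A := fun h => by
    have h1 := hQcard.trans (Subgroup.card_dvd_of_le h)
    rw [hcardA] at h1
    have := Nat.le_of_dvd hp.pos h1
    nlinarith [hp.two_le]
  by_cases hQab : ∀ a ∈ Q, ∀ b ∈ Q, a * b = b * a
  · -- abelian case
    obtain ⟨S', hS'p, -, hS'map, hS'dis, hS'N⟩ := exists_lift L hL Q hQp
    have hS'1 : S' ≠ ⊥ := fun h0 => hQ1 (by rw [← hS'map, h0, Subgroup.map_bot])
    obtain ⟨B', hB'S, hB'ne, -, hvan'⟩ :=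
      exists_vanishing hOp L hL S' hS'p (habS S' Q hS'dis hS'map hQab) hS'1 hS'N hS'dis
    have hsub : ∀ q ∈ Q, q ∈ A ∨ q ∈ B'.map π := by
      intro q hq
      obtain ⟨s, hs, rfl⟩ := (hS'map.ge hq : q ∈ S'.map π)
      by_cases hsB : s ∈ B'
      · exact Or.inr ⟨s, hsB, rfl⟩
      refine Or.inl (hinA s (hvan' s 1 1 (by simpa using hs) (by simpa using hsB)) ?_)
      obtain ⟨k, hk⟩ := hS'p ⟨s, hs⟩
      obtain ⟨j, -, hj⟩ := (Nat.dvd_prime_pow hp).1
        (orderOf_dvd_of_pow_eq_one (by simpa using congrArg Subtype.val hk) : orderOf s ∣ p ^ k)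
      rw [hj]
      exact dvd_pow_self p fun h0 => hsB (by
        rw [show s = 1 from orderOf_eq_one_iff.1 (by rw [hj, h0, pow_zero])]
        exact one_mem _)
    obtain ⟨a, haQ, haA⟩ := SetLike.not_le_iff_exists.1 hQA
    have hB'Q : B'.map π ≤ Q := hS'map ▸ Subgroup.map_mono hB'S
    obtain ⟨b, hbQ, hbB⟩ : ∃ b ∈ Q, b ∉ B'.map π := by
      by_contra hne
      push Not at hne
      refine hB'ne (le_antisymm hB'S fun s hs => ?_)
      obtain ⟨b, hb, hbs⟩ := hne _ (hS'map ▸ ⟨s, hs, rfl⟩ : π s ∈ Q)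
      have h6 := hinjπ S' hS'dis (b⁻¹ * s) (S'.mul_mem (S'.inv_mem (hB'S hb)) hs) (by
        rw [map_mul, map_inv, hbs, inv_mul_cancel])
      rwa [inv_mul_eq_one.1 h6] at hb
    have haB : a ∈ B'.map π := (hsub a haQ).resolve_left haA
    have hbA : b ∈ A := (hsub b hbQ).resolve_right hbB
    rcases hsub (a * b) (Q.mul_mem haQ hbQ) with h | h
    · exact haA (by simpa using A.mul_mem h (A.inv_mem hbA))
    · exact hbB (by simpa using (B'.map π).mul_mem ((B'.map π).inv_mem haB) h)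
  · -- nonabelian case
    have hnab : ¬ commutator Q ≤ (⊥ : Subgroup Q) := fun h => hQab fun a ha b hb =>
      congrArg Subtype.val (commutatorElement_eq_one_iff_mul_comm.1 (Subgroup.mem_bot.1
        (h (Subgroup.commutator_mem_commutator (Subgroup.mem_top (⟨a, ha⟩ : Q))
          (Subgroup.mem_top (⟨b, hb⟩ : Q))))))
    obtain ⟨N, hN⟩ := (Set.toFinite {N : Subgroup Q | N.Normal ∧ ¬ commutator Q ≤ N}).exists_maximal
      ⟨⊥, inferInstance, hnab⟩
    have hNn : N.Normal := hN.1.1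
    let μ := QuotientGroup.mk' N
    have hμ : Function.Surjective μ := QuotientGroup.mk'_surjective N
    have hQNp : IsPGroup p (Q ⧸ N) := hQp.to_quotient N
    have hmin : ∀ R : Subgroup (Q ⧸ N), R.Normal → R ≠ ⊥ → commutator (Q ⧸ N) ≤ R := by
      intro R hR hR1
      have hle : commutator Q ≤ R.comap μ := by
        by_contra hne
        have hNR : N ≤ R.comap μ := fun x hx => by
          rw [Subgroup.mem_comap, show μ x = 1 from (QuotientGroup.eq_one_iff x).2 hx]
          exact one_mem _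
        refine hR1 (eq_bot_iff.2 fun r hr => ?_)
        obtain ⟨x, rfl⟩ := hμ r
        exact Subgroup.mem_bot.2 ((QuotientGroup.eq_one_iff x).2 (hN.2 ⟨hR.comap μ, hne⟩ hNR hr))
      rw [show commutator (Q ⧸ N) = (commutator Q).map μ by
        rw [commutator_def, commutator_def, Subgroup.map_commutator,
          Subgroup.map_top_of_surjective μ hμ]]
      exact Subgroup.map_le_iff_le_comap.2 hle
    obtain ⟨u₁, u₂, hu⟩ : ∃ u₁ u₂ : Q, ⁅u₁, u₂⁆ ∉ N := by
      by_contra hne
      push Not at hne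
      exact hN.1.2 (by
        rw [commutator_def, Subgroup.commutator_le]
        exact fun a _ b _ => hne a b)
    have hnt : Nontrivial (Q ⧸ N) := ⟨μ ⁅u₁, u₂⁆, 1, fun h => hu ((QuotientGroup.eq_one_iff _).1 h)⟩
    have hZ1 : Subgroup.center (Q ⧸ N) ≠ ⊥ := by
      have := hQNp.center_nontrivial
      exact (Subgroup.nontrivial_iff_ne_bot _).1 inferInstance
    have hcomZ : commutator (Q ⧸ N) ≤ Subgroup.center (Q ⧸ N) := hmin _ inferInstance hZ1
    have hz1 : μ ⁅u₁, u₂⁆ ≠ 1 := fun h => hu ((QuotientGroup.eq_one_iff _).1 h)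
    obtain ⟨d, σ, hσ, hσz⟩ := CharKernel.exists_irreducible_apply_ne_one (μ ⁅u₁, u₂⁆) hz1
    have hker : ∀ z ∈ commutator (Q ⧸ N), σ z = 1 → z = 1 := by
      intro z hz hz0
      by_contra hne
      let R : Subgroup (Q ⧸ N) :=
        { carrier := {w | σ w = 1 ∧ w ∈ commutator (Q ⧸ N)}
          one_mem' := ⟨map_one σ, one_mem _⟩
          mul_mem' := fun ha hb => ⟨by rw [map_mul, ha.1, hb.1, one_mul],
            Subgroup.mul_mem _ ha.2 hb.2⟩
          inv_mem' := fun {a} ha => ⟨by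
            have h1 : σ a⁻¹ * σ a = 1 := by rw [← map_mul, inv_mul_cancel, map_one]
            rwa [ha.1, mul_one] at h1, Subgroup.inv_mem _ ha.2⟩ }
      have hRn : R.Normal := ⟨fun a ha w => ⟨by
        rw [map_mul, map_mul, ha.1, mul_one, ← map_mul, mul_inv_cancel, map_one],
        (inferInstance : (commutator (Q ⧸ N)).Normal).conj_mem a ha.2 w⟩⟩
      have h1 : μ ⁅u₁, u₂⁆ ∈ R := hmin R hRn
        (fun h0 => hne ((Subgroup.eq_bot_iff_forall R).1 h0 z ⟨hz0, hz⟩))
        (by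
          rw [map_commutatorElement]
          exact Subgroup.commutator_mem_commutator (Subgroup.mem_top _) (Subgroup.mem_top _))
      exact hσz h1.1
    let Zc : Subgroup Q := (Subgroup.center (Q ⧸ N)).comap μ
    have hψ0 : ∀ q : Q, q ∉ Zc → σ.character (μ q) = 0 := by
      intro q hq
      obtain ⟨w, hw⟩ : ∃ w : Q ⧸ N, ⁅μ q, w⁆ ≠ 1 := by
        by_contra hne
        push Not at hne
        exact hq (Subgroup.mem_center_iff.2 fun w =>
          (commutatorElement_eq_one_iff_mul_comm.1 (hne w)).symm)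
      set z := ⁅μ q, w⁆ with hz
      have hzc : z ∈ commutator (Q ⧸ N) :=
        Subgroup.commutator_mem_commutator (Subgroup.mem_top _) (Subgroup.mem_top _)
      obtain ⟨s, hs⟩ := exists_scalar_of_commute σ (σ z) fun g => by
        rw [← map_mul, ← map_mul, Subgroup.mem_center_iff.1 (hcomZ hzc) g]
      have hs1 : s ≠ 1 := fun h => hw (hker z hzc (by rw [hs, h, one_smul]))
      have h1 : σ.character (w * μ q * w⁻¹) = σ.character (μ q) :=
        Representation.char_conj σ (μ q) w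
      have h2 : w * μ q * w⁻¹ = z⁻¹ * μ q := by
        rw [hz, commutatorElement_def]
        group
      have h4 : σ z * σ z⁻¹ = 1 := by rw [← map_mul, mul_inv_cancel, map_one]
      have hq' : σ (μ q) = s • σ (z⁻¹ * μ q) := by
        calc σ (μ q) = σ z * σ (z⁻¹ * μ q) := by rw [← map_mul, mul_inv_cancel_left]
          _ = s • σ (z⁻¹ * μ q) := by rw [hs, smul_mul_assoc, one_mul]
      have h3 : σ.character (μ q) = s * σ.character (z⁻¹ * μ q) := by
        simp only [Representation.character, hq', map_smul, smul_eq_mul]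
      rw [← h2, h1] at h3
      have h5 : (1 - s) * σ.character (μ q) = 0 := by rw [sub_mul, one_mul, ← h3, sub_self]
      exact (mul_eq_zero.1 h5).resolve_left (sub_ne_zero.2 (Ne.symm hs1))
    -- an element outside all conjugates of `Zc`
    let Zy : Subgroup (X ⧸ L) := Zc.map Q.subtype
    have hAZy : A ≤ Zy := fun a ha => ⟨⟨a, hZQQ (hAZ ha)⟩, Subgroup.mem_center_iff.2 fun w => by
      obtain ⟨w, rfl⟩ := hμ w
      rw [← map_mul, ← map_mul]
      exact congrArg μ (Subtype.ext (hZQc a (hAZ ha) w w.2).symm), rfl⟩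
    have hZcN : Subgroup.center (Q ⧸ N) ≠ ⊤ := fun h => hz1 (by
      rw [map_commutatorElement, commutatorElement_eq_one_iff_mul_comm]
      exact (Subgroup.mem_center_iff.1 (h ▸ Subgroup.mem_top (μ u₁)) (μ u₂)).symm)
    have hZy : p * Nat.card Zy ≤ Nat.card Q := by
      have h1 : Nat.card Zy = Nat.card Zc := Subgroup.card_map_of_injective Q.subtype_injective
      rw [h1, ← Subgroup.card_mul_index Zc, mul_comm p]
      refine Nat.mul_le_mul_left _ ?_
      obtain ⟨j, hj⟩ := hQp.index Zc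
      rw [hj]
      refine Nat.le_self_pow (fun h0 => hZcN ?_) p
      rw [h0, pow_zero, Subgroup.index_eq_one] at hj
      exact eq_top_iff.2 fun w _ => by
        obtain ⟨w, rfl⟩ := hμ w
        exact (hj ▸ Subgroup.mem_top w : w ∈ Zc)
    obtain ⟨q, hqQ, hqout⟩ : ∃ q ∈ Q, ∀ y, y * q * y⁻¹ ∉ Zy := by
      by_contra hne
      push Not at hne
      have hZyQ : Zy ≤ Q := Subgroup.map_subtype_le _
      choose f hf using hne
      let g : Q → ((X ⧸ L) ⧸ Q) × Zy := fun q =>
        (((f q q.2 : X ⧸ L) : (X ⧸ L) ⧸ Q),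
          ⟨(((f q q.2 : X ⧸ L) : (X ⧸ L) ⧸ Q).out) * q * (((f q q.2 : X ⧸ L) : (X ⧸ L) ⧸ Q).out)⁻¹, by
            set y := f q q.2
            obtain ⟨⟨k, hk⟩, hky⟩ := QuotientGroup.mk_out_eq_mul Q y
            rw [hky]
            have hk' : y * k * y⁻¹ ∈ Q := hQn.conj_mem k hk y
            obtain ⟨z, hz, hzq⟩ := hf q q.2
            have hzc : (⟨y * k * y⁻¹, hk'⟩ : Q) * z * (⟨y * k * y⁻¹, hk'⟩ : Q)⁻¹ ∈ Zc :=
              ((inferInstance : (Subgroup.center (Q ⧸ N)).Normal).comap μ).conj_mem z hz _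
            refine ⟨_, hzc, ?_⟩
            change (y * k * y⁻¹) * (z : X ⧸ L) * (y * k * y⁻¹)⁻¹ = _
            rw [show (z : X ⧸ L) = y * q * y⁻¹ from hzq]
            group⟩)
      have hg : Function.Injective g := fun a b h => by
        have h1 := congrArg Prod.fst h
        have h2 := congrArg (fun w : ((X ⧸ L) ⧸ Q) × Zy => (w.2 : X ⧸ L)) h
        simp only [g] at h1 h2
        rw [← h1] at h2
        exact Subtype.ext (mul_left_cancel (mul_right_cancel h2))
      have h1 := Nat.card_le_card_of_injective g hg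
      rw [Nat.card_prod, ← Subgroup.index] at h1
      have h2 : Q.index * Nat.card Zy ≤ (p - 1) * Nat.card Zy := Nat.mul_le_mul_right _ hidx.1
      have h3 : 0 < Nat.card Zy := Nat.card_pos
      have h4 : (p - 1) * Nat.card Zy < p * Nat.card Zy :=
        Nat.mul_lt_mul_of_pos_right (by have := hp.two_le; omega) h3
      omega
    have hqA : q ∉ A := fun h => hqout 1 (by simpa using hAZy h)
    -- the character
    let : Fintype Q := Fintype.ofFinite Q
    let : Fintype (X ⧸ L) := Fintype.ofFinite _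
    have hσi : IsIrrCharacter (Q ⧸ N) σ.character := ⟨d, σ, hσ, rfl⟩
    have hψ := CharTwist.isIrrCharacter_comp hσi μ hμ
    obtain ⟨χ, hχ, hχc⟩ : ∃ χ : X ⧸ L → ℂ, IsIrrCharacter (X ⧸ L) χ ∧
        classInner (fun x : Q => χ x) (σ.character ∘ μ) ≠ 0 := by
      obtain ⟨χ, hχ, hne⟩ := CfsgLib.Clifford.exists_constituent
        (IsCharacter.indFun Q (IsIrrCharacter.isCharacter hψ))
        (by
          rw [indFun_apply_one]
          exact mul_ne_zero (Nat.cast_ne_zero.mpr Subgroup.index_ne_zero_of_finite)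
            (IsIrrCharacter.apply_one_ne_zero hψ))
      refine ⟨χ, hχ, fun h0 => hne ?_⟩
      rw [classInner_indFun Q _ χ (IsIrrCharacter.isClassFunction hχ),
        ← classInner_conj_symm (fun n : Q => χ n) (σ.character ∘ μ)]
      simp only [h0, map_zero]
    have hχq : χ q = 0 := by
      have h1 := congrFun (CfsgLib.Clifford.res_eq Q hχ hψ hχc) ⟨q, hqQ⟩
      simp only [Pi.smul_apply, Finset.sum_apply, smul_eq_mul] at h1
      rw [h1, Finset.sum_eq_zero, mul_zero]
      intro φ hφ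
      obtain ⟨y, rfl⟩ := (CfsgLib.Clifford.mem_orbit Q).mp hφ
      exact hψ0 ⟨y * q * y⁻¹, hQn.conj_mem q hqQ y⟩ fun hmem => hqout y ⟨_, hmem, rfl⟩
    obtain ⟨g, rfl⟩ := hπ q
    refine hqA (hinA g ⟨⟨χ ∘ π, CharTwist.isIrrCharacter_comp hχ π hπ⟩, hχq⟩ ?_)
    refine (?_ : p ∣ orderOf (π g)).trans (orderOf_map_dvd π g)
    obtain ⟨k, hk⟩ := hQp ⟨π g, hqQ⟩
    obtain ⟨j, -, hj⟩ := (Nat.dvd_prime_pow hp).1
      (orderOf_dvd_of_pow_eq_one (by simpa using congrArg Subtype.val hk) : orderOf (π g) ∣ p ^ k)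
    rw [hj]
    exact dvd_pow_self p fun h0 => hqA (by
      rw [show π g = 1 from orderOf_eq_one_iff.1 (by rw [hj, h0, pow_zero])]
      exact one_mem _)

/-- The Sylow subgroup is at most `p` times the `p`-core. -/
theorem card_sylow_le {G : Type u} [Group G] [Finite G] [Group.IsSolvable G] {p : ℕ}
    [Fact p.Prime]
    (h1 : Set.ncard {C : ConjClasses G | (∀ g ∈ C.carrier, ∃ χ : IrrCharacter G, (χ : G → ℂ) g = 0) ∧
      ∃ g ∈ C.carrier, p ∣ orderOf g} = 1)
    (P : Sylow p G) : Nat.card (P : Subgroup G) ≤ p * Nat.card (pCore p G) := by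
  classical
  have hp : p.Prime := Fact.out
  set O := pCore p G with hO
  have hOn : O.Normal := Solvable.pCore_normal p G
  obtain ⟨C₀, hC₀⟩ := Set.ncard_eq_one.1 h1
  let π := QuotientGroup.mk' O
  have hπ : Function.Surjective π := QuotientGroup.mk'_surjective O
  have : Group.IsSolvable (G ⧸ O) := Group.isSolvable_of_surjective hπ
  have hkey : ∀ u : G, Van (π u) → p ∣ orderOf (π u) → ConjClasses.mk u = C₀ := by
    intro u hu huo
    have hmem : ConjClasses.mk u ∈ ({C₀} : Set (ConjClasses G)) := by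
      rw [← hC₀]
      refine ⟨fun g hg => ?_, u, ConjClasses.mem_carrier_mk, huo.trans (orderOf_map_dvd π u)⟩
      obtain ⟨χ, hχ⟩ := hu
      refine ⟨⟨(χ : G ⧸ O → ℂ) ∘ π, CharTwist.isIrrCharacter_comp χ.2 π hπ⟩, ?_⟩
      obtain ⟨c, hc⟩ := isConj_iff.1
        (ConjClasses.mk_eq_mk_iff_isConj.1 (ConjClasses.mem_carrier_iff_mk_eq.1 hg))
      change (χ : G ⧸ O → ℂ) (π g) = 0
      rw [← hχ, ← hc, map_mul, map_mul, map_inv]
      exact (IsIrrCharacter.isClassFunction χ.2 (π g) (π c)).symm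
    exact hmem
  have hns : ¬ p ^ 2 ∣ Nat.card (G ⧸ O) := by
    refine not_sq_dvd_card (Solvable.pCore_quotient_eq_bot O rfl) fun a b ha hao hb hbo => ?_
    obtain ⟨u, rfl⟩ := hπ a
    obtain ⟨w, rfl⟩ := hπ b
    exact π.map_isConj (ConjClasses.mk_eq_mk_iff_isConj.1
      ((hkey u ha hao).trans (hkey w hb hbo).symm))
  obtain ⟨o, ho⟩ := Solvable.card_pCore (p := p) (G := G)
  obtain ⟨k, hk⟩ := IsPGroup.iff_card.mp P.isPGroup'
  rw [hk, hO, ho, ← pow_succ']
  refine Nat.pow_le_pow_right hp.pos ?_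
  by_contra hlt
  refine hns ?_
  have h2 : p ^ (o + 2) ∣ Nat.card (G ⧸ O) * p ^ o := by
    rw [← ho, ← hO, ← O.card_eq_card_quotient_mul_card_subgroup]
    exact (pow_dvd_pow p (by omega)).trans (hk ▸ Subgroup.card_subgroup_dvd_card _)
  rw [pow_add, mul_comm] at h2
  exact Nat.dvd_of_mul_dvd_mul_right (pow_pos hp.pos o) h2

end CfsgLib.KGV.VanOne
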